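import Mathlib
import Cfsg.Agent.H364.Iso2
import Cfsg.Agent.S0033

/-!
# Groups with two types of centralisers

`TT G m`: every non-identity element of `G` has a centraliser of order `m` or prime to `m`, and `m` occurs. Structure
theorem `TT.struct`: if `m > 1` is odd, `G` has no non-trivial normal `t`-subgroup for `t ≠ p` and `|G|` is large, then
`G` is a `p`-group extended by an almost simple group.
-/

set_option autoImplicit false

namespace Cfsg.Agent.H992.TC

open Subgroup Cfsg.Agent.H364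

variable {G : Type*} [Group G]

/-- every non-identity element has a centraliser of order `m` or prime to `m`, and `m` occurs -/
structure TT (G : Type*) [Group G] (m : ℕ) : Prop where
  two : ∀ g : G, g ≠ 1 → Nat.card (centralizer ({g} : Set G)) = m ∨ (Nat.card (centralizer ({g} : Set G))).Coprime m
  ex : ∃ g : G, g ≠ 1 ∧ Nat.card (centralizer ({g} : Set G)) = m

/-- The class of an element of a normal subgroup. -/
theorem index_lt_card [Finite G] {W : Subgroup G} (hW : W.Normal) {w : G} (hw : w ∈ W) (hw1 : w ≠ 1) :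
    (centralizer ({w} : Set G)).index < Nat.card W := by
  classical
  let f : G ⧸ centralizer ({w} : Set G) → W := Quotient.lift (fun g : G => (⟨g * w * g⁻¹, hW.conj_mem w hw g⟩ : W))
    (fun a b hab => by
      have h1 : a⁻¹ * b ∈ centralizer ({w} : Set G) := QuotientGroup.leftRel_apply.1 hab
      rw [mem_centralizer_singleton_iff] at h1
      apply Subtype.ext
      show a * w * a⁻¹ = b * w * b⁻¹
      have h2 : b = a * (a⁻¹ * b) := by group
      calc a * w * a⁻¹ = a * (w * (a⁻¹ * b)) * (a⁻¹ * b)⁻¹ * a⁻¹ := by group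
        _ = a * ((a⁻¹ * b) * w) * (a⁻¹ * b)⁻¹ * a⁻¹ := by rw [h1]
        _ = _ := by group)
  have hf : Function.Injective f := by
    intro x y
    induction x using QuotientGroup.induction_on with | _ a => ?_
    induction y using QuotientGroup.induction_on with | _ b => ?_
    intro hab
    have h1 : a * w * a⁻¹ = b * w * b⁻¹ := congrArg Subtype.val hab
    refine QuotientGroup.eq.2 ?_
    rw [mem_centralizer_singleton_iff]
    calc a⁻¹ * b * w = a⁻¹ * (b * w * b⁻¹) * b := by group
      _ = a⁻¹ * (a * w * a⁻¹) * b := by rw [h1]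
      _ = _ := by group
  have hne : ∀ x, f x ≠ 1 := by
    intro x
    induction x using QuotientGroup.induction_on with | _ a => ?_
    intro h
    have h1 : a * w * a⁻¹ = 1 := congrArg Subtype.val h
    apply hw1
    calc w = a⁻¹ * (a * w * a⁻¹) * a := by group
      _ = 1 := by rw [h1]; group
  have h1 : Nat.card (G ⧸ centralizer ({w} : Set G)) = Nat.card (Set.range f) :=
    Nat.card_congr (Equiv.ofInjective f hf)
  rw [index_eq_card, h1]
  have h2 : Set.range f ⊂ Set.univ := by
    rw [Set.ssubset_univ_iff]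
    intro h
    have : (1 : W) ∈ Set.range f := h ▸ Set.mem_univ _
    obtain ⟨x, hx⟩ := this
    exact hne x hx
  have h3 := Set.ncard_lt_ncard h2 (Set.toFinite _)
  rwa [Set.ncard_univ] at h3

namespace TT

variable {m : ℕ}

theorem card_of_dvd (h : TT G m) {x : G} (hx : x ≠ 1) {r : ℕ} (hr : r.Prime) (hrm : r ∣ m)
    (hrc : r ∣ Nat.card (centralizer ({x} : Set G))) : Nat.card (centralizer ({x} : Set G)) = m := by
  rcases h.two x hx with h1 | h1
  · exact h1
  · exact absurd (Nat.dvd_gcd hrc hrm) (by rw [h1]; exact hr.one_lt.ne' ∘ Nat.dvd_one.1)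

variable [Finite G]

theorem card_of_orderOf (h : TT G m) {x : G} {r : ℕ} (hr : r.Prime) (hrm : r ∣ m) (hrx : r ∣ orderOf x) :
    Nat.card (centralizer ({x} : Set G)) = m := by
  have hx : x ≠ 1 := by
    rintro rfl
    rw [orderOf_one] at hrx
    exact hr.one_lt.ne' (Nat.dvd_one.1 hrx)
  refine h.card_of_dvd hx hr hrm (hrx.trans ?_)
  have h1 : x ∈ centralizer ({x} : Set G) := mem_centralizer_singleton_iff.2 rfl
  have h2 := orderOf_dvd_natCard (⟨x, h1⟩ : centralizer ({x} : Set G))
  rwa [Subgroup.orderOf_mk] at h2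

theorem noEdge (h : TT G m) {r s : ℕ} (hr : r.Prime) (hs : s.Prime) (hrm : r ∣ m) (hsm : ¬ s ∣ m) :
    NoEdge G r s := by
  intro x hx
  have h1 := h.card_of_orderOf (x := x) hr hrm (hx ▸ Dvd.intro _ rfl)
  apply hsm
  rw [← h1]
  have h2 : x ∈ centralizer ({x} : Set G) := mem_centralizer_singleton_iff.2 rfl
  have h3 := orderOf_dvd_natCard (⟨x, h2⟩ : centralizer ({x} : Set G))
  rw [Subgroup.orderOf_mk, hx] at h3
  exact (Dvd.intro_left _ rfl).trans h3

theorem dvd_card (h : TT G m) : m ∣ Nat.card G := by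
  obtain ⟨g, -, hg⟩ := h.ex
  rw [← hg]
  exact card_subgroup_dvd_card _

theorem factorization (h : TT G m) {r : ℕ} (hr : r.Prime) (hrm : r ∣ m) :
    (Nat.card G).factorization r = m.factorization r := by
  have := Fact.mk hr
  have hrG := hrm.trans h.dvd_card
  obtain ⟨R⟩ : Nonempty (Sylow r G) := inferInstance
  have hR : Nat.card R = r ^ (Nat.card G).factorization r := R.card_eq_multiplicity
  have hRn : Nontrivial (R : Subgroup G) := by
    rw [← Finite.one_lt_card_iff_nontrivial, hR]
    exact Nat.one_lt_pow ((hr.factorization_pos_of_dvd Nat.card_pos.ne' hrG).ne') hr.one_lt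
  have hz := (IsPGroup.center_nontrivial (p := r) R.isPGroup' : Nontrivial (center (R : Subgroup G)))
  obtain ⟨⟨z, hz⟩, hz1⟩ := exists_ne (1 : center (R : Subgroup G))
  have hz1' : (z : G) ≠ 1 := fun h0 => hz1 (Subtype.ext (Subtype.ext h0))
  have hle : (R : Subgroup G) ≤ centralizer ({(z : G)} : Set G) := by
    intro y hy
    rw [mem_centralizer_singleton_iff]
    exact congrArg Subtype.val (mem_center_iff.1 hz ⟨y, hy⟩)
  have hcd : Nat.card (R : Subgroup G) ∣ Nat.card (centralizer ({(z : G)} : Set G)) := card_dvd_of_le hle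
  have hrd : r ∣ Nat.card (centralizer ({(z : G)} : Set G)) := by
    refine dvd_trans ?_ hcd
    have : Nat.card (R : Subgroup G) = r ^ (Nat.card G).factorization r := hR
    rw [this]
    exact dvd_pow_self r (hr.factorization_pos_of_dvd Nat.card_pos.ne' hrG).ne'
  have hcm := h.card_of_dvd hz1' hr hrm hrd
  rw [hcm] at hcd
  have hm0 : m ≠ 0 := fun h0 => Nat.card_pos.ne' (Nat.eq_zero_of_zero_dvd (h0 ▸ h.dvd_card))
  apply le_antisymm
  · rw [← hr.pow_dvd_iff_le_factorization hm0, ← hR]
    exact hcd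
  · exact (Nat.factorization_le_iff_dvd hm0 Nat.card_pos.ne').2 h.dvd_card r

/-- normal subgroups of order prime to `m` are nilpotent -/
theorem nilpotent (h : TT G m) (hm : 1 < m) {K : Subgroup G} [hK : K.Normal] (hKm : (Nat.card K).Coprime m) :
    Group.IsNilpotent K := by
  obtain ⟨r, hr, hrm⟩ := Nat.exists_prime_and_dvd hm.ne'
  have := Fact.mk hr
  obtain ⟨x, hx⟩ := exists_prime_orderOf_dvd_card' r (hrm.trans h.dvd_card)
  have hfix : ∀ k ∈ K, x * k * x⁻¹ = k → k = 1 := by
    intro k hk hxk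
    by_contra hk1
    obtain ⟨s, hs, hsk⟩ := Nat.exists_prime_and_dvd (n := orderOf k) (fun h1 => hk1 (orderOf_eq_one_iff.1 h1))
    have hsK : s ∣ Nat.card K := by
      have h1 := orderOf_dvd_natCard (⟨k, hk⟩ : K)
      rw [Subgroup.orderOf_mk] at h1
      exact hsk.trans h1
    have hsm : ¬ s ∣ m := fun h1 => hs.one_lt.ne' (Nat.dvd_one.1 (hKm ▸ Nat.dvd_gcd hsK h1))
    have hc : Commute x k := mul_inv_eq_iff_eq_mul.1 hxk
    refine (h.noEdge hr hs hrm hsm).false_of_dvd hr hs ?_ hc (by rw [hx]) hsk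
    rintro rfl
    exact hsm hrm
  by_cases hKb : K = ⊥
  · subst hKb
    infer_instance
  let φ : K ≃* K := MulAut.conjNormal x
  have hφ : ∀ k : K, ((φ k : K) : G) = x * k * x⁻¹ := fun k => MulAut.conjNormal_apply x k
  refine Cfsg.Agent.S0033.result φ ?_ r hr ?_
  · intro k hk
    apply Subtype.ext
    refine hfix k k.2 ?_
    rw [← hφ]
    exact congrArg Subtype.val hk
  · refine orderOf_eq_prime ?_ ?_
    · show (MulAut.conjNormal x : MulAut K) ^ r = 1
      rw [← map_pow, ← hx, pow_orderOf_eq_one, map_one]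
    · intro h1
      apply hKb
      rw [eq_bot_iff]
      intro k hk
      rw [mem_bot]
      refine hfix k hk ?_
      rw [← hφ ⟨k, hk⟩, h1]
      rfl

/-- ... and `p`-groups, if there are no non-trivial normal `t`-subgroups, `t ≠ p` -/
theorem isPGroup (h : TT G m) (hm : 1 < m) {p : ℕ} (hp : p.Prime)
    (hVt : ∀ t, t.Prime → t ≠ p → ∀ V : Subgroup G, V.Normal → IsPGroup t V → V = ⊥)
    {K : Subgroup G} [hK : K.Normal] (hKm : (Nat.card K).Coprime m) : IsPGroup p K := by
  have hn := h.nilpotent hm hKm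
  have hall := (Group.isNilpotent_of_finite_tfae (G := K)).out 0 3
  have hsyl : ∀ (t : ℕ) (_ : Fact t.Prime) (P : Sylow t K), P.Normal := hall.1 hn
  have := Fact.mk hp
  rw [IsPGroup.iff_card]
  have hpr : ∀ t, t.Prime → t ∣ Nat.card K → t = p := by
    intro t ht htK
    by_contra htp
    have := Fact.mk ht
    obtain ⟨P⟩ : Nonempty (Sylow t K) := inferInstance
    have hP := hsyl t ⟨ht⟩ P
    have hPc : (P : Subgroup K).Characteristic := Sylow.characteristic_of_normal P hP
    have h1 : ((P : Subgroup K).map K.subtype).Normal := inferInstance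
    have h2 := hVt t ht htp _ h1 (P.isPGroup'.map _)
    have h3 : (P : Subgroup K) = ⊥ := (Subgroup.map_eq_bot_iff_of_injective _ K.subtype_injective).1 h2
    exact P.ne_bot_of_dvd_card htK h3
  refine ⟨(Nat.card K).primeFactorsList.length, ?_⟩
  exact (Nat.eq_prime_pow_of_unique_prime_dvd Nat.card_pos.ne' fun {d} hd hdd => hpr d hd hdd)

/-- **Structure theorem.** -/
theorem struct (h : TT G m) (hm : 1 < m) (hm2 : ¬ 2 ∣ m) {p : ℕ} (hp : p.Prime) (hpm : ¬ p ∣ m)
    (hVt : ∀ t, t.Prime → t ≠ p → ∀ V : Subgroup G, V.Normal → IsPGroup t V → V = ⊥)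
    (hN : p ^ (Nat.card G).factorization p * m ^ 2 ≤ Nat.card G) :
    ∃ (K : Subgroup G) (_ : K.Normal), IsPGroup p K ∧ ∃ N : Subgroup (G ⧸ K), N.Normal ∧ IsSimpleGroup N ∧
      (¬ ∀ a b : N, a * b = b * a) ∧ centralizer (N : Set (G ⧸ K)) = ⊥ ∧
      (∃ r, r.Prime ∧ r ∣ m ∧ r ∣ Nat.card N) ∧
      ∀ r s : ℕ, r.Prime → s.Prime → r ∣ m → ¬ s ∣ m → NoEdge (G ⧸ K) r s := by
  obtain ⟨K, hK, hKm, hmax⟩ := exists_core G m
  have hKp : IsPGroup p K := h.isPGroup hm hp hVt hKm
  have := Fact.mk hp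
  have hm0 : m ≠ 0 := by omega
  -- the quotient
  have hcore : ∀ L : Subgroup (G ⧸ K), L.Normal → (Nat.card L).Coprime m → L = ⊥ :=
    fun L hL hLm => core_quotient hKm hmax L hL hLm
  have hedge : ∀ r s : ℕ, r.Prime → s.Prime → r ∣ m → ¬ s ∣ m → NoEdge (G ⧸ K) r s :=
    fun r s hr hs hrm hsm => noEdge_quotient K (h.noEdge hr hs hrm hsm)
  have hKle : Nat.card K ≤ p ^ (Nat.card G).factorization p := by
    obtain ⟨k, hk⟩ := IsPGroup.iff_card.1 hKp
    rw [hk]
    apply Nat.pow_le_pow_right hp.pos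
    rw [← hp.pow_dvd_iff_le_factorization Nat.card_pos.ne', ← hk]
    exact card_subgroup_dvd_card K
  have hcop : (Nat.card (G ⧸ K)) * Nat.card K = Nat.card G := by
    rw [← Subgroup.index_eq_card, mul_comm]; exact K.card_mul_index
  have hnt : Nontrivial (G ⧸ K) := by
    rw [← Finite.one_lt_card_iff_nontrivial]
    by_contra hle
    have h1 : Nat.card (G ⧸ K) = 1 := le_antisymm (not_lt.1 hle) Nat.card_pos
    rw [h1, one_mul] at hcop
    obtain ⟨r, hr, hrm⟩ := Nat.exists_prime_and_dvd hm.ne'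
    exact hr.one_lt.ne' (Nat.dvd_one.1 (hKm ▸ Nat.dvd_gcd (hcop ▸ hrm.trans h.dvd_card) hrm))
  obtain ⟨N, hNn, hN1, hmin⟩ := exists_minimal_normal (G ⧸ K)
  obtain ⟨r, hr, hrN, hrm⟩ := Nat.Prime.not_coprime_iff_dvd.1 (fun hc => hN1 (hcore N hNn hc))
  have := Fact.mk hr
  refine ⟨K, hK, hKp, N, hNn, ?_⟩
  rcases minimal_normal_cases N hN1 hmin hr hrN with hpg | ⟨k, S, hk, hSN, hS, hSna, hSr, hScard, hScomm, hSsup⟩
  · exfalso
    -- an element of the preimage outside `K`
    set W : Subgroup G := N.comap (QuotientGroup.mk' K) with hW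
    have hWn : W.Normal := hNn.comap _
    obtain ⟨⟨x, hx⟩, hx1⟩ : ∃ x : N, x ≠ 1 := by
      by_contra hcon
      push Not at hcon
      apply hN1
      rw [eq_bot_iff]
      intro y hy
      exact congrArg Subtype.val (hcon ⟨y, hy⟩)
    obtain ⟨w, rfl⟩ := QuotientGroup.mk_surjective x
    have hwW : w ∈ W := hx
    have hw1 : (w : G ⧸ K) ≠ 1 := fun h0 => hx1 (Subtype.ext h0)
    have hrw : r ∣ orderOf w := by
      have h1 : r ∣ orderOf (w : G ⧸ K) := dvd_orderOf_of_pgroup' hr hpg hx hw1
      exact h1.trans (orderOf_map_dvd (QuotientGroup.mk' K) w)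
    have hC := h.card_of_orderOf hr hrm hrw
    have hw : w ≠ 1 := by rintro rfl; exact hw1 rfl
    have h1 := index_lt_card hWn hwW hw
    have h2 := (centralizer ({w} : Set G)).card_mul_index
    rw [hC] at h2
    have hWc : Nat.card W = Nat.card K * Nat.card N := by
      have h2 := Subgroup.card_mul_index W
      have h3 := Subgroup.card_mul_index N
      have h4 := Subgroup.card_mul_index K
      rw [hW, Subgroup.index_comap_of_surjective _ (QuotientGroup.mk'_surjective K)] at h2
      rw [Subgroup.index_eq_card K, ← h3] at h4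
      have h5 : N.index ≠ 0 := Subgroup.index_ne_zero_of_finite
      apply Nat.eq_of_mul_eq_mul_right (Nat.pos_of_ne_zero h5)
      rw [← hW] at h2
      rw [h2, ← h4]; ring
    have hNm : Nat.card N ≤ m := by
      obtain ⟨j, hj⟩ := IsPGroup.iff_card.1 hpg
      rw [hj]
      refine Nat.le_of_dvd (by omega) ?_
      rw [hr.pow_dvd_iff_le_factorization hm0, ← h.factorization hr hrm,
        ← hr.pow_dvd_iff_le_factorization Nat.card_pos.ne', ← hj, ← hcop]
      exact (card_subgroup_dvd_card N).trans (Dvd.intro _ rfl)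
    have h3 : Nat.card G < p ^ (Nat.card G).factorization p * m ^ 2 := by
      calc Nat.card G = m * (centralizer ({w} : Set G)).index := h2.symm
        _ < m * Nat.card W := Nat.mul_lt_mul_of_pos_left h1 (by omega)
        _ = Nat.card K * (Nat.card N * m) := by rw [hWc]; ring
        _ ≤ p ^ (Nat.card G).factorization p * (m * m) := Nat.mul_le_mul hKle (Nat.mul_le_mul_right _ hNm)
        _ = _ := by ring
    omega
  · have hS2 : ∀ i, 2 ∣ Nat.card (S i) := fun i => by
      have := hS i
      exact two_dvd_card (hSna i)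
    have hr2 : r ≠ 2 := by rintro rfl; exact hm2 hrm
    have hk1 : k = 1 := by
      by_contra hne
      have h01 : (⟨0, hk⟩ : Fin k) ≠ ⟨1, by omega⟩ := by
        intro h; simp at h
      exact (hedge r 2 hr Nat.prime_two hrm hm2).false_of_subgroups hr Nat.prime_two hr2
        (hScomm _ _ h01) (hSr _) (hS2 _)
    subst hk1
    have hNS : S 0 = N := by
      rw [← hSsup]
      exact (iSup_unique (f := S)).symm
    have hNs : IsSimpleGroup N := hNS ▸ hS 0
    have hNna : ¬ ∀ a b : N, a * b = b * a := hNS ▸ hSna 0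
    have hN2 : 2 ∣ Nat.card N := hNS ▸ hS2 0
    have hcent : centralizer (N : Set (G ⧸ K)) = ⊥ := by
      refine hcore _ inferInstance ?_
      by_contra hc
      obtain ⟨r', hr', hr'C, hr'm⟩ := Nat.Prime.not_coprime_iff_dvd.1 hc
      refine (hedge r' 2 hr' Nat.prime_two hr'm hm2).false_of_subgroups hr' Nat.prime_two
        (by rintro rfl; exact hm2 hr'm) (A := centralizer (N : Set (G ⧸ K))) (B := N) ?_ hr'C hN2
      intro a ha b hb
      exact (Subgroup.mem_centralizer_iff.1 ha b hb).symm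
    exact ⟨hNs, hNna, hcent, ⟨r, hr, hrm, hrN⟩, hedge⟩
where
  dvd_orderOf_of_pgroup' {G : Type _} [Group G] {p : ℕ} (hp : p.Prime) {Q : Subgroup G} (hQ : IsPGroup p Q) {x : G}
      (hx : x ∈ Q) (hx1 : x ≠ 1) : p ∣ orderOf x := by
    have := Fact.mk hp
    obtain ⟨k, hk⟩ := IsPGroup.iff_orderOf.1 hQ ⟨x, hx⟩
    rw [Subgroup.orderOf_mk] at hk
    rw [hk]
    apply dvd_pow_self
    rintro rfl
    rw [pow_zero, orderOf_eq_one_iff] at hk
    exact hx1 hk

end TT

end Cfsg.Agent.H992.TC
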