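import Mathlib
import Cfsg.Agent.H902.Facts

/-!
# The `t`-parts of the orders of `F₄(q)`, `E₆(q)`, `²E₆(q)`, `t` prime to `q`
-/

set_option autoImplicit false

namespace Cfsg.Agent.H992.TC

open Cfsg.Agent.H902.Art Cfsg.Agent.H902.Lte

/-- lifting the exponent, odd primes -/
theorem P_odd {t : ℕ} (ht : t.Prime) (ht2 : t ≠ 2) {x : ℤ} (hx : 2 ≤ |x|) (htx : ¬ (t : ℤ) ∣ x) {k : ℕ}
    (hk : k ≠ 0) : P t (x ^ k - 1).natAbs = if orderOf (x : ZMod t) ∣ k then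
      P t (x ^ orderOf (x : ZMod t) - 1).natAbs * P t (k / orderOf (x : ZMod t)) else 1 := by
  rw [P_eq_natAbs ht, P_eq_natAbs ht, lte_odd ht (ht.odd_of_ne_two ht2) hx htx hk]
  split_ifs with h
  · rw [pow_add, P, Nat.factorization_def _ ht]
  · rw [pow_zero]

/-- lifting the exponent, `t = 2` -/
theorem P_two {x : ℤ} (hx : 2 ≤ |x|) (htx : ¬ (2 : ℤ) ∣ x) {k : ℕ} (hk : k ≠ 0) :
    P 2 (x ^ k - 1).natAbs = if Even k then P 2 (x ^ 2 - 1).natAbs * P 2 (k / 2) else P 2 (x - 1).natAbs := by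
  rw [P_eq_natAbs Nat.prime_two, P_eq_natAbs Nat.prime_two, P_eq_natAbs Nat.prime_two,
    show padicValInt 2 (x ^ k - 1) = _ from lte_two hx htx hk]
  split_ifs with h
  · rw [pow_add, P, Nat.factorization_def _ Nat.prime_two]
  · rfl

theorem P_eq_of_factor {t a k : ℕ} (ht : t.Prime) (ha : ¬ t ∣ a) (hk : k ≠ 0) (h : t ∣ k → False) : P t (k * a) = 1 := by
  have ha0 : a ≠ 0 := fun h0 => ha (h0 ▸ dvd_zero _)
  rw [P_mul hk ha0, P_eq_one ha, P_eq_one h]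

/-- the `t`-parts of small numbers -/
theorem P_small {t : ℕ} (ht : t.Prime) (ht2 : t ≠ 2) :
    P t 1 = 1 ∧ P t 2 = 1 ∧ P t 4 = 1 ∧ P t 8 = 1 ∧ P t 6 = P t 3 ∧ P t 12 = P t 3 ∧ P t 9 = P t 3 ^ 2 ∧ P t 3 ≤ 3 ∧
      P t 5 * P t 3 ^ 4 ≤ 81 := by
  have h2 : ¬ t ∣ 2 := fun h => ht2 ((Nat.prime_dvd_prime_iff_eq ht Nat.prime_two).1 h)
  have e1 : P t 1 = 1 := P_eq_one fun h => ht.one_lt.ne' (Nat.dvd_one.1 h)
  have e2 : P t 2 = 1 := P_eq_one h2
  have e4 : P t 4 = 1 := P_eq_one fun h => h2 (ht.dvd_of_dvd_pow (n := 2) (by norm_num; exact h))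
  have e8 : P t 8 = 1 := P_eq_one fun h => h2 (ht.dvd_of_dvd_pow (n := 3) (by norm_num; exact h))
  refine ⟨e1, e2, e4, e8, ?_, ?_, ?_, P_le (by norm_num), ?_⟩
  · rw [show 6 = 2 * 3 from rfl, P_mul (by norm_num) (by norm_num), e2, one_mul]
  · rw [show 12 = 4 * 3 from rfl, P_mul (by norm_num) (by norm_num), e4, one_mul]
  · rw [show 9 = 3 * 3 from rfl, P_mul (by norm_num) (by norm_num), sq]
  · by_cases h3 : t = 3
    · subst h3
      have e5 : P 3 5 = 1 := P_eq_one (by norm_num)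
      have e3 : P 3 3 ≤ 3 := P_le (by norm_num)
      rw [e5, one_mul]
      exact Nat.pow_le_pow_left e3 4
    · have e3 : P t 3 = 1 := P_eq_one fun h => h3 ((Nat.prime_dvd_prime_iff_eq ht Nat.prime_three).1 h)
      have e5 : P t 5 ≤ 5 := P_le (by norm_num)
      rw [e3, one_pow, mul_one]
      omega

section

variable {t q : ℕ}

theorem abs_ge {q : ℕ} (hq : 2 ≤ q) {x : ℤ} (hx : x = q ∨ x = -q) : (2 : ℤ) ≤ |x| := by
  rcases hx with rfl | rfl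
  · rw [Nat.abs_cast]; exact_mod_cast hq
  · rw [abs_neg, Nat.abs_cast]; exact_mod_cast hq

theorem not_dvd_x (htq : ¬ t ∣ q) {x : ℤ} (hx : x = q ∨ x = -q) : ¬ (t : ℤ) ∣ x := by
  rcases hx with rfl | rfl
  · exact fun h => htq (Int.natCast_dvd_natCast.1 h)
  · rw [Int.dvd_neg]; exact fun h => htq (Int.natCast_dvd_natCast.1 h)

theorem natAbs_even (hq : 2 ≤ q) {x : ℤ} (hx : x = q ∨ x = -q) {k : ℕ} (hk : Even k) :
    (x ^ k - 1).natAbs = q ^ k - 1 := by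
  have h1 : x ^ k = (q : ℤ) ^ k := by
    rcases hx with rfl | rfl
    · rfl
    · exact hk.neg_pow _
  have h2 : 1 ≤ q ^ k := Nat.one_le_pow _ _ (by omega)
  rw [h1]
  have h3 : ((q : ℤ) ^ k - 1) = ((q ^ k - 1 : ℕ) : ℤ) := by push_cast [Nat.cast_sub h2]; ring
  rw [h3, Int.natAbs_natCast]

theorem natAbs_odd_le (hq : 2 ≤ q) {x : ℤ} (hx : x = q ∨ x = -q) {k : ℕ} (hk : Odd k) :
    (x ^ k - 1).natAbs ≤ q ^ k + 1 := by
  have h2 : 1 ≤ q ^ k := Nat.one_le_pow _ _ (by omega)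
  rcases hx with rfl | rfl
  · have h3 : ((q : ℤ) ^ k - 1) = ((q ^ k - 1 : ℕ) : ℤ) := by push_cast [Nat.cast_sub h2]; ring
    rw [h3, Int.natAbs_natCast]; omega
  · rw [hk.neg_pow, show -(q : ℤ) ^ k - 1 = -((q ^ k + 1 : ℕ) : ℤ) by push_cast; ring, Int.natAbs_neg,
      Int.natAbs_natCast]

theorem natAbs_ne (hq : 2 ≤ q) {x : ℤ} (hx : x = q ∨ x = -q) {k : ℕ} (hk : k ≠ 0) : (x ^ k - 1).natAbs ≠ 0 :=
  Int.natAbs_ne_zero.2 (pow_sub_one_ne_zero (abs_ge hq hx) hk)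

/-- the product over `2, 5, 6, 8, 9, 12` -/
def numX (x : ℤ) : ℕ := (x ^ 2 - 1).natAbs * (x ^ 5 - 1).natAbs * (x ^ 6 - 1).natAbs * (x ^ 8 - 1).natAbs *
  (x ^ 9 - 1).natAbs * (x ^ 12 - 1).natAbs

theorem numX_pos (hq : 2 ≤ q) : numX (q : ℤ) = num .E6 q := by
  have h : ∀ k, ((q : ℤ) ^ k - 1).natAbs = q ^ k - 1 := fun k => by
    have h2 : 1 ≤ q ^ k := Nat.one_le_pow _ _ (by omega)
    have h3 : ((q : ℤ) ^ k - 1) = ((q ^ k - 1 : ℕ) : ℤ) := by push_cast [Nat.cast_sub h2]; ring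
    rw [h3, Int.natAbs_natCast]
  rw [numX, h, h, h, h, h, h]
  rfl

theorem numX_neg (hq : 2 ≤ q) : numX (-(q : ℤ)) = num .TE6 q := by
  have h : ∀ k, Even k → ((-(q : ℤ)) ^ k - 1).natAbs = q ^ k - 1 := fun k hk => natAbs_even hq (Or.inr rfl) hk
  have h' : ∀ k, Odd k → ((-(q : ℤ)) ^ k - 1).natAbs = q ^ k + 1 := fun k hk => by
    rw [hk.neg_pow, show -(q : ℤ) ^ k - 1 = -((q ^ k + 1 : ℕ) : ℤ) by push_cast; ring, Int.natAbs_neg,
      Int.natAbs_natCast]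
  rw [numX, h 2 (by decide), h' 5 (by decide), h 6 (by decide), h 8 (by decide), h' 9 (by decide), h 12 (by decide)]
  rfl

theorem P_numX (ht : t.Prime) (hq : 2 ≤ q) {x : ℤ} (hx : x = q ∨ x = -q) :
    P t (numX x) = P t (x ^ 2 - 1).natAbs * P t (x ^ 5 - 1).natAbs * P t (x ^ 6 - 1).natAbs *
      P t (x ^ 8 - 1).natAbs * P t (x ^ 9 - 1).natAbs * P t (x ^ 12 - 1).natAbs := by
  have h : ∀ k : ℕ, k ≠ 0 → (x ^ k - 1).natAbs ≠ 0 := fun k hk => natAbs_ne hq hx hk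
  rw [numX, P_mul, P_mul, P_mul, P_mul, P_mul]
  all_goals first | exact h _ (by norm_num) | skip
  all_goals simp only [ne_eq, mul_eq_zero, not_or]
  all_goals refine_lift ?_
  all_goals first
    | exact ⟨h _ (by norm_num), h _ (by norm_num)⟩
    | exact ⟨⟨h _ (by norm_num), h _ (by norm_num)⟩, h _ (by norm_num)⟩
    | exact ⟨⟨⟨h _ (by norm_num), h _ (by norm_num)⟩, h _ (by norm_num)⟩, h _ (by norm_num)⟩
    | exact ⟨⟨⟨⟨h _ (by norm_num), h _ (by norm_num)⟩, h _ (by norm_num)⟩, h _ (by norm_num)⟩, h _ (by norm_num)⟩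

/-- the bound for odd primes -/
theorem P_numX_le (ht : t.Prime) (ht2 : t ≠ 2) (hq : 2 ≤ q) (htq : ¬ t ∣ q) {x : ℤ} (hx : x = q ∨ x = -q) :
    P t (numX x) ≤ 81 * (q + 1) ^ 6 ∨ P t (numX x) ≤ 3 * (q ^ 3 + 1) ^ 3 ∨ P t (numX x) ≤ q ^ 9 + 1 := by
  have hxa := abs_ge hq hx
  have hxt := not_dvd_x htq hx
  obtain ⟨e1, e2, e4, e8, e6, e12, e9, e3, e5⟩ := P_small ht ht2
  have H := fun (k : ℕ) (hk : k ≠ 0) => P_odd ht ht2 hxa hxt hk
  rw [P_numX ht hq hx, H 2 (by norm_num), H 5 (by norm_num), H 6 (by norm_num), H 8 (by norm_num),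
    H 9 (by norm_num), H 12 (by norm_num)]
  have hd : 1 ≤ orderOf (x : ZMod t) := by
    have hf : Fact t.Prime := ⟨ht⟩
    have h0 : (x : ZMod t) ≠ 0 := by rwa [Ne, ZMod.intCast_zmod_eq_zero_iff_dvd] 
    exact Nat.pos_of_ne_zero ((isOfFinOrder_iff_isUnit.2 (isUnit_iff_ne_zero.2 h0)).orderOf_pos.ne')
  set d := orderOf (x : ZMod t) with hdd
  clear_value d
  have hA : ∀ k, k ≠ 0 → P t (x ^ k - 1).natAbs ≤ (x ^ k - 1).natAbs := fun k hk => P_le (natAbs_ne hq hx hk)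
  have hAo : ∀ k, Odd k → P t (x ^ k - 1).natAbs ≤ q ^ k + 1 := fun k hk =>
    (hA k (by rintro rfl; exact absurd hk (by decide))).trans (natAbs_odd_le hq hx hk)
  have hAe : ∀ j, 1 ≤ j → P t (x ^ (2 * j) - 1).natAbs ≤ q ^ j + 1 := fun j hj => by
    rw [natAbs_even hq hx (even_two_mul j)]
    exact P_sq_sub_one_le ht ht2 hq hj
  have hq1 : 1 ≤ q := by omega
  by_cases hd12 : 12 < d
  · have h : ∀ k, 1 ≤ k → k ≤ 12 → ¬ d ∣ k := fun k h1 h2 h3 => by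
      have := Nat.le_of_dvd h1 h3; omega
    rw [if_neg (h _ (by norm_num) (by norm_num)), if_neg (h _ (by norm_num) (by norm_num)),
      if_neg (h _ (by norm_num) (by norm_num)), if_neg (h _ (by norm_num) (by norm_num)),
      if_neg (h _ (by norm_num) (by norm_num)), if_neg (h _ (by norm_num) (by norm_num))]
    right; right; simp
  push Not at hd12
  have hq9 : 1 ≤ q ^ 9 := Nat.one_le_pow _ _ (by omega)
  interval_cases d
  · -- 1
    left
    norm_num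
    have h1 := hAo 1 (by decide)
    rw [pow_one, pow_one] at h1
    rw [e2, e6, e8, e9, e12]
    set A := P t (x - 1).natAbs
    calc A * 1 * (A * P t 5) * (A * P t 3) * (A * 1) * (A * P t 3 ^ 2) * (A * P t 3)
        = (P t 5 * P t 3 ^ 4) * A ^ 6 := by ring
      _ ≤ 81 * (q + 1) ^ 6 := Nat.mul_le_mul e5 (Nat.pow_le_pow_left h1 6)
  · -- 2
    left
    norm_num
    have h1 := hAe 1 le_rfl
    rw [mul_one, pow_one] at h1
    rw [e1, e4, e6]
    set A := P t (x ^ 2 - 1).natAbs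
    have h2 : A ^ 4 ≤ (q + 1) ^ 6 := (Nat.pow_le_pow_left h1 4).trans (Nat.pow_le_pow_right (by omega) (by norm_num))
    have h3 : P t 3 ^ 2 ≤ 81 := (Nat.pow_le_pow_left e3 2).trans (by norm_num)
    calc A * 1 * (A * P t 3) * (A * 1) * (A * P t 3) = P t 3 ^ 2 * A ^ 4 := by ring
      _ ≤ 81 * (q + 1) ^ 6 := Nat.mul_le_mul h3 h2
  · -- 3
    right; left
    norm_num
    have h1 := hAo 3 (by decide)
    rw [e2, e4]
    set A := P t (x ^ 3 - 1).natAbs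
    calc A * 1 * (A * P t 3) * (A * 1) = P t 3 * A ^ 3 := by ring
      _ ≤ 3 * (q ^ 3 + 1) ^ 3 := Nat.mul_le_mul e3 (Nat.pow_le_pow_left h1 3)
  · -- 4
    right; left
    norm_num
    have h1 := hAe 2 (by norm_num)
    norm_num at h1
    rw [e2]
    set A := P t (x ^ 4 - 1).natAbs
    have h2 : q ^ 2 + 1 ≤ q ^ 3 + 1 := Nat.add_le_add_right (Nat.pow_le_pow_right hq1 (by norm_num)) 1
    calc A * 1 * (A * P t 3) = P t 3 * A ^ 2 := by ring
      _ ≤ 3 * (q ^ 3 + 1) ^ 3 := Nat.mul_le_mul e3 ((Nat.pow_le_pow_left (h1.trans h2) 2).trans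
        (Nat.pow_le_pow_right (by omega) (by norm_num)))
  · -- 5
    right; right
    norm_num
    have h1 := hAo 5 (by decide)
    rw [e1, mul_one]
    exact h1.trans (Nat.add_le_add_right (Nat.pow_le_pow_right hq1 (by norm_num)) 1)
  · -- 6
    right; left
    norm_num
    have h1 := hAe 3 (by norm_num)
    norm_num at h1
    rw [e1, e2]
    set A := P t (x ^ 6 - 1).natAbs
    calc A * 1 * (A * 1) = 1 * A ^ 2 := by ring
      _ ≤ 3 * (q ^ 3 + 1) ^ 3 := Nat.mul_le_mul (by norm_num) ((Nat.pow_le_pow_left h1 2).trans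
        (Nat.pow_le_pow_right (by omega) (by norm_num)))
  · -- 7
    right; right; norm_num
  · -- 8
    right; right
    norm_num
    have h1 := hAe 4 (by norm_num)
    norm_num at h1
    rw [e1, mul_one]
    exact h1.trans (Nat.add_le_add_right (Nat.pow_le_pow_right hq1 (by norm_num)) 1)
  · -- 9
    right; right
    norm_num
    rw [e1, mul_one]
    exact hAo 9 (by decide)
  · right; right; norm_num
  · right; right; norm_num
  · -- 12
    right; right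
    norm_num
    have h1 := hAe 6 (by norm_num)
    norm_num at h1
    rw [e1, mul_one]
    exact h1.trans (Nat.add_le_add_right (Nat.pow_le_pow_right hq1 (by norm_num)) 1)

/-- the bound for `t = 3` -/
theorem P_numX_three (hq : 2 ≤ q) (htq : ¬ 3 ∣ q) {x : ℤ} (hx : x = q ∨ x = -q) :
    P 3 (numX x) ≤ 81 * (q + 1) ^ 6 := by
  have ht : Nat.Prime 3 := Nat.prime_three
  have ht2 : (3 : ℕ) ≠ 2 := by norm_num
  have hxa := abs_ge hq hx
  have hxt := not_dvd_x (t := 3) htq hx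
  obtain ⟨e1, e2, e4, e8, e6, e12, e9, e3, e5⟩ := P_small ht ht2
  have H := fun (k : ℕ) (hk : k ≠ 0) => P_odd ht ht2 hxa hxt hk
  rw [P_numX ht hq hx, H 2 (by norm_num), H 5 (by norm_num), H 6 (by norm_num), H 8 (by norm_num),
    H 9 (by norm_num), H 12 (by norm_num)]
  have h0 : (x : ZMod 3) ≠ 0 := by
    intro h
    exact hxt ((ZMod.intCast_zmod_eq_zero_iff_dvd x 3).1 h)
  have hdc : orderOf (x : ZMod 3) = 1 ∨ orderOf (x : ZMod 3) = 2 := by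
    have h1 : ∀ y : ZMod 3, y ≠ 0 → y = 1 ∨ y = -1 := by decide
    rcases h1 _ h0 with h | h
    · left; rw [h, orderOf_one]
    · right
      rw [h]
      apply orderOf_eq_prime
      · decide
      · decide
  have hAo : P 3 (x ^ 1 - 1).natAbs ≤ q ^ 1 + 1 :=
    (P_le (natAbs_ne hq hx (by norm_num))).trans (natAbs_odd_le hq hx (by decide))
  have hAe : ∀ j, 1 ≤ j → P 3 (x ^ (2 * j) - 1).natAbs ≤ q ^ j + 1 := fun j hj => by
    rw [natAbs_even hq hx (even_two_mul j)]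
    exact P_sq_sub_one_le ht ht2 hq hj
  rcases hdc with h | h
  · rw [h]
    norm_num
    rw [pow_one, pow_one] at hAo
    rw [e2, e6, e8, e9, e12]
    set A := P 3 (x - 1).natAbs
    calc A * 1 * (A * P 3 5) * (A * P 3 3) * (A * 1) * (A * P 3 3 ^ 2) * (A * P 3 3)
        = (P 3 5 * P 3 3 ^ 4) * A ^ 6 := by ring
      _ ≤ 81 * (q + 1) ^ 6 := Nat.mul_le_mul e5 (Nat.pow_le_pow_left hAo 6)
  · rw [h]
    norm_num
    have h1 := hAe 1 le_rfl
    rw [mul_one, pow_one] at h1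
    rw [e1, e4, e6]
    set A := P 3 (x ^ 2 - 1).natAbs
    have h2 : A ^ 4 ≤ (q + 1) ^ 6 := (Nat.pow_le_pow_left h1 4).trans (Nat.pow_le_pow_right (by omega) (by norm_num))
    have h3 : P 3 3 ^ 2 ≤ 81 := (Nat.pow_le_pow_left e3 2).trans (by norm_num)
    calc A * 1 * (A * P 3 3) * (A * 1) * (A * P 3 3) = P 3 3 ^ 2 * A ^ 4 := by ring
      _ ≤ 81 * (q + 1) ^ 6 := Nat.mul_le_mul h3 h2

/-- the bound for `t = 2` -/
theorem P_numX_two (hq : 3 ≤ q) (hodd : Odd q) {x : ℤ} (hx : x = q ∨ x = -q) :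
    P 2 (numX x) ≤ 128 * (q + 1) ^ 6 := by
  have hq2 : 2 ≤ q := by omega
  have h2q : ¬ 2 ∣ q := fun h => (Nat.not_even_iff_odd.2 hodd) (even_iff_two_dvd.2 h)
  have hxa := abs_ge hq2 hx
  have hxt := not_dvd_x (t := 2) h2q hx
  have H := fun (k : ℕ) (hk : k ≠ 0) => P_two hxa hxt hk
  have hA : P 2 (x ^ 2 - 1).natAbs ≤ 2 * (q + 1) := by
    rw [natAbs_even hq2 hx (by decide)]
    exact P_two_sq_sub_one_le hq hodd
  have hB : P 2 (x ^ 1 - 1).natAbs ≤ q ^ 1 + 1 :=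
    (P_le (natAbs_ne hq2 hx (by norm_num))).trans (natAbs_odd_le hq2 hx (by decide))
  rw [pow_one, pow_one] at hB
  rw [P_numX Nat.prime_two hq2 hx, H 5 (by norm_num), H 6 (by norm_num), H 8 (by norm_num),
    H 9 (by norm_num), H 12 (by norm_num), if_neg (by decide), if_pos (by decide), if_pos (by decide),
    if_neg (by decide), if_pos (by decide)]
  norm_num
  have p3 : P 2 3 = 1 := P_eq_one (by norm_num)
  have p4 : P 2 4 = 4 := by
    have := P_pow_self (r := 2) (k := 2) (a := 1) Nat.prime_two (by norm_num)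
    simpa using this
  have p6 : P 2 6 = 2 := by
    have := P_pow_self (r := 2) (k := 1) (a := 3) Nat.prime_two (by norm_num)
    simpa using this
  rw [p3, p4, p6]
  set A := P 2 (x ^ 2 - 1).natAbs
  set B := P 2 (x - 1).natAbs
  calc A * B * (A * 1) * (A * 4) * B * (A * 2) = 8 * (A ^ 4 * B ^ 2) := by ring
    _ ≤ 8 * ((2 * (q + 1)) ^ 4 * (q + 1) ^ 2) :=
      Nat.mul_le_mul_left _ (Nat.mul_le_mul (Nat.pow_le_pow_left hA 4) (Nat.pow_le_pow_left hB 2))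
    _ = _ := by ring

theorem natAbs_sq (hq : 2 ≤ q) (k : ℕ) : (((q : ℤ) ^ 2) ^ k - 1).natAbs = q ^ (2 * k) - 1 := by
  rw [← pow_mul]
  exact natAbs_even hq (Or.inl rfl) (even_two_mul k)

theorem P_numF (ht : t.Prime) (hq : 2 ≤ q) :
    P t (num .F4 q) = P t (q ^ 2 - 1) * P t (q ^ 6 - 1) * P t (q ^ 8 - 1) * P t (q ^ 12 - 1) := by
  have h : ∀ k : ℕ, k ≠ 0 → q ^ k - 1 ≠ 0 := fun k hk => by
    have := Nat.one_lt_pow hk (by omega : 1 < q)
    omega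
  show P t ((q ^ 2 - 1) * (q ^ 6 - 1) * (q ^ 8 - 1) * (q ^ 12 - 1)) = _
  rw [P_mul (mul_ne_zero (mul_ne_zero (h _ (by norm_num)) (h _ (by norm_num))) (h _ (by norm_num)))
    (h _ (by norm_num)), P_mul (mul_ne_zero (h _ (by norm_num)) (h _ (by norm_num))) (h _ (by norm_num)),
    P_mul (h _ (by norm_num)) (h _ (by norm_num))]

theorem P_numF_le (ht : t.Prime) (ht2 : t ≠ 2) (hq : 2 ≤ q) (htq : ¬ t ∣ q) :
    P t (num .F4 q) ≤ 9 * (q + 1) ^ 4 ∨ P t (num .F4 q) ≤ 3 * (q ^ 2 + 1) ^ 2 ∨ P t (num .F4 q) ≤ (q ^ 3 + 1) ^ 2 := by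
  obtain ⟨e1, e2, e4, e8, e6, e12, e9, e3, e5⟩ := P_small ht ht2
  have hxa : (2 : ℤ) ≤ |(q : ℤ) ^ 2| := by
    rw [abs_pow, Nat.abs_cast]
    have : (2 : ℤ) ≤ q := by exact_mod_cast hq
    nlinarith
  have hxt : ¬ (t : ℤ) ∣ (q : ℤ) ^ 2 := fun h =>
    htq (Int.natCast_dvd_natCast.1 ((Nat.prime_iff_prime_int.1 ht).dvd_of_dvd_pow h))
  have H := fun (k : ℕ) (hk : k ≠ 0) => P_odd ht ht2 hxa hxt hk
  have H1 := H 1 (by norm_num)
  have H3 := H 3 (by norm_num)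
  have H4 := H 4 (by norm_num)
  have H6 := H 6 (by norm_num)
  simp only [natAbs_sq hq] at H1 H3 H4 H6
  norm_num only at H1 H3 H4 H6
  rw [P_numF ht hq, H1, H3, H4, H6]
  have hd : 1 ≤ orderOf (((q : ℤ) ^ 2 : ℤ) : ZMod t) := by
    have hf : Fact t.Prime := ⟨ht⟩
    have h0 : (((q : ℤ) ^ 2 : ℤ) : ZMod t) ≠ 0 := by rwa [Ne, ZMod.intCast_zmod_eq_zero_iff_dvd]
    exact Nat.pos_of_ne_zero ((isOfFinOrder_iff_isUnit.2 (isUnit_iff_ne_zero.2 h0)).orderOf_pos.ne')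
  set d := orderOf (((q : ℤ) ^ 2 : ℤ) : ZMod t) with hdd
  clear_value d
  have hAe : ∀ j, 1 ≤ j → P t (q ^ (2 * j) - 1) ≤ q ^ j + 1 := fun j hj => P_sq_sub_one_le ht ht2 hq hj
  have hq1 : 1 ≤ q := by omega
  have hq6 : 1 ≤ (q ^ 3 + 1) ^ 2 := Nat.one_le_pow _ _ (by omega)
  by_cases hd6 : 6 < d
  · have h : ∀ k, 1 ≤ k → k ≤ 6 → ¬ d ∣ k := fun k h1 h2 h3 => by
      have := Nat.le_of_dvd h1 h3; omega
    rw [if_neg (h _ (by norm_num) (by norm_num)), if_neg (h _ (by norm_num) (by norm_num)),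
      if_neg (h _ (by norm_num) (by norm_num)), if_neg (h _ (by norm_num) (by norm_num))]
    right; right; simpa using hq6
  push Not at hd6
  interval_cases d
  · left
    norm_num
    have h1 := hAe 1 le_rfl
    rw [mul_one, pow_one] at h1
    rw [e1, e4, e6]
    set A := P t (q ^ 2 - 1)
    have h3 : P t 3 ^ 2 ≤ 9 := (Nat.pow_le_pow_left e3 2).trans (by norm_num)
    calc A * 1 * (A * P t 3) * (A * 1) * (A * P t 3) = P t 3 ^ 2 * A ^ 4 := by ring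
      _ ≤ 9 * (q + 1) ^ 4 := Nat.mul_le_mul h3 (Nat.pow_le_pow_left h1 4)
  · right; left
    norm_num
    have h1 := hAe 2 (by norm_num)
    norm_num at h1
    rw [e2]
    set A := P t (q ^ 4 - 1)
    calc A * 1 * (A * P t 3) = P t 3 * A ^ 2 := by ring
      _ ≤ 3 * (q ^ 2 + 1) ^ 2 := Nat.mul_le_mul e3 (Nat.pow_le_pow_left h1 2)
  · right; right
    norm_num
    have h1 := hAe 3 (by norm_num)
    norm_num at h1
    rw [e1, e2]
    set A := P t (q ^ 6 - 1)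
    calc A * 1 * (A * 1) = A ^ 2 := by ring
      _ ≤ (q ^ 3 + 1) ^ 2 := Nat.pow_le_pow_left h1 2
  · right; left
    norm_num
    have h1 := hAe 4 (by norm_num)
    norm_num at h1
    rw [e1, mul_one]
    have h2 : q ^ 4 + 1 ≤ (q ^ 2 + 1) ^ 2 := by nlinarith [Nat.zero_le (q ^ 2)]
    omega
  · right; right; norm_num; exact hq6
  · right; right
    norm_num
    have h1 := hAe 6 (by norm_num)
    norm_num at h1
    rw [e1, mul_one]
    have h2 : q ^ 6 + 1 ≤ (q ^ 3 + 1) ^ 2 := by nlinarith [Nat.zero_le (q ^ 3)]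
    omega

theorem P_numF_three (hq : 2 ≤ q) (htq : ¬ 3 ∣ q) : P 3 (num .F4 q) ≤ 9 * (q + 1) ^ 4 := by
  have ht : Nat.Prime 3 := Nat.prime_three
  have ht2 : (3 : ℕ) ≠ 2 := by norm_num
  obtain ⟨e1, e2, e4, e8, e6, e12, e9, e3, e5⟩ := P_small ht ht2
  have hxa : (2 : ℤ) ≤ |(q : ℤ) ^ 2| := by
    rw [abs_pow, Nat.abs_cast]
    have : (2 : ℤ) ≤ q := by exact_mod_cast hq
    nlinarith
  have hxt : ¬ ((3 : ℕ) : ℤ) ∣ (q : ℤ) ^ 2 := fun h =>
    htq (Int.natCast_dvd_natCast.1 ((Nat.prime_iff_prime_int.1 ht).dvd_of_dvd_pow h))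
  have H := fun (k : ℕ) (hk : k ≠ 0) => P_odd ht ht2 hxa hxt hk
  have H1 := H 1 (by norm_num)
  have H3 := H 3 (by norm_num)
  have H4 := H 4 (by norm_num)
  have H6 := H 6 (by norm_num)
  simp only [natAbs_sq hq] at H1 H3 H4 H6
  norm_num only at H1 H3 H4 H6
  rw [P_numF ht hq, H1, H3, H4, H6]
  have h0 : ((q : ℤ) : ZMod 3) ≠ 0 := by
    intro h
    exact htq (Int.natCast_dvd_natCast.1 ((ZMod.intCast_zmod_eq_zero_iff_dvd _ 3).1 h))
  have hdc : orderOf (((q : ℤ) ^ 2 : ℤ) : ZMod 3) = 1 := by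
    have h1 : ∀ y : ZMod 3, y ≠ 0 → y ^ 2 = 1 := by decide
    rw [Int.cast_pow, h1 _ h0, orderOf_one]
  rw [hdc]
  norm_num
  have h1 : P 3 (q ^ (2 * 1) - 1) ≤ q ^ 1 + 1 := P_sq_sub_one_le ht ht2 hq le_rfl
  rw [mul_one, pow_one] at h1
  rw [e1, e4, e6]
  set A := P 3 (q ^ 2 - 1)
  have h3 : P 3 3 ^ 2 ≤ 9 := (Nat.pow_le_pow_left e3 2).trans (by norm_num)
  calc A * 1 * (A * P 3 3) * (A * 1) * (A * P 3 3) = P 3 3 ^ 2 * A ^ 4 := by ring
    _ ≤ 9 * (q + 1) ^ 4 := Nat.mul_le_mul h3 (Nat.pow_le_pow_left h1 4)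

theorem P_numF_two (hq : 3 ≤ q) (hodd : Odd q) : P 2 (num .F4 q) ≤ 128 * (q + 1) ^ 4 := by
  have hq2 : 2 ≤ q := by omega
  have h2q : ¬ 2 ∣ q := fun h => (Nat.not_even_iff_odd.2 hodd) (even_iff_two_dvd.2 h)
  have hxa := abs_ge hq2 (x := (q : ℤ)) (Or.inl rfl)
  have hxt := not_dvd_x (t := 2) h2q (x := (q : ℤ)) (Or.inl rfl)
  have H := fun (k : ℕ) (hk : k ≠ 0) => P_two hxa hxt hk
  have H6 := H 6 (by norm_num)
  have H8 := H 8 (by norm_num)
  have H12 := H 12 (by norm_num)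
  rw [if_pos (by decide), natAbs_even hq2 (Or.inl rfl) (by decide), natAbs_even hq2 (Or.inl rfl) (by decide)]
    at H6 H8 H12
  have hA : P 2 (q ^ 2 - 1) ≤ 2 * (q + 1) := P_two_sq_sub_one_le hq hodd
  rw [P_numF Nat.prime_two hq2, H6, H8, H12]
  norm_num
  have p3 : P 2 3 = 1 := P_eq_one (by norm_num)
  have p4 : P 2 4 = 4 := by
    have := P_pow_self (r := 2) (k := 2) (a := 1) Nat.prime_two (by norm_num)
    simpa using this
  have p6 : P 2 6 = 2 := by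
    have := P_pow_self (r := 2) (k := 1) (a := 3) Nat.prime_two (by norm_num)
    simpa using this
  rw [p3, p4, p6]
  set A := P 2 (q ^ 2 - 1)
  calc A * (A * 1) * (A * 4) * (A * 2) = 8 * A ^ 4 := by ring
    _ ≤ 8 * (2 * (q + 1)) ^ 4 := Nat.mul_le_mul_left _ (Nat.pow_le_pow_left hA 4)
    _ = _ := by ring

end

end Cfsg.Agent.H992.TC
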