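import Mathlib
import Cfsg.Agent.H992.TC.PBound

/-!
# Alternating groups and the orders of `F₄(q)`, `E₆(q)`, `²E₆(q)`
-/

set_option autoImplicit false

namespace Cfsg.Agent.H992.TC

open Cfsg.Agent.H902 Cfsg.Agent.H902.Art

/-- the order of the isolated torus -/
def mm : Sh → ℕ → ℕ
  | .F4, q => q ^ 4 - q ^ 2 + 1
  | .E6, q => (q ^ 6 + q ^ 3 + 1) / Nat.gcd 3 (q - 1)
  | .TE6, q => (q ^ 6 - q ^ 3 + 1) / Nat.gcd 3 (q + 1)
  | _, _ => 1

theorem two_pow_le {n : ℕ} (hn : n ≠ 0) : 2 ^ n ≤ P 2 n.factorial * (2 * n) := by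
  have : Fact (Nat.Prime 2) := ⟨Nat.prime_two⟩
  have h1 := sub_one_mul_padicValNat_factorial (p := 2) n
  have h2 : (Nat.digits 2 n).sum ≤ (Nat.digits 2 n).length * 1 := by
    refine List.sum_le_card_nsmul _ 1 ?_ |>.trans (by simp)
    intro x hx
    have := Nat.digits_lt_base (by norm_num : 1 < 2) hx
    omega
  rw [Nat.digits_len 2 n (by norm_num) hn] at h2
  have h3 : 2 ^ Nat.log 2 n ≤ n := Nat.pow_log_le_self 2 hn
  have h4 : (Nat.digits 2 n).sum ≤ n := Nat.digit_sum_le 2 n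
  have h5 : n = padicValNat 2 n.factorial + (Nat.digits 2 n).sum := by omega
  rw [P, Nat.factorization_def _ Nat.prime_two]
  calc 2 ^ n = 2 ^ (padicValNat 2 n.factorial + (Nat.digits 2 n).sum) := by rw [← h5]
    _ ≤ 2 ^ (padicValNat 2 n.factorial + (Nat.log 2 n + 1)) := Nat.pow_le_pow_right (by norm_num) (by omega)
    _ = 2 ^ padicValNat 2 n.factorial * (2 * 2 ^ Nat.log 2 n) := by rw [pow_add, pow_succ]; ring
    _ ≤ _ := Nat.mul_le_mul_left _ (Nat.mul_le_mul_left _ h3)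

theorem three_pow_le {n : ℕ} (hn : n ≠ 0) : 3 ^ n ≤ P 3 n.factorial ^ 2 * (3 * n) ^ 2 := by
  have : Fact (Nat.Prime 3) := ⟨Nat.prime_three⟩
  have h1 := sub_one_mul_padicValNat_factorial (p := 3) n
  have h2 : (Nat.digits 3 n).sum ≤ (Nat.digits 3 n).length * 2 := by
    refine List.sum_le_card_nsmul _ 2 ?_ |>.trans (by simp)
    intro x hx
    have := Nat.digits_lt_base (by norm_num : 1 < 3) hx
    omega
  rw [Nat.digits_len 3 n (by norm_num) hn] at h2
  have h3 : 3 ^ Nat.log 3 n ≤ n := Nat.pow_log_le_self 3 hn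
  have h4 : (Nat.digits 3 n).sum ≤ n := Nat.digit_sum_le 3 n
  have h5 : n = 2 * padicValNat 3 n.factorial + (Nat.digits 3 n).sum := by omega
  rw [P, Nat.factorization_def _ Nat.prime_three]
  calc 3 ^ n = 3 ^ (2 * padicValNat 3 n.factorial + (Nat.digits 3 n).sum) := by rw [← h5]
    _ ≤ 3 ^ (2 * padicValNat 3 n.factorial + (Nat.log 3 n + 1) * 2) := Nat.pow_le_pow_right (by norm_num) (by omega)
    _ = (3 ^ padicValNat 3 n.factorial) ^ 2 * (3 * 3 ^ Nat.log 3 n) ^ 2 := by
      rw [pow_add, pow_mul' 3 2, pow_mul 3 (Nat.log 3 n + 1) 2, pow_succ 3 (Nat.log 3 n), mul_comm (3 ^ Nat.log 3 n) 3]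
    _ ≤ _ := Nat.mul_le_mul_left _ (Nat.pow_le_pow_left (Nat.mul_le_mul_left _ h3) 2)

theorem two_pow_gt {n : ℕ} (hn : 26 ≤ n) : 2048 * n ^ 3 < 2 ^ n := by
  induction n, hn using Nat.le_induction with
  | base => norm_num
  | succ n hn ih =>
    have h1 : (n + 1) ^ 3 ≤ 2 * n ^ 3 := by
      obtain ⟨r, rfl⟩ := Nat.exists_eq_add_of_le' hn
      nlinarith [Nat.zero_le (r ^ 3), Nat.zero_le (r ^ 2), Nat.zero_le r]
    rw [pow_succ 2 n]
    calc 2048 * (n + 1) ^ 3 ≤ 2048 * (2 * n ^ 3) := Nat.mul_le_mul_left _ h1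
      _ = 2048 * n ^ 3 * 2 := by ring
      _ < 2 ^ n * 2 := Nat.mul_lt_mul_of_pos_right ih (by norm_num)

theorem two_pow_gt' {n : ℕ} (hn : 28 ≤ n) : 9216 * n ^ 3 < 2 ^ n := by
  induction n, hn using Nat.le_induction with
  | base => norm_num
  | succ n hn ih =>
    have h1 : (n + 1) ^ 3 ≤ 2 * n ^ 3 := by
      obtain ⟨r, rfl⟩ := Nat.exists_eq_add_of_le' hn
      nlinarith [Nat.zero_le (r ^ 3), Nat.zero_le (r ^ 2), Nat.zero_le r]
    rw [pow_succ 2 n]
    calc 9216 * (n + 1) ^ 3 ≤ 9216 * (2 * n ^ 3) := Nat.mul_le_mul_left _ h1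
      _ = 9216 * n ^ 3 * 2 := by ring
      _ < 2 ^ n * 2 := Nat.mul_lt_mul_of_pos_right ih (by norm_num)

theorem three_pow_gt {n : ℕ} (hn : 39 ≤ n) : 19131876 * n ^ 6 < 3 ^ n := by
  induction n, hn using Nat.le_induction with
  | base => norm_num
  | succ n hn ih =>
    have h1 : (n + 1) ^ 6 ≤ 3 * n ^ 6 := by
      have h2 : 6 * (n + 1) ≤ 7 * n := by omega
      have h3 : (6 * (n + 1)) ^ 6 ≤ (7 * n) ^ 6 := Nat.pow_le_pow_left h2 6
      rw [mul_pow, mul_pow] at h3
      norm_num at h3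
      omega
    rw [pow_succ 3 n]
    calc 19131876 * (n + 1) ^ 6 ≤ 19131876 * (3 * n ^ 6) := Nat.mul_le_mul_left _ h1
      _ = 19131876 * n ^ 6 * 3 := by ring
      _ < 3 ^ n * 3 := Nat.mul_lt_mul_of_pos_right ih (by norm_num)

/-- The isolated number `m` is small. -/
theorem mm_le {n m : ℕ} (hm6 : m.Coprime 6) (hn : 5 ≤ n) (hmn : m ∣ n.factorial)
    (iso : ∀ r, r.Prime → r ∣ m → n ≤ r + 2) : m ≤ n * (n - 2) := by
  have hr5 : ∀ r, r.Prime → r ∣ m → 5 ≤ r := by
    intro r hr hrm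
    have h2 : r ≠ 2 := by
      rintro rfl
      have := Nat.dvd_gcd hrm (show 2 ∣ 6 by norm_num)
      rw [hm6] at this
      norm_num at this
    have h3 : r ≠ 3 := by
      rintro rfl
      have := Nat.dvd_gcd hrm (show 3 ∣ 6 by norm_num)
      rw [hm6] at this
      norm_num at this
    have h4 : r ≠ 4 := by rintro rfl; norm_num at hr
    have := hr.two_le
    omega
  have hle : ∀ r, r.Prime → r ∣ m → r ≤ n := fun r hr hrm => (hr.dvd_factorial).1 (hrm.trans hmn)
  have key : ∀ r, r.Prime → r ∣ m → ∀ k, k ≤ 2 → r ∣ n - k → n - k = r := by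
    intro r hr hrm k hk hd
    obtain ⟨j, hj⟩ := hd
    have h1 := hr5 r hr hrm
    have h2 := iso r hr hrm
    have h3 := hle r hr hrm
    have hj2 : j < 2 := by
      by_contra hcon
      have : r * 2 ≤ r * j := Nat.mul_le_mul_left _ (by omega)
      omega
    have hj0 : j ≠ 0 := by rintro rfl; omega
    have : j = 1 := by omega
    rw [hj, this, mul_one]
  have hcop : ∀ a : ℕ, (∀ r, r.Prime → r ∣ m → ¬ r ∣ a) → m.Coprime a := by
    intro a ha
    exact Nat.coprime_of_dvd fun r hr h1 h2 => ha r hr h1 h2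
  have h3 : m ∣ n * (n - 1) * (n - 2) := by
    have h1 : n.factorial = (n * (n - 1) * (n - 2)) * (n - 3).factorial := by
      obtain ⟨k, rfl⟩ := Nat.exists_eq_add_of_le' (show 3 ≤ n by omega)
      rw [Nat.factorial_succ, Nat.factorial_succ, Nat.factorial_succ]
      show _ = ((k + 3) * (k + 2) * (k + 1)) * k.factorial
      ring
    have h2 : m.Coprime (n - 3).factorial := hcop _ fun r hr hrm hd => by
      have := (hr.dvd_factorial).1 hd
      have := iso r hr hrm
      omega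
    rw [h1] at hmn
    exact h2.dvd_of_dvd_mul_right hmn
  rcases Nat.even_or_odd n with he | ho
  · have h1 : m.Coprime n := hcop _ fun r hr hrm hd => by
      have h4 := key r hr hrm 0 (by norm_num) (by simpa using hd)
      have h5 := hr.eq_two_or_odd'
      have := hr5 r hr hrm
      rcases h5 with h5 | h5
      · omega
      · rw [← h4] at h5
        exact (Nat.not_even_iff_odd.2 h5) (by simpa using he)
    have h2 : m.Coprime (n - 2) := hcop _ fun r hr hrm hd => by
      have h4 := key r hr hrm 2 (by norm_num) hd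
      have := hr5 r hr hrm
      rcases hr.eq_two_or_odd' with h5 | h5
      · omega
      · rw [← h4] at h5
        exact (Nat.not_even_iff_odd.2 h5) (by
          obtain ⟨k, hk⟩ := he
          exact ⟨k - 1, by omega⟩)
    have h4 : m ∣ n * (n - 1) := h2.dvd_of_dvd_mul_right h3
    have h5 : m ∣ n - 1 := h1.dvd_of_dvd_mul_left h4
    have h6 := Nat.le_of_dvd (by omega) h5
    calc m ≤ n * 1 := by omega
      _ ≤ _ := Nat.mul_le_mul_left _ (by omega)
  · have h1 : m.Coprime (n - 1) := hcop _ fun r hr hrm hd => by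
      have h4 := key r hr hrm 1 (by norm_num) hd
      have := hr5 r hr hrm
      rcases hr.eq_two_or_odd' with h5 | h5
      · omega
      · rw [← h4] at h5
        exact (Nat.not_even_iff_odd.2 h5) (by
          obtain ⟨k, hk⟩ := ho
          exact ⟨k, by omega⟩)
    have h4 : m ∣ n * (n - 2) * (n - 1) := by
      rw [mul_right_comm]; exact h3
    have h5 : m ∣ n * (n - 2) := h1.dvd_of_dvd_mul_right h4
    exact Nat.le_of_dvd (Nat.mul_pos (by omega) (by omega)) h5

end Cfsg.Agent.H992.TC
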