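import Mathlib
import Cfsg.Agent.H992.TC.Alt
import Cfsg.Agent.H902.Facts

/-!
# General arithmetic: alternating groups, cross characteristic
-/

set_option autoImplicit false

namespace Cfsg.Agent.H992.TC

open Cfsg.Agent.H902 Cfsg.Agent.H902.Art

variable {Y : Sh} {p f M : ℕ}

/-- the general information on an alternating factor -/
theorem alt_core {c a n m : ℕ} (h : Art.Real Y p f M) (hm6 : m.Coprime 6) (hmM : m ∣ M) (hpm : ¬ p ∣ m)
    (hc : c ∣ 2) (hn : 5 ≤ n) (e : n.factorial * c * p ^ a = 2 * M) (iso : ∀ r, r.Prime → r ∣ m → n ≤ r + 2) :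
    m ≤ n * (n - 2) ∧ (∀ r, r.Prime → r ∣ m → r ≤ n) ∧ (p ≠ 2 → 2 ^ n ≤ 4 * n * P 2 (num Y (p ^ f))) ∧
      (p = 2 → 3 ^ n ≤ 9 * n ^ 2 * P 3 (num Y (p ^ f)) ^ 2) := by
  have hM := h.M_ne
  have hp := h.hp
  have hmn : m ∣ n.factorial := by
    have h1 : m ∣ n.factorial * c * p ^ a := by
      rw [e]; exact Dvd.dvd.mul_left hmM 2
    have h2 : m.Coprime (p ^ a) :=
      Nat.Coprime.pow_right _ (Nat.Coprime.symm ((Nat.Prime.coprime_iff_not_dvd hp).2 hpm))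
    have h3 : m.Coprime c := Nat.Coprime.coprime_dvd_right (hc.trans (by norm_num)) hm6
    exact h3.dvd_of_dvd_mul_right (h2.dvd_of_dvd_mul_right h1)
  have hfd : n.factorial ∣ 2 * M := by rw [← e]; exact ⟨c * p ^ a, by ring⟩
  have h2M : 2 * M ≠ 0 := by omega
  have hn0 : n ≠ 0 := by omega
  refine ⟨mm_le hm6 hn hmn iso, fun r hr hrm => (hr.dvd_factorial).1 (hrm.trans hmn), fun hp2 => ?_, fun hp2 => ?_⟩
  · have hP2 : P 2 n.factorial ≤ 2 * P 2 (num Y (p ^ f)) := by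
      calc P 2 n.factorial ≤ P 2 (2 * M) := P_mono Nat.prime_two h2M hfd
        _ = P 2 2 * P 2 M := P_mul (by norm_num) hM
        _ ≤ 2 * P 2 (num Y (p ^ f)) :=
          Nat.mul_le_mul (P_le (by norm_num)) (h.P_other_le Nat.prime_two (Ne.symm hp2))
    calc 2 ^ n ≤ P 2 n.factorial * (2 * n) := two_pow_le hn0
      _ ≤ (2 * P 2 (num Y (p ^ f))) * (2 * n) := Nat.mul_le_mul_right _ hP2
      _ = _ := by ring
  · have hP3 : P 3 n.factorial ≤ P 3 (num Y (p ^ f)) := by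
      calc P 3 n.factorial ≤ P 3 (2 * M) := P_mono Nat.prime_three h2M hfd
        _ = P 3 2 * P 3 M := P_mul (by norm_num) hM
        _ = P 3 M := by rw [P_eq_one (by norm_num), one_mul]
        _ ≤ _ := h.P_other_le Nat.prime_three (by rw [hp2]; norm_num)
    calc 3 ^ n ≤ P 3 n.factorial ^ 2 * (3 * n) ^ 2 := three_pow_le hn0
      _ ≤ P 3 (num Y (p ^ f)) ^ 2 * (3 * n) ^ 2 := Nat.mul_le_mul_right _ (Nat.pow_le_pow_left hP3 2)
      _ = _ := by ring

theorem num_le' {N c a : ℕ} (h : Art.Real Y p f M) (e : N * c * p ^ a = M) :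
    num Y (p ^ f) ≤ dd Y (p ^ f) * (N * c) := by
  have hM := h.M_ne
  have hp := h.hp
  have h1 : p ^ a ≤ P p M := by
    apply Nat.pow_le_pow_right hp.pos
    exact (hp.pow_dvd_iff_le_factorization hM).1 (e ▸ Dvd.intro_left _ rfl)
  rw [h.P_self] at h1
  have h2 : 0 < (p ^ f) ^ NN Y := pow_pos (pow_pos hp.pos _) _
  apply Nat.le_of_mul_le_mul_left _ h2
  rw [← h.eq, ← e]
  calc dd Y (p ^ f) * (N * c * p ^ a) = (dd Y (p ^ f) * (N * c)) * p ^ a := by ring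
    _ ≤ (dd Y (p ^ f) * (N * c)) * (p ^ f) ^ NN Y := Nat.mul_le_mul_left _ h1
    _ = _ := by ring

/-- `2 ^ c ≤ q ^ k` gives `c ≤ k q` -/
theorem c_lin {q c k : ℕ} (h : 2 ^ c ≤ q ^ k) : c ≤ k * q := by
  have h1 : q ^ k ≤ 2 ^ (k * q) := by
    calc q ^ k ≤ (2 ^ q) ^ k := Nat.pow_le_pow_left (Nat.lt_two_pow_self).le k
      _ = _ := by rw [← pow_mul]; congr 1; ring
  exact (Nat.pow_le_pow_iff_right (by norm_num : 1 < 2)).1 (h.trans h1)

/-- general cross characteristic estimate -/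
theorem cross_core {X : Sh} {t g N c a B : ℕ} (h : Art.Real Y p f M) (hS : Art.Real X t g N) (htp : t ≠ p)
    (hc : 2 ^ c ≤ P t N ^ 9) (e : N * c * p ^ a = M) (hB : P t (num Y (p ^ f)) ≤ B) :
    P t N ≤ B ∧ 2 ^ c ≤ B ^ 9 ∧ num Y (p ^ f) ≤ dd Y (p ^ f) * (B ^ 3 * c) := by
  have hM := h.M_ne
  have hNM : N ∣ M := ⟨c * p ^ a, by rw [← e]; ring⟩
  have h1 : P t N ≤ B := ((P_mono hS.hp hM hNM).trans (h.P_other_le hS.hp htp)).trans hB
  refine ⟨h1, hc.trans (Nat.pow_le_pow_left h1 9), (num_le' h e).trans (Nat.mul_le_mul_left _ (Nat.mul_le_mul_right _ ?_))⟩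
  exact hS.lt_cube.le.trans (Nat.pow_le_pow_left h1 3)

/-- the case without a normal `p`-subgroup -/
theorem cross_core0 {X : Sh} {t g N c B : ℕ} (h : Art.Real Y p f M) (hS : Art.Real X t g N) (htp : t ≠ p)
    (hc : 2 ^ c ≤ P t N ^ 9) (e : N * c = M) (hB : P t (num Y (p ^ f)) ≤ B) :
    2 ^ c ≤ B ^ 9 ∧ (p ^ f) ^ NN Y * num Y (p ^ f) ≤ dd Y (p ^ f) * (B ^ 3 * c) := by
  obtain ⟨h1, h2, -⟩ := cross_core (a := 0) h hS htp hc (by rw [pow_zero, mul_one, e]) hB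
  refine ⟨h2, ?_⟩
  rw [← h.eq, ← e]
  exact Nat.mul_le_mul_left _ (Nat.mul_le_mul_right _ (hS.lt_cube.le.trans (Nat.pow_le_pow_left h1 3)))

/-- a lower bound for the factors -/
theorem pow_pred' {q : ℕ} (hq : 2 ≤ q) (k : ℕ) : q ^ k ≤ q ^ (k + 1) - 1 := by
  have h1 : 1 ≤ q ^ k := Nat.one_le_pow _ _ (by omega)
  have h2 : 2 * q ^ k ≤ q ^ (k + 1) := by rw [pow_succ, mul_comm]; exact Nat.mul_le_mul_left _ hq
  omega

/-- growth -/
theorem growth {C k b n0 : ℕ} (h0 : C * n0 ^ k < b ^ n0) (h1 : (n0 + 1) ^ k ≤ b * n0 ^ k) (hn0 : 1 ≤ n0)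
    {n : ℕ} (hn : n0 ≤ n) : C * n ^ k < b ^ n := by
  induction n, hn using Nat.le_induction with
  | base => exact h0
  | succ n hn ih =>
    have h2 : (n + 1) ^ k ≤ b * n ^ k := by
      have h3 : n0 * (n + 1) ≤ (n0 + 1) * n := by nlinarith
      have h4 : (n0 * (n + 1)) ^ k ≤ ((n0 + 1) * n) ^ k := Nat.pow_le_pow_left h3 k
      rw [mul_pow, mul_pow] at h4
      have h5 : (n0 + 1) ^ k * n ^ k ≤ b * n0 ^ k * n ^ k := Nat.mul_le_mul_right _ h1
      have h6 : n0 ^ k * (n + 1) ^ k ≤ n0 ^ k * (b * n ^ k) := by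
        calc n0 ^ k * (n + 1) ^ k ≤ _ := h4
          _ ≤ _ := h5
          _ = _ := by ring
      exact Nat.le_of_mul_le_mul_left h6 (pow_pos (by omega) _)
    calc C * (n + 1) ^ k ≤ C * (b * n ^ k) := Nat.mul_le_mul_left _ h2
      _ = b * (C * n ^ k) := by ring
      _ < b * b ^ n := by
        apply Nat.mul_lt_mul_of_pos_left ih
        by_contra hb
        have hb0 : b = 0 := by omega
        subst hb0
        rw [zero_pow (by omega)] at h0
        omega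
      _ = _ := by rw [pow_succ]; ring

end Cfsg.Agent.H992.TC
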