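import Mathlib
import Cfsg.Agent.H992.TC.Alt

/-!
# The order `mm` of the isolated torus
-/

set_option autoImplicit false

namespace Cfsg.Agent.H992.TC

open Cfsg.Agent.H902 Cfsg.Agent.H902.Art

theorem le_pow (q : ℕ) {a b : ℕ} (hq : 1 ≤ q) (hab : a ≤ b) : q ^ a ≤ q ^ b := Nat.pow_le_pow_right hq hab

theorem F4_mod (q : ℕ) (hq : 1 ≤ q) : (q ^ 4 - q ^ 2 + 1) % 6 = 1 := by
  have h0 := le_pow q (a := 2) (b := 4) hq (by norm_num)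
  have e : (q ^ 4 - q ^ 2 + 1) + q ^ 2 = q ^ 4 + 1 := by omega
  have h2 : q ^ 2 % 6 = (q % 6) ^ 2 % 6 := Nat.pow_mod q 2 6
  have h4 : q ^ 4 % 6 = (q % 6) ^ 4 % 6 := Nat.pow_mod q 4 6
  have h6 : q % 6 < 6 := Nat.mod_lt _ (by norm_num)
  generalize q % 6 = a at h2 h4 h6
  interval_cases a <;> norm_num at h2 h4 <;> omega

theorem E6_mod (q : ℕ) : (q ^ 6 + q ^ 3 + 1) % 2 = 1 ∧ (q % 3 = 1 → (q ^ 6 + q ^ 3 + 1) % 9 = 3) ∧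
    (q % 3 ≠ 1 → (q ^ 6 + q ^ 3 + 1) % 3 = 1) := by
  have h2 : q ^ 3 % 18 = (q % 18) ^ 3 % 18 := Nat.pow_mod q 3 18
  have h4 : q ^ 6 % 18 = (q % 18) ^ 6 % 18 := Nat.pow_mod q 6 18
  have h6 : q % 18 < 18 := Nat.mod_lt _ (by norm_num)
  have h7 : q % 3 = (q % 18) % 3 := by omega
  rw [h7]
  generalize q % 18 = a at h2 h4 h6
  interval_cases a <;> norm_num at h2 h4 ⊢ <;> omega

theorem TE6_mod (q : ℕ) (hq : 1 ≤ q) : (q ^ 6 - q ^ 3 + 1) % 2 = 1 ∧ (q % 3 = 2 → (q ^ 6 - q ^ 3 + 1) % 9 = 3) ∧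
    (q % 3 ≠ 2 → (q ^ 6 - q ^ 3 + 1) % 3 = 1) := by
  have h0 := le_pow q (a := 3) (b := 6) hq (by norm_num)
  have e : (q ^ 6 - q ^ 3 + 1) + q ^ 3 = q ^ 6 + 1 := by omega
  generalize q ^ 6 - q ^ 3 + 1 = A at e ⊢
  have h2 : q ^ 3 % 18 = (q % 18) ^ 3 % 18 := Nat.pow_mod q 3 18
  have h4 : q ^ 6 % 18 = (q % 18) ^ 6 % 18 := Nat.pow_mod q 6 18
  have h6 : q % 18 < 18 := Nat.mod_lt _ (by norm_num)
  have h7 : q % 3 = (q % 18) % 3 := by omega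
  rw [h7]
  generalize q % 18 = a at h2 h4 h6
  interval_cases a <;> norm_num at h2 h4 ⊢ <;> omega

theorem gcd_three (a : ℕ) : (3 ∣ a ∧ Nat.gcd 3 a = 3) ∨ (¬ 3 ∣ a ∧ Nat.gcd 3 a = 1) := by
  by_cases h : 3 ∣ a
  · exact Or.inl ⟨h, Nat.gcd_eq_left h⟩
  · exact Or.inr ⟨h, (Nat.Prime.coprime_iff_not_dvd Nat.prime_three).2 h⟩

theorem mm_mul_E6 (q : ℕ) (hq : 1 ≤ q) : mm .E6 q * Nat.gcd 3 (q - 1) = q ^ 6 + q ^ 3 + 1 := by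
  show (q ^ 6 + q ^ 3 + 1) / Nat.gcd 3 (q - 1) * Nat.gcd 3 (q - 1) = _
  obtain ⟨-, h1, -⟩ := E6_mod q
  rcases gcd_three (q - 1) with ⟨h, h'⟩ | ⟨h, h'⟩
  · rw [h']
    have := h1 (by omega)
    omega
  · rw [h']; simp

theorem mm_mul_TE6 (q : ℕ) (hq : 1 ≤ q) : mm .TE6 q * Nat.gcd 3 (q + 1) = q ^ 6 - q ^ 3 + 1 := by
  show (q ^ 6 - q ^ 3 + 1) / Nat.gcd 3 (q + 1) * Nat.gcd 3 (q + 1) = _
  obtain ⟨-, h1, -⟩ := TE6_mod q hq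
  rcases gcd_three (q + 1) with ⟨h, h'⟩ | ⟨h, h'⟩
  · rw [h']
    have := h1 (by omega)
    omega
  · rw [h']; simp

theorem coprime_six {a : ℕ} (h2 : a % 2 = 1) (h3 : a % 3 ≠ 0) : a.Coprime 6 := by
  have e2 : a.Coprime 2 := (Nat.coprime_comm.1 ((Nat.Prime.coprime_iff_not_dvd Nat.prime_two).2 (by omega)))
  have e3 : a.Coprime 3 := (Nat.coprime_comm.1 ((Nat.Prime.coprime_iff_not_dvd Nat.prime_three).2 (by omega)))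
  exact Nat.Coprime.mul_right e2 e3

/-- the three types -/
def Y3 (Y : Sh) : Prop := Y = .F4 ∨ Y = .E6 ∨ Y = .TE6

theorem mm_coprime_six {Y : Sh} (hY : Y3 Y) {q : ℕ} (hq : 1 ≤ q) : (mm Y q).Coprime 6 := by
  rcases hY with rfl | rfl | rfl
  · have := F4_mod q hq
    exact coprime_six (a := q ^ 4 - q ^ 2 + 1) (by omega) (by omega)
  · obtain ⟨h0, h1, h2⟩ := E6_mod q
    have h3 := mm_mul_E6 q hq
    rcases gcd_three (q - 1) with ⟨h, h'⟩ | ⟨h, h'⟩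
    · rw [h'] at h3
      have := h1 (by omega)
      exact coprime_six (by omega) (by omega)
    · rw [h', mul_one] at h3
      have := h2 (by omega)
      exact coprime_six (by omega) (by omega)
  · obtain ⟨h0, h1, h2⟩ := TE6_mod q hq
    have h3 := mm_mul_TE6 q hq
    rcases gcd_three (q + 1) with ⟨h, h'⟩ | ⟨h, h'⟩
    · rw [h'] at h3
      have := h1 (by omega)
      exact coprime_six (by omega) (by omega)
    · rw [h', mul_one] at h3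
      have := h2 (by omega)
      exact coprime_six (by omega) (by omega)

theorem nine_sub (q : ℕ) (hq : 1 ≤ q) : q ^ 9 - 1 = (q ^ 3 - 1) * (q ^ 6 + q ^ 3 + 1) := by
  have h3 : 1 ≤ q ^ 3 := Nat.one_le_pow _ _ hq
  obtain ⟨t, ht⟩ := Nat.exists_eq_add_of_le' h3
  have e9 : q ^ 9 = (t + 1) ^ 3 := by rw [← ht]; ring
  have e6 : q ^ 6 = (t + 1) ^ 2 := by rw [← ht]; ring
  rw [e9, e6, ht, Nat.add_sub_cancel]
  have : (t + 1) ^ 3 = t * ((t + 1) ^ 2 + (t + 1) + 1) + 1 := by ring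
  rw [this, Nat.add_sub_cancel]

theorem nine_add (q : ℕ) (hq : 1 ≤ q) : q ^ 9 + 1 = (q ^ 3 + 1) * (q ^ 6 - q ^ 3 + 1) := by
  have h3 : 1 ≤ q ^ 3 := Nat.one_le_pow _ _ hq
  obtain ⟨t, ht⟩ := Nat.exists_eq_add_of_le' h3
  have e9 : q ^ 9 = (t + 1) ^ 3 := by rw [← ht]; ring
  have e6 : q ^ 6 = t * (t + 1) + (t + 1) := by
    have : q ^ 6 = (q ^ 3) ^ 2 := by ring
    rw [this, ht]; ring
  rw [e9, e6, ht, Nat.add_sub_cancel]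
  ring

theorem twelve_sub (q : ℕ) (hq : 1 ≤ q) : q ^ 12 - 1 = (q ^ 6 - 1) * (q ^ 2 + 1) * (q ^ 4 - q ^ 2 + 1) := by
  have h3 : 1 ≤ q ^ 2 := Nat.one_le_pow _ _ hq
  obtain ⟨t, ht⟩ := Nat.exists_eq_add_of_le' h3
  have e12 : q ^ 12 = (t + 1) ^ 6 := by rw [← ht]; ring
  have e6 : q ^ 6 = (t + 1) ^ 3 := by rw [← ht]; ring
  have e4 : q ^ 4 = t * (t + 1) + (t + 1) := by
    have : q ^ 4 = (q ^ 2) ^ 2 := by ring
    rw [this, ht]; ring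
  rw [e12, e6, e4, ht, Nat.add_sub_cancel]
  have h1 : (t + 1) ^ 3 = t ^ 3 + 3 * t ^ 2 + 3 * t + 1 := by ring
  rw [h1, Nat.add_sub_cancel]
  have : (t + 1) ^ 6 = (t ^ 3 + 3 * t ^ 2 + 3 * t) * (t + 1 + 1) * (t * (t + 1) + 1) + 1 := by ring
  rw [this, Nat.add_sub_cancel]

theorem mm_dvd_num {Y : Sh} (hY : Y3 Y) {q : ℕ} (hq : 1 ≤ q) : ∃ k, num Y q = k * (dd Y q * mm Y q) := by
  rcases hY with rfl | rfl | rfl
  · refine ⟨(q ^ 2 - 1) * (q ^ 6 - 1) * (q ^ 8 - 1) * ((q ^ 6 - 1) * (q ^ 2 + 1)), ?_⟩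
    show (q ^ 2 - 1) * (q ^ 6 - 1) * (q ^ 8 - 1) * (q ^ 12 - 1) = _ * (1 * (q ^ 4 - q ^ 2 + 1))
    rw [twelve_sub q hq]; ring
  · refine ⟨(q ^ 2 - 1) * (q ^ 5 - 1) * (q ^ 6 - 1) * (q ^ 8 - 1) * (q ^ 3 - 1) * (q ^ 12 - 1), ?_⟩
    show (q ^ 2 - 1) * (q ^ 5 - 1) * (q ^ 6 - 1) * (q ^ 8 - 1) * (q ^ 9 - 1) * (q ^ 12 - 1) =
      _ * (Nat.gcd 3 (q - 1) * mm .E6 q)
    rw [mul_comm (Nat.gcd 3 (q - 1)), mm_mul_E6 q hq, nine_sub q hq]; ring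
  · refine ⟨(q ^ 2 - 1) * (q ^ 5 + 1) * (q ^ 6 - 1) * (q ^ 8 - 1) * (q ^ 3 + 1) * (q ^ 12 - 1), ?_⟩
    show (q ^ 2 - 1) * (q ^ 5 + 1) * (q ^ 6 - 1) * (q ^ 8 - 1) * (q ^ 9 + 1) * (q ^ 12 - 1) =
      _ * (Nat.gcd 3 (q + 1) * mm .TE6 q)
    rw [mul_comm (Nat.gcd 3 (q + 1)), mm_mul_TE6 q hq, nine_add q hq]; ring

section

variable {Y : Sh} {p f M : ℕ}

theorem mm_dvd (hY : Y3 Y) (h : Art.Real Y p f M) : mm Y (p ^ f) ∣ M := by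
  obtain ⟨k, hk⟩ := mm_dvd_num hY (q := p ^ f) (by have := h.q_ge; omega)
  refine ⟨(p ^ f) ^ NN Y * k, ?_⟩
  apply Nat.eq_of_mul_eq_mul_left (Nat.pos_of_ne_zero h.dd_ne)
  rw [h.eq, hk]; ring

theorem mm_not_dvd (hY : Y3 Y) (h : Art.Real Y p f M) : ¬ p ∣ mm Y (p ^ f) := by
  obtain ⟨k, hk⟩ := mm_dvd_num hY (q := p ^ f) (by have := h.q_ge; omega)
  intro hd
  apply h.not_dvd_num
  rw [hk]
  exact hd.trans (Dvd.intro_left (k * dd Y (p ^ f)) (by ring))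

end

/-! ### sizes -/

theorem F4_gt {q : ℕ} (hq : 2 ≤ q) : (q ^ 2 - 1) ^ 2 < mm .F4 q := by
  show _ < q ^ 4 - q ^ 2 + 1
  have h3 : 1 ≤ q ^ 2 := Nat.one_le_pow _ _ (by omega)
  obtain ⟨t, ht⟩ := Nat.exists_eq_add_of_le' h3
  have e4 : q ^ 4 = t * (t + 1) + (t + 1) := by
    have : q ^ 4 = (q ^ 2) ^ 2 := by ring
    rw [this, ht]; ring
  rw [e4, ht, Nat.add_sub_cancel, Nat.add_sub_cancel]
  nlinarith

theorem E_gt {Y : Sh} (hY : Y = .E6 ∨ Y = .TE6) {q : ℕ} (hq : 3 ≤ q) : (q + 1) ^ 6 ≤ 18 * mm Y q := by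
  have h0 := le_pow q (a := 3) (b := 6) (by omega) (by norm_num)
  have key : (q + 1) ^ 6 + 6 * q ^ 3 ≤ 6 * q ^ 6 + 6 := by
    obtain ⟨r, rfl⟩ := Nat.exists_eq_add_of_le' hq
    have : 6 * (r + 3) ^ 6 + 6 = (r + 3 + 1) ^ 6 + 6 * (r + 3) ^ 3 +
      (5 * r ^ 6 + 84 * r ^ 5 + 570 * r ^ 4 + 1954 * r ^ 3 + 3396 * r ^ 2 + 2442 * r + 122) := by ring
    rw [this]
    exact Nat.le_add_right _ _
  have h1 : q ^ 6 - q ^ 3 + 1 ≤ 3 * mm Y q := by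
    rcases hY with rfl | rfl
    · have h2 := mm_mul_E6 q (by omega)
      have h3 : Nat.gcd 3 (q - 1) ≤ 3 := Nat.gcd_le_left _ (by norm_num)
      have h4 : mm .E6 q * Nat.gcd 3 (q - 1) ≤ mm .E6 q * 3 := Nat.mul_le_mul_left _ h3
      omega
    · have h2 := mm_mul_TE6 q (by omega)
      have h3 : Nat.gcd 3 (q + 1) ≤ 3 := Nat.gcd_le_left _ (by norm_num)
      have h4 : mm .TE6 q * Nat.gcd 3 (q + 1) ≤ mm .TE6 q * 3 := Nat.mul_le_mul_left _ h3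
      omega
  omega

theorem E_three {Y : Sh} (hY : Y = .E6 ∨ Y = .TE6) {q : ℕ} (hq : 3 ≤ q) : 703 ≤ mm Y q := by
  by_cases h3 : q = 3
  · subst h3
    rcases hY with rfl | rfl <;> decide
  by_cases h4 : q = 4
  · subst h4
    rcases hY with rfl | rfl <;> decide
  have h := E_gt hY hq
  have h1 : 6 ^ 6 ≤ (q + 1) ^ 6 := Nat.pow_le_pow_left (by omega) 6
  norm_num at h1
  omega

theorem E_four {Y : Sh} (hY : Y = .E6 ∨ Y = .TE6) {q : ℕ} (hq : 4 ≤ q) : 1387 ≤ mm Y q := by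
  by_cases h4 : q = 4
  · subst h4
    rcases hY with rfl | rfl <;> decide
  have h := E_gt hY (by omega : 3 ≤ q)
  have h1 : 6 ^ 6 ≤ (q + 1) ^ 6 := Nat.pow_le_pow_left (by omega) 6
  norm_num at h1
  omega

end Cfsg.Agent.H992.TC
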