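import Mathlib
import Cfsg.Agent.H992.TC.Torus
import Cfsg.Agent.Lib.Zsigmondy

/-!
# The order of `p` modulo the isolated torus
-/

set_option autoImplicit false

namespace Cfsg.Agent.H992.TC

open Cfsg.Agent.H902 Cfsg.Agent.H902.Art

variable {Y : Sh} {p f M : ℕ}

/-- the order of `q` modulo a large prime divisor of the isolated torus -/
def EE : Sh → ℕ
  | .F4 => 12
  | .E6 => 9
  | .TE6 => 18
  | _ => 1

theorem sq_mul_add (x : ℕ) (hx : 1 ≤ x) : x ^ 2 - 1 = (x - 1) * (x + 1) := by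
  obtain ⟨t, rfl⟩ := Nat.exists_eq_add_of_le' hx
  have : (t + 1) ^ 2 = (t + 1 - 1) * (t + 1 + 1) + 1 := by rw [Nat.add_sub_cancel]; ring
  rw [this, Nat.add_sub_cancel]

theorem ppd_mm (hY : Y3 Y) (h : Art.Real Y p f M) : ∃ r, r.Prime ∧ r ∣ mm Y (p ^ f) ∧ EE Y * f + 1 ≤ r ∧
    ∀ j, r ∣ p ^ j - 1 ↔ EE Y * f ∣ j := by
  have hf : 0 < f := h.hf
  have hp := h.hp
  have hq : 1 ≤ p ^ f := Nat.one_le_pow _ _ hp.pos
  have hE : 9 ≤ EE Y ∧ (∀ a, EE Y = a → 9 ≤ a ∧ a ≤ 18) := by rcases hY with rfl | rfl | rfl <;> simp [EE]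
  have hE9 : 9 * f ≤ EE Y * f := Nat.mul_le_mul_right _ hE.1
  obtain ⟨r, hr, h1, h2, h4⟩ := Cfsg.Agent.Lib.Zsigmondy.exists_primitive hp.two_le (n := EE Y * f) (by omega)
    (by omega) (by omega)
  have h5 : EE Y * f ≤ r - 1 := Nat.le_of_dvd (by have := hr.two_le; omega) h2
  have hno : ∀ k, 0 < k → k < EE Y → ¬ r ∣ (p ^ f) ^ k - 1 := by
    intro k hk0 hk hd
    rw [← pow_mul, h1, mul_comm f k] at hd
    have := Nat.dvd_of_mul_dvd_mul_right hf hd
    exact absurd (Nat.le_of_dvd hk0 this) (by omega)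
  have hyes : r ∣ (p ^ f) ^ EE Y - 1 := by
    rw [← pow_mul, h1, mul_comm f]
  refine ⟨r, hr, ?_, by omega, h1⟩
  have hr3 : ∀ a, r ∣ Nat.gcd 3 a → False := by
    intro a ha
    have := Nat.le_of_dvd (by norm_num) (ha.trans (Nat.gcd_dvd_left 3 a))
    omega
  rcases hY with rfl | rfl | rfl
  · have e : EE .F4 = 12 := rfl
    rw [e] at hno hyes
    rw [twelve_sub _ hq] at hyes
    rcases hr.dvd_mul.1 hyes with h6 | h6
    · rcases hr.dvd_mul.1 h6 with h7 | h7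
      · exact absurd h7 (hno 6 (by norm_num) (by norm_num))
      · exfalso
        apply hno 4 (by norm_num) (by norm_num)
        have h8 := sq_mul_add ((p ^ f) ^ 2) (Nat.one_le_pow _ _ hq)
        rw [← pow_mul] at h8
        rw [show 4 = 2 * 2 from rfl, h8]
        exact h7.mul_left _
    · exact h6
  · have e : EE .E6 = 9 := rfl
    rw [e] at hno hyes
    rw [nine_sub _ hq] at hyes
    rcases hr.dvd_mul.1 hyes with h6 | h6
    · exact absurd h6 (hno 3 (by norm_num) (by norm_num))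
    · rw [← mm_mul_E6 _ hq] at h6
      rcases hr.dvd_mul.1 h6 with h7 | h7
      · exact h7
      · exact (hr3 _ h7).elim
  · have e : EE .TE6 = 18 := rfl
    rw [e] at hno hyes
    have h9 := sq_mul_add ((p ^ f) ^ 9) (Nat.one_le_pow _ _ hq)
    rw [← pow_mul] at h9
    rw [show 18 = 9 * 2 from rfl, h9, nine_add _ hq] at hyes
    rcases hr.dvd_mul.1 hyes with h6 | h6
    · exact absurd h6 (hno 9 (by norm_num) (by norm_num))
    · rcases hr.dvd_mul.1 h6 with h7 | h7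
      · exfalso
        apply hno 6 (by norm_num) (by norm_num)
        have h8 := sq_mul_add ((p ^ f) ^ 3) (Nat.one_le_pow _ _ hq)
        rw [← pow_mul] at h8
        rw [show 6 = 3 * 2 from rfl, h8]
        exact h7.mul_left _
      · rw [← mm_mul_TE6 _ hq] at h7
        rcases hr.dvd_mul.1 h7 with h8 | h8
        · exact h8
        · exact (hr3 _ h8).elim

theorem exp_dvd (hY : Y3 Y) (h : Art.Real Y p f M) {a : ℕ} (hd : mm Y (p ^ f) ∣ p ^ a - 1) : EE Y * f ∣ a := by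
  obtain ⟨r, hr, h1, h2, h3⟩ := ppd_mm hY h
  exact (h3 a).1 (h1.trans hd)

theorem exp_dvd' (hY : Y3 Y) (h : Art.Real Y p f M) {a : ℕ} (hd : mm Y (p ^ f) ∣ p ^ a - 1) :
    (Y = .F4 ∧ 12 * f ∣ a) ∨ (Y = .E6 ∧ 9 * f ∣ a) ∨ (Y = .TE6 ∧ 18 * f ∣ a) := by
  have := exp_dvd hY h hd
  rcases hY with rfl | rfl | rfl
  · exact Or.inl ⟨rfl, this⟩
  · exact Or.inr (Or.inl ⟨rfl, this⟩)
  · exact Or.inr (Or.inr ⟨rfl, this⟩)

end Cfsg.Agent.H992.TC
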