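import Mathlib
import Cfsg.Agent.H992.TC.Core
import Cfsg.Agent.H129.CycRow
import Cfsg.Agent.S4184

/-!
# From class sizes to the structure

`L` has an isolated cyclic torus of order `m` (`CycExact L m`), `G` has trivial centre and the class sizes of `L`:
`|G| = |L|`, `TT G m`, and (if the indices of the proper subgroups of `L` are large) `G` is a `p`-group extended by an
almost simple group.
-/

set_option autoImplicit false

namespace Cfsg.Agent.H992.TC

open Subgroup Cfsg.Agent.H364 Cfsg.Agent.H129.CycT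

universe u v

theorem tt_of_cycExact {L : Type u} [Group L] [Finite L] {m : ℕ} (hm : 1 < m) (h : CycExact L m) : TT L m where
  two := by
    intro x hx
    by_cases hc : (Nat.card (centralizer ({x} : Set L))).Coprime m
    · exact Or.inr hc
    left
    obtain ⟨r, hr, hrC, hrm⟩ := Nat.Prime.not_coprime_iff_dvd.1 hc
    have := Fact.mk hr
    obtain ⟨⟨y, hy⟩, hyr⟩ := exists_prime_orderOf_dvd_card' r hrC
    rw [Subgroup.orderOf_mk] at hyr
    obtain ⟨T, h1, h2, h3⟩ := h
    obtain ⟨g, hg, hgz⟩ := centralizer_conj h1 hr (h2 ▸ hrm) (fun z hz hzr => (h3 z hz (by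
      rintro rfl
      rw [orderOf_one] at hzr
      exact hr.one_lt.ne hzr)).le) hyr
    have hxy : x ∈ centralizer ({y} : Set L) := by
      rw [mem_centralizer_singleton_iff] at hy ⊢
      exact hy.symm
    have hx2 : g * x * g⁻¹ ∈ T := (hgz x).1 hxy
    have hx3 : g * x * g⁻¹ ≠ 1 := fun h0 => hx (by
      calc x = g⁻¹ * (g * x * g⁻¹) * g := by group
        _ = 1 := by rw [h0]; group)
    have h4 := h3 _ hx2 hx3
    rw [← h2, ← h4]
    -- the centralisers of conjugate elements have the same order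
    refine Nat.card_congr ⟨fun z => ⟨g * z * g⁻¹, ?_⟩, fun z => ⟨g⁻¹ * z * g, ?_⟩, fun z => ?_, fun z => ?_⟩
    · have hz := mem_centralizer_singleton_iff.1 z.2
      rw [mem_centralizer_singleton_iff]
      calc g * z * g⁻¹ * (g * x * g⁻¹) = g * (z * x) * g⁻¹ := by group
        _ = g * (x * z) * g⁻¹ := by rw [hz]
        _ = _ := by group
    · have hz := mem_centralizer_singleton_iff.1 z.2
      rw [mem_centralizer_singleton_iff]
      calc g⁻¹ * z * g * x = g⁻¹ * ((z : L) * (g * x * g⁻¹)) * g := by group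
        _ = g⁻¹ * ((g * x * g⁻¹) * z) * g := by rw [hz]
        _ = _ := by group
    · exact Subtype.ext (by simp [mul_assoc])
    · exact Subtype.ext (by simp [mul_assoc])
  ex := by
    obtain ⟨T, h1, h2, h3⟩ := h
    have hT : Nontrivial T := by
      rw [← Finite.one_lt_card_iff_nontrivial, h2]
      exact hm
    obtain ⟨⟨y, hy⟩, hy1⟩ := exists_ne (1 : T)
    have hy1' : y ≠ 1 := fun h0 => hy1 (Subtype.ext h0)
    exact ⟨y, hy1', by rw [h3 y hy hy1', h2]⟩

section

variable {L : Type u} [Group L] [Finite L] {G : Type v} [Group G] [Finite G] {m : ℕ}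

/-- every class size of `G` comes from `L` -/
theorem exists_cs (hZ : center G = ⊥)
    (h : Set.range (fun g : G => (centralizer ({g} : Set G)).index) =
      Set.range (fun g : L => (centralizer ({g} : Set L)).index)) {g : G} (hg : g ≠ 1) :
    ∃ l : L, l ≠ 1 ∧ (centralizer ({l} : Set L)).index = (centralizer ({g} : Set G)).index := by
  have h1 : (centralizer ({g} : Set G)).index ∈ Set.range (fun g : L => (centralizer ({g} : Set L)).index) := by
    rw [← h]; exact ⟨g, rfl⟩
  obtain ⟨l, hl⟩ := h1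
  refine ⟨l, ?_, hl⟩
  rintro rfl
  apply hg
  have h2 : (centralizer ({(1 : L)} : Set L)) = ⊤ := by
    rw [eq_top_iff]
    intro x _
    rw [mem_centralizer_singleton_iff]
    simp
  have h3 : (centralizer ({g} : Set G)).index = 1 := by
    rw [← hl]
    show (centralizer ({(1 : L)} : Set L)).index = 1
    rw [h2, index_top]
  rw [index_eq_one] at h3
  have h4 : g ∈ center G := by
    rw [mem_center_iff]
    intro x
    have : x ∈ centralizer ({g} : Set G) := h3 ▸ mem_top x
    exact mem_centralizer_singleton_iff.1 this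
  rwa [hZ, mem_bot] at h4

/-- **Orders and types agree.** -/
theorem transfer (hZL : center L = ⊥) (hZ : center G = ⊥) (hm : 1 < m) (hL : TT L m)
    (hs : ∃ s, s.Prime ∧ s ∣ Nat.card L ∧ ¬ s ∣ m)
    (h : Set.range (fun g : G => (centralizer ({g} : Set G)).index) =
      Set.range (fun g : L => (centralizer ({g} : Set L)).index)) :
    Nat.card G = Nat.card L ∧ TT G m := by
  have hcard : Nat.card G = Nat.card L := by
    refine Cfsg.Agent.S4184.result hZ hZL h ⟨{a | a ∣ m}, ?_, ?_, ?_⟩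
    · obtain ⟨r, hr, hrm⟩ := Nat.exists_prime_and_dvd hm.ne'
      exact ⟨r, hrm, hr, hrm.trans hL.dvd_card⟩
    · obtain ⟨s, hs, hsL, hsm⟩ := hs
      exact ⟨s, hsm, hs, hsL⟩
    · rintro a ha b hb hap hbp - - ⟨x, hx⟩
      exact hL.noEdge hap hbp ha hb x hx
  have key : ∀ (g : G) (l : L), (centralizer ({l} : Set L)).index = (centralizer ({g} : Set G)).index →
      Nat.card (centralizer ({g} : Set G)) = Nat.card (centralizer ({l} : Set L)) := by
    intro g l hgl
    have h1 := (centralizer ({g} : Set G)).card_mul_index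
    have h2 := (centralizer ({l} : Set L)).card_mul_index
    rw [hgl, ← hcard, ← h1] at h2
    exact (Nat.eq_of_mul_eq_mul_right (Nat.pos_of_ne_zero index_ne_zero_of_finite) h2).symm
  refine ⟨hcard, ⟨fun g hg => ?_, ?_⟩⟩
  · obtain ⟨l, hl, hgl⟩ := exists_cs hZ h hg
    rw [key g l hgl]
    exact hL.two l hl
  · obtain ⟨l, hl, hlm⟩ := hL.ex
    have h1 : (centralizer ({l} : Set L)).index ∈ Set.range (fun g : G => (centralizer ({g} : Set G)).index) := by
      rw [h]; exact ⟨l, rfl⟩
    obtain ⟨g, hg⟩ := h1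
    have hg' : (centralizer ({g} : Set G)).index = (centralizer ({l} : Set L)).index := hg
    have h2 := key g l hg'.symm
    refine ⟨g, ?_, by rw [h2, hlm]⟩
    rintro rfl
    have h3 : (centralizer ({(1 : G)} : Set G)) = ⊤ := by
      rw [eq_top_iff]
      intro x _
      rw [mem_centralizer_singleton_iff]
      simp
    rw [h3, index_top] at hg'
    rw [eq_comm, index_eq_one] at hg'
    have h4 : l ∈ center L := by
      rw [mem_center_iff]
      intro x
      have : x ∈ centralizer ({l} : Set L) := hg' ▸ mem_top x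
      exact mem_centralizer_singleton_iff.1 this
    rw [hZL, mem_bot] at h4
    exact hl h4

theorem cs_ge (hZL : center L = ⊥) (hZ : center G = ⊥)
    (h : Set.range (fun g : G => (centralizer ({g} : Set G)).index) =
      Set.range (fun g : L => (centralizer ({g} : Set L)).index)) {b : ℕ}
    (hb : ∀ H : Subgroup L, H ≠ ⊤ → b ≤ H.index) {g : G} (hg : g ≠ 1) : b ≤ (centralizer ({g} : Set G)).index := by
  obtain ⟨l, hl, hgl⟩ := exists_cs hZ h hg
  rw [← hgl]
  refine hb _ fun h0 => hl ?_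
  have h4 : l ∈ center L := by
    rw [mem_center_iff]
    intro x
    have : x ∈ centralizer ({l} : Set L) := h0 ▸ mem_top x
    exact mem_centralizer_singleton_iff.1 this
  rwa [hZL, mem_bot] at h4

/-- `|K| ≡ 1 mod m` for normal subgroups of order `t^a` prime to `m`. -/
theorem TT.dvd_sub_one (h : TT G m) (hm : 1 < m) {t a : ℕ} (ht : t.Prime) (htm : ¬ t ∣ m) {V : Subgroup G}
    [V.Normal] (hV : Nat.card V = t ^ a) : m ∣ t ^ a - 1 := by
  have hm0 : m ≠ 0 := by omega
  rw [Nat.dvd_iff_prime_pow_dvd_dvd]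
  intro r k hr hrk
  by_cases hk : k = 0
  · subst hk; simp
  have hrm : r ∣ m := (dvd_pow_self r hk).trans hrk
  have hrt : r ≠ t := by rintro rfl; exact htm hrm
  have h1 := congr_one V hr ht hrt (by
    rw [hV]
    intro hd
    exact hrt ((Nat.prime_dvd_prime_iff_eq hr ht).1 (hr.dvd_of_dvd_pow hd))) (h.noEdge hr ht hrm htm)
  rw [hV, ht.factorization_pow, Finsupp.single_eq_same, h.factorization hr hrm] at h1
  refine dvd_trans ?_ h1
  exact Nat.pow_dvd_pow _ ((hr.pow_dvd_iff_le_factorization hm0).1 hrk)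

/-- **No normal `t`-subgroups.** -/
theorem TT.normal_bot (h : TT G m) (hm : 1 < m) {b p : ℕ}
    (hb : ∀ g : G, g ≠ 1 → b ≤ (centralizer ({g} : Set G)).index) (hN : m ^ 2 ≤ Nat.card G)
    (har : ∀ t a : ℕ, t.Prime → t ≠ p → t ^ a ∣ Nat.card G → b < t ^ a → m ∣ t ^ a - 1 → False) :
    ∀ t, t.Prime → t ≠ p → ∀ V : Subgroup G, V.Normal → IsPGroup t V → V = ⊥ := by
  intro t ht htp V hVn hV
  have := Fact.mk ht
  by_contra hV1
  obtain ⟨v, hvV, hv1⟩ : ∃ v ∈ V, v ≠ 1 := by
    by_contra hcon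
    push Not at hcon
    exact hV1 (eq_bot_iff.2 fun x hx => mem_bot.2 (hcon x hx))
  have h1 := index_lt_card hVn hvV hv1
  obtain ⟨a, ha⟩ := IsPGroup.iff_card.1 hV
  by_cases htm : t ∣ m
  · have hvt : t ∣ orderOf v := TT.struct.dvd_orderOf_of_pgroup' ht hV hvV hv1
    have hC := h.card_of_orderOf ht htm hvt
    have h2 := (centralizer ({v} : Set G)).card_mul_index
    rw [hC] at h2
    have hVm : Nat.card V ≤ m := by
      rw [ha]
      refine Nat.le_of_dvd (by omega) ?_
      rw [ht.pow_dvd_iff_le_factorization (by omega), ← h.factorization ht htm,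
        ← ht.pow_dvd_iff_le_factorization Nat.card_pos.ne', ← ha]
      exact card_subgroup_dvd_card V
    have h3 : m * (centralizer ({v} : Set G)).index < m * m := Nat.mul_lt_mul_of_pos_left (by omega) (by omega)
    rw [h2] at h3
    nlinarith
  · refine har t a ht htp (ha ▸ card_subgroup_dvd_card V) ?_ (h.dvd_sub_one hm ht htm ha)
    rw [← ha]
    exact (hb v hv1).trans_lt h1

/-- **The structure of `G`.** -/
theorem struct_of_cs (hZL : center L = ⊥) (hZ : center G = ⊥) (hm : 1 < m) (hm2 : ¬ 2 ∣ m) (hL : TT L m)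
    {p b : ℕ} (hp : p.Prime) (hpL : p ∣ Nat.card L) (hpm : ¬ p ∣ m)
    (hb : ∀ H : Subgroup L, H ≠ ⊤ → b ≤ H.index)
    (hN : p ^ (Nat.card L).factorization p * m ^ 2 ≤ Nat.card L)
    (har : ∀ t a : ℕ, t.Prime → t ≠ p → t ^ a ∣ Nat.card L → b < t ^ a → m ∣ t ^ a - 1 → False)
    (h : Set.range (fun g : G => (centralizer ({g} : Set G)).index) =
      Set.range (fun g : L => (centralizer ({g} : Set L)).index)) :
    Nat.card G = Nat.card L ∧ TT G m ∧
    ∃ (K : Subgroup G) (_ : K.Normal), IsPGroup p K ∧ m ∣ Nat.card K - 1 ∧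
      ∃ N : Subgroup (G ⧸ K), N.Normal ∧ IsSimpleGroup N ∧
      (¬ ∀ a b : N, a * b = b * a) ∧ centralizer (N : Set (G ⧸ K)) = ⊥ ∧
      (∃ r, r.Prime ∧ r ∣ m ∧ r ∣ Nat.card N) ∧
      ∀ r s : ℕ, r.Prime → s.Prime → r ∣ m → ¬ s ∣ m → NoEdge (G ⧸ K) r s := by
  obtain ⟨hcard, hG⟩ := transfer hZL hZ hm hL ⟨p, hp, hpL, hpm⟩ h
  have hbG : ∀ g : G, g ≠ 1 → b ≤ (centralizer ({g} : Set G)).index := fun g hg => cs_ge hZL hZ h hb hg
  have hN2 : m ^ 2 ≤ Nat.card G := by
    rw [hcard]
    exact (Nat.le_mul_of_pos_left _ (pow_pos hp.pos _)).trans hN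
  have hVt := hG.normal_bot hm (p := p) hbG hN2 (by rw [hcard]; exact har)
  obtain ⟨K, hK, hKp, N, hN⟩ := hG.struct hm hm2 hp hpm hVt (by rw [hcard]; exact hN)
  have := Fact.mk hp
  obtain ⟨a, ha⟩ := IsPGroup.iff_card.1 hKp
  exact ⟨hcard, hG, K, hK, hKp, ha ▸ hG.dvd_sub_one hm hp hpm ha, N, hN⟩

end

end Cfsg.Agent.H992.TC
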