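import Mathlib
import Cfsg.Agent.H992.TC.FromCS
import Cfsg.Agent.H902.Artin
import Cfsg.Agent.H902.SameD
import Cfsg.Agent.H902.Cross

/-!
# The general form of the argument
-/

set_option autoImplicit false

namespace Cfsg.Agent.H992.TC

open Subgroup Cfsg Cfsg.Agent.H902 Cfsg.Agent.H902.Art Cfsg.Agent.OrdDiv Cfsg.Agent.H364 Cfsg.Agent.H129.CycT

universe u v

/-- A simple group with the order of an exceptional one. -/
theorem recog_gen {Y : Sh} (hY : ∀ n, Y ≠ .C n) {p f M : ℕ} (h : Art.Real Y p f M) (hM : 25920 < M)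
    {G : Type u} [Group G] [Finite G] [IsSimpleGroup G] {L : Type v} [Group L] [Finite L] [IsSimpleGroup L]
    (hG : Nat.card G = M) (hL : Nat.card L = M) : Nonempty (G ≃* L) := by
  have noC : ∀ m q, 3 ≤ m → Odd q → ∀ {S : Type u} [Group S], OrdDiv.Real (.psp m q) S → Nat.card S = M → False := by
    intro m q hm hq S _ hS hSM
    obtain ⟨F, _, _, hF, ⟨e⟩⟩ := hS
    obtain ⟨t, k, ht, hk, hF'⟩ := Names.exists_pp F
    have h1 := Names.psp_real (F := F) ht hk hF' (m := m) (by omega) (fun h => by omega)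
    rw [← Nat.card_congr e.toEquiv, hSM] at h1
    by_cases htp : t = p
    · subst htp
      rcases same_char h1 h with ⟨h2, -⟩ | h2
      · exact hY m h2.symm
      · omega
    · rcases cross_char h1 h htp with h2 | h2 | h2 <;> omega
  have noC' : ∀ m q, 3 ≤ m → Odd q → ∀ {S : Type v} [Group S], OrdDiv.Real (.psp m q) S → Nat.card S = M → False := by
    intro m q hm hq S _ hS hSM
    obtain ⟨F, _, _, hF, ⟨e⟩⟩ := hS
    obtain ⟨t, k, ht, hk, hF'⟩ := Names.exists_pp F
    have h1 := Names.psp_real (F := F) ht hk hF' (m := m) (by omega) (fun h => by omega)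
    rw [← Nat.card_congr e.toEquiv, hSM] at h1
    by_cases htp : t = p
    · subst htp
      rcases same_char h1 h with ⟨h2, -⟩ | h2
      · exact hY m h2.symm
      · omega
    · rcases cross_char h1 h htp with h2 | h2 | h2 <;> omega
  have no8 : ∀ {S : Type u} [Group S], OrdDiv.Real (.alt 8) S → Nat.card S = M → False := by
    intro S _ hS hSM
    obtain ⟨e⟩ := hS
    have h1 : Nat.card S = 20160 := by
      rw [Nat.card_congr e.toEquiv, Nat.card_eq_fintype_card]
      have := two_mul_card_alternatingGroup (α := Fin 8)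
      rw [Fintype.card_perm, Fintype.card_fin] at this
      have h8 : Nat.factorial 8 = 40320 := rfl
      omega
    omega
  have no8' : ∀ {S : Type v} [Group S], OrdDiv.Real (.alt 8) S → Nat.card S = M → False := by
    intro S _ hS hSM
    obtain ⟨e⟩ := hS
    have h1 : Nat.card S = 20160 := by
      rw [Nat.card_congr e.toEquiv, Nat.card_eq_fintype_card]
      have := two_mul_card_alternatingGroup (α := Fin 8)
      rw [Fintype.card_perm, Fintype.card_fin] at this
      have h8 : Nat.factorial 8 = 40320 := rfl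
      omega
    omega
  rcases Artin.artin (hG.trans hL.symm) with h1 | ⟨h1, -⟩ | ⟨-, h1⟩ | ⟨m, q, hm, hq, h1, -⟩ | ⟨m, q, hm, hq, -, h1⟩
  · exact h1
  · exact (no8 h1 hG).elim
  · exact (no8' h1 hL).elim
  · exact (noC m q hm hq h1 hG).elim
  · exact (noC' m q hm hq h1 hL).elim

section

variable {L : Type u} [Group L] [Finite L] {G : Type v} [Group G] [Finite G] {m : ℕ}

/-- **The structure of `G`, with more information about the `p`-radical.** -/
theorem struct_of_cs2 (hZL : center L = ⊥) (hZ : center G = ⊥) (hm : 1 < m) (hm2 : ¬ 2 ∣ m) (hL : TT L m)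
    {p b : ℕ} (hp : p.Prime) (hpL : p ∣ Nat.card L) (hpm : ¬ p ∣ m)
    (hb : ∀ H : Subgroup L, H ≠ ⊤ → b ≤ H.index)
    (hN : p ^ (Nat.card L).factorization p * m ^ 2 ≤ Nat.card L)
    (har : ∀ t a : ℕ, t.Prime → t ≠ p → t ^ a ∣ Nat.card L → b < t ^ a → m ∣ t ^ a - 1 → False)
    (h : Set.range (fun g : G => (centralizer ({g} : Set G)).index) =
      Set.range (fun g : L => (centralizer ({g} : Set L)).index)) :
    Nat.card G = Nat.card L ∧
    ∃ (K : Subgroup G) (_ : K.Normal) (a : ℕ), Nat.card K = p ^ a ∧ m ∣ p ^ a - 1 ∧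
      (∀ m', 1 < m' → ¬ p ∣ m' → TT L m' → m' ∣ p ^ a - 1) ∧ (a = 0 ∨ b < p ^ a) ∧
      ∃ N : Subgroup (G ⧸ K), N.Normal ∧ IsSimpleGroup N ∧
      (¬ ∀ a b : N, a * b = b * a) ∧ centralizer (N : Set (G ⧸ K)) = ⊥ ∧
      (∃ r, r.Prime ∧ r ∣ m ∧ r ∣ Nat.card N) ∧
      ∀ r s : ℕ, r.Prime → s.Prime → r ∣ m → ¬ s ∣ m → NoEdge (G ⧸ K) r s := by
  obtain ⟨hcard, hG, K, hK, hKp, hKm, N, hN⟩ := struct_of_cs hZL hZ hm hm2 hL hp hpL hpm hb hN har h
  have := Fact.mk hp
  obtain ⟨a, ha⟩ := IsPGroup.iff_card.1 hKp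
  refine ⟨hcard, K, hK, a, ha, ha ▸ hKm, fun m' hm' hpm' hL' => ?_, ?_, N, hN⟩
  · obtain ⟨-, hG'⟩ := transfer hZL hZ hm' hL' ⟨p, hp, hpL, hpm'⟩ h
    exact hG'.dvd_sub_one hm' hp hpm' ha
  · by_cases ha0 : a = 0
    · exact Or.inl ha0
    right
    have hK1 : K ≠ ⊥ := by
      rintro rfl
      rw [card_bot] at ha
      have := Nat.one_lt_pow ha0 hp.one_lt
      omega
    obtain ⟨v, hvK, hv1⟩ := K.bot_or_exists_ne_one.resolve_left hK1
    have h1 := index_lt_card hK hvK hv1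
    rw [← ha]
    exact (cs_ge hZL hZ h hb hv1).trans_lt h1

end

theorem center_bot' {L : Type u} [Group L] [IsSimpleGroup L] (hna : ¬ ∀ a b : L, a * b = b * a) : center L = ⊥ := by
  rcases (inferInstance : (center L).Normal).eq_bot_or_eq_top with h | h
  · exact h
  · exfalso
    apply hna
    intro a b
    have hb : b ∈ center L := h ▸ mem_top b
    exact mem_center_iff.1 hb a

/-- **The general form.** -/
theorem final_gen {Y : Sh} (hY : ∀ n, Y ≠ .C n) {p f M : ℕ} (h : Art.Real Y p f M) (hM : 25920 < M)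
    {L : Type u} [Group L] [Finite L] [IsSimpleGroup L] (hnaL : ¬ IsMulCommutative L) (hLc : Nat.card L = M)
    {m b : ℕ} (hm : 1 < m) (hm2 : ¬ 2 ∣ m) (hpm : ¬ p ∣ m) (hcyc : CycExact L m)
    (hb : ∀ H : Subgroup L, H ≠ ⊤ → b ≤ H.index) (hN : P p M * m ^ 2 ≤ M)
    (har : ∀ t a : ℕ, t.Prime → t ≠ p → t ^ a ∣ M → b < t ^ a → m ∣ t ^ a - 1 → False)
    {G : Type v} [Group G] [Finite G] (hZ : center G = ⊥)
    (hcs : Set.range (fun g : G => (centralizer ({g} : Set G)).index) =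
      Set.range (fun g : L => (centralizer ({g} : Set L)).index))
    (ident : ∀ (Γ : Type v) [Group Γ] [Finite Γ] (N : Subgroup Γ) [N.Normal] [IsSimpleGroup N] (a : ℕ),
      (¬ ∀ a b : N, a * b = b * a) → centralizer (N : Set Γ) = ⊥ → Nat.card Γ * p ^ a = M → m ∣ p ^ a - 1 →
      (∀ m', 1 < m' → ¬ p ∣ m' → CycExact L m' → m' ∣ p ^ a - 1) → (a = 0 ∨ b < p ^ a) →
      (∀ r s : ℕ, r.Prime → s.Prime → r ∣ m → ¬ s ∣ m → NoEdge Γ r s) → Nat.card N = M) :
    Nonempty (G ≃* L) := by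
  have hnaL' : ¬ ∀ a b : L, a * b = b * a := fun hc => hnaL ⟨⟨hc⟩⟩
  have hM0 := h.M_ne
  have hpM : p ∣ M := by
    have h1 : P p M ∣ M := P_dvd p M
    rw [h.P_self] at h1
    exact (dvd_pow (dvd_pow_self p (by have := h.hf; omega)) (by have := NN_pos h; omega)).trans h1
  obtain ⟨hcard, K, hK, a, ha, hKm, hKm', hKb, N, hN, hNs, hna, hC, -, hno⟩ :=
    struct_of_cs2 (center_bot' hnaL') hZ hm hm2 (tt_of_cycExact hm hcyc) h.hp (by rw [hLc]; exact hpM) hpm hb
      (by rw [hLc]; exact hN) (by rw [hLc]; exact har) hcs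
  have e : Nat.card (G ⧸ K) * p ^ a = M := by
    rw [← ha, ← Subgroup.card_eq_card_quotient_mul_card_subgroup, hcard, hLc]
  have hNM : Nat.card N = M := ident (G ⧸ K) N a hna hC e hKm
    (fun m' h1 h2 h3 => hKm' m' h1 h2 (tt_of_cycExact h1 h3)) hKb hno
  have e1 : Nat.card N * (N.index * p ^ a) = Nat.card N * 1 := by
    rw [← mul_assoc, card_mul_index, e, mul_one, hNM]
  have e2 : N.index * p ^ a = 1 := Nat.eq_of_mul_eq_mul_left Nat.card_pos e1
  have e3 := Nat.eq_one_of_mul_eq_one_right e2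
  have e4 := Nat.eq_one_of_mul_eq_one_left e2
  have hKb : K = ⊥ := Subgroup.card_eq_one.1 (ha.trans e4)
  have hNt : N = ⊤ := Subgroup.index_eq_one.1 e3
  subst hKb
  have eG : G ≃* N := (QuotientGroup.quotientBot.symm).trans
    (Subgroup.topEquiv.symm.trans (MulEquiv.subgroupCongr hNt.symm))
  have : IsSimpleGroup G := eG.isSimpleGroup
  exact recog_gen hY h hM (hcard.trans hLc) hLc

end Cfsg.Agent.H992.TC
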