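import Mathlib
import Cfsg.Agent.H992.TC.Alt
import Cfsg.Agent.H902.Artin
import Cfsg.Agent.H902.Facts
import Cfsg.Agent.H934.OutAll
import Cfsg.Agent.H489.OutSpor
import Cfsg.Agent.H816.OutEmb
import Cfsg.Agent.H402.AltGrp
import Cfsg.Agent.H364.Core

/-!
# The identification of the almost simple quotient, general form
-/

set_option autoImplicit false

namespace Cfsg.Agent.H992.TC

open Subgroup Cfsg Cfsg.Agent.H902 Cfsg.Agent.H902.Art Cfsg.Agent.OrdDiv Cfsg.Agent.H364

universe u v

theorem out_small {G : Type u} [Group G] {X : Type v} [Group X]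
    (h : Nat.card (Cfsg.Out X) ≤ 2) (e : Nonempty (G ≃* X)) : Nat.card (Cfsg.Out G) ≤ 2 := by
  obtain ⟨e⟩ := e
  rwa [H934.OutB.card_out_congr e]

theorem spor_out_le {S : Type u} [Group S] {x : Grp × ℕ} (hx : x ∈ spor) (hr : OrdDiv.Real x.1 S) :
    Nat.card (Out S) ≤ 2 := by
  have key : ∀ y ∈ spor, y.1 = .tits ∨ (∀ {S : Type u} [Group S], OrdDiv.Real y.1 S → IsSporadicGroup S) := by
    intro y hy
    simp only [spor, List.mem_cons, List.not_mem_nil, or_false] at hy
    rcases hy with rfl | rfl | rfl | rfl | rfl | rfl | rfl | rfl | rfl | rfl | rfl | rfl | rfl | rfl | rfl | rfl | rfl |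
      rfl | rfl | rfl | rfl | rfl | rfl | rfl | rfl | rfl | rfl
    · exact Or.inl rfl
    all_goals
      right
      intro S _ h
      unfold IsSporadicGroup
      first
        | exact Or.inl h
        | exact Or.inr (Or.inl h)
        | exact Or.inr (Or.inr (Or.inl h))
        | exact Or.inr (Or.inr (Or.inr (Or.inl h)))
        | exact Or.inr (Or.inr (Or.inr (Or.inr (Or.inl h))))
        | exact Or.inr (Or.inr (Or.inr (Or.inr (Or.inr (Or.inl h)))))
        | exact Or.inr (Or.inr (Or.inr (Or.inr (Or.inr (Or.inr (Or.inl h))))))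
        | simp only [OrdDiv.Real] at h; simp only [h, true_or, or_true]
  rcases key x hx with h | h
  · rw [h] at hr
    have hr' : Lie.IsoTits S := hr
    obtain ⟨e⟩ := hr'
    obtain ⟨e'⟩ := Cfsg.Agent.TitsK.exists_equiv
    have hfin : Finite Cfsg.Agent.FourTwo.Base.LL := by infer_instance
    have h1 : Nat.card (Cfsg.Out ↥Cfsg.Agent.TitsK.TT) ∣ 2 := Cfsg.Agent.TitsK.tdata.index_inn
    exact out_small ((Nat.le_of_dvd (by norm_num) h1)) ⟨e.trans e'⟩
  · exact H489.card_out_sporadic (h hr)

/-- **The general identification.** -/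
theorem ident_gen {Γ : Type u} [Group Γ] [Finite Γ] (N : Subgroup Γ) [hN : N.Normal] [hNs : IsSimpleGroup N]
    (hna : ¬ ∀ a b : N, a * b = b * a) (hC : centralizer (N : Set Γ) = ⊥) {p M a m : ℕ} (hp : p.Prime)
    (e : Nat.card Γ * p ^ a = M) (hm6 : m.Coprime 6)
    (hno : ∀ r s : ℕ, r.Prime → s.Prime → r ∣ m → ¬ s ∣ m → NoEdge Γ r s)
    (halt : ∀ n c, 5 ≤ n → c ∣ 2 → n.factorial * c * p ^ a = 2 * M → (∀ r, r.Prime → r ∣ m → n ≤ r + 2) → False)
    (hsix : ∀ c ≤ 26, 360 * c * p ^ a = M → False)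
    (hspor : ∀ x ∈ spor, ∀ c ≤ 2, x.2 * c * p ^ a = M → False)
    (hcross : ∀ X t g N c, Art.Real X t g N → t ≠ p → 2 ^ c ≤ P t N ^ 9 → N * c * p ^ a = M → False)
    (hsame : ∀ (g : Grp) (X : Sh) (k : ℕ), OrdDiv.Real g N → Names.IsLie g X p k →
      Art.Real X p k (Nat.card N) → N.index ∣ Nat.card (Out N) → Nat.card N * N.index * p ^ a = M → Nat.card N = M) :
    Nat.card N = M := by
  have hk : IsKnownSimple' N := S0000.result
  have hna' : ¬ IsMulCommutative N := fun hc => hna fun x y => hc.is_comm.comm x y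
  have hcd : N.index ∣ Nat.card (Out N) := H816.OutEmb.index_dvd N (by rw [hC]; exact bot_le)
  have hN1 : 1 < Nat.card N := Finite.one_lt_card
  have hpow : 2 ^ N.index ≤ Nat.card N ^ 3 := by
    have h1 := H934.OutAll.bd hna' hk ⊥ (bot_ne_top)
    rw [index_bot] at h1
    exact (Nat.pow_le_pow_right (by norm_num) (Nat.le_of_dvd Nat.card_pos hcd)).trans h1
  have e1 : Nat.card N * N.index * p ^ a = M := by rw [card_mul_index, e]
  rcases Names.exists_nam table hk hna with ⟨n, hn, hr, hc⟩ | ⟨g, X, t, k, hg, hr, hc⟩ | ⟨x, hx, hr, hc⟩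
  · exfalso
    by_cases h6 : n = 6
    · subst h6
      have h360 : Nat.card N = 360 := by
        have : Nat.factorial 6 = 720 := rfl
        omega
      have hidx : N.index ≤ 26 := by
        rw [h360] at hpow
        have h1 : 2 ^ N.index ≤ 2 ^ 26 := hpow.trans (by norm_num)
        exact (Nat.pow_le_pow_iff_right (by norm_num : 1 < 2)).1 h1
      exact hsix _ hidx (by rw [← h360]; exact e1)
    · obtain ⟨ea⟩ := hr
      have hsa : IsSimpleGroup (alternatingGroup (Fin n)) := ea.symm.isSimpleGroup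
      have hout : Nat.card (Out N) = 2 := by
        rw [H934.OutB.card_out_congr ea]
        exact H934.OutAll.card_out_alt hn h6 (fun hc => hna fun x y => ea.injective (by
          rw [map_mul, map_mul, hc.is_comm.comm]))
      rw [hout] at hcd
      refine halt n N.index hn hcd ?_ ?_
      · rw [← hc, ← e1]; ring
      · intro r hr hrm
        by_contra hcon
        have hr6 : r.Coprime 6 := hm6.coprime_dvd_left hrm
        have hr2 : r ≠ 2 := by rintro rfl; revert hr6; decide
        have hr3 : r ≠ 3 := by rintro rfl; revert hr6; decide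
        obtain ⟨g, hg⟩ := Cfsg.Agent.H402.AltG.exists_two (m := n) hr Nat.prime_three hr3 hr2 (by norm_num) (by omega)
        refine hno r 3 hr Nat.prime_three hrm ?_ ((ea.symm g : N) : Γ) ?_
        · intro h3
          have h33 : (3 : ℕ) ∣ Nat.gcd m 6 := Nat.dvd_gcd h3 (by norm_num)
          rw [hm6] at h33
          exact absurd h33 (by norm_num)
        · rw [Subgroup.orderOf_coe, MulEquiv.orderOf_eq, hg]
  · by_cases htp : t = p
    · subst htp
      exact hsame g X k hr hg hc hcd e1
    · exfalso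
      have h1 := hc.lt_cube
      refine hcross X t k _ N.index hc htp ?_ e1
      refine hpow.trans ((Nat.pow_le_pow_left h1.le 3).trans ?_)
      rw [← pow_mul]
  · exfalso
    refine hspor x hx N.index ?_ (by rw [← hc]; exact e1)
    exact (Nat.le_of_dvd Nat.card_pos hcd).trans (spor_out_le hx hr)

end Cfsg.Agent.H992.TC
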