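import Mathlib
import Cfsg.Agent.H992.TC.Torus

/-!
# No alternating group has (nearly) the order of `F₄(q)`, `E₆(q)`, `²E₆(q)`
-/

set_option autoImplicit false

namespace Cfsg.Agent.H992.TC

open Cfsg.Agent.H902 Cfsg.Agent.H902.Art

/-- **No alternating group.** -/
theorem alt_false {Y : Sh} (hY : Y3 Y) {p f M c a n : ℕ} (h : Art.Real Y p f M) (hc : c ∣ 36) (hn : 5 ≤ n)
    (e : n.factorial * c * p ^ a = 2 * M) (iso : ∀ r, r.Prime → r ∣ mm Y (p ^ f) → n ≤ r + 2) : False := by
  have hM := h.M_ne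
  have hq := h.q_ge
  have hp := h.hp
  have hcop6 : (mm Y (p ^ f)).Coprime 6 := mm_coprime_six hY (by omega)
  have hmn : mm Y (p ^ f) ∣ n.factorial := by
    have h1 : mm Y (p ^ f) ∣ n.factorial * c * p ^ a := by
      rw [e]; exact Dvd.dvd.mul_left (mm_dvd hY h) 2
    have h2 : (mm Y (p ^ f)).Coprime (p ^ a) :=
      Nat.Coprime.pow_right _ (Nat.Coprime.symm ((Nat.Prime.coprime_iff_not_dvd hp).2 (mm_not_dvd hY h)))
    have h3 : (mm Y (p ^ f)).Coprime c := Nat.Coprime.coprime_dvd_right hc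
      (show (mm Y (p ^ f)).Coprime (6 ^ 2) from Nat.Coprime.pow_right 2 hcop6)
    exact h3.dvd_of_dvd_mul_right (h2.dvd_of_dvd_mul_right h1)
  have hle := mm_le hcop6 hn hmn iso
  have hlt : mm Y (p ^ f) < (n - 1) ^ 2 := by
    refine lt_of_le_of_lt hle ?_
    obtain ⟨k, rfl⟩ := Nat.exists_eq_add_of_le' (show 2 ≤ n by omega)
    show (k + 2) * k < (k + 1) ^ 2
    nlinarith
  have hpr : ∀ r, r.Prime → r ∣ mm Y (p ^ f) → r ≤ n := fun r hr hrm => (hr.dvd_factorial).1 (hrm.trans hmn)
  have hfd : n.factorial ∣ 2 * M := by rw [← e]; exact ⟨c * p ^ a, by ring⟩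
  have h2M : 2 * M ≠ 0 := by omega
  have hn0 : n ≠ 0 := by omega
  -- the `2`- and `3`-parts
  have hP2 : p ≠ 2 → P 2 n.factorial ≤ 2 * P 2 (num Y (p ^ f)) := by
    intro hp2
    calc P 2 n.factorial ≤ P 2 (2 * M) := P_mono Nat.prime_two h2M hfd
      _ = P 2 2 * P 2 M := P_mul (by norm_num) hM
      _ ≤ 2 * P 2 (num Y (p ^ f)) :=
        Nat.mul_le_mul (P_le (by norm_num)) (h.P_other_le Nat.prime_two (Ne.symm hp2))
  have hP3 : p = 2 → P 3 n.factorial ≤ P 3 (num Y (p ^ f)) := by
    intro hp2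
    calc P 3 n.factorial ≤ P 3 (2 * M) := P_mono Nat.prime_three h2M hfd
      _ = P 3 2 * P 3 M := P_mul (by norm_num) hM
      _ = P 3 M := by rw [P_eq_one (by norm_num), one_mul]
      _ ≤ _ := h.P_other_le Nat.prime_three (by rw [hp2]; norm_num)
  have h2n := two_pow_le hn0
  have h3n := three_pow_le hn0
  have hodd : p ≠ 2 → Odd (p ^ f) := fun hp2 => (hp.odd_of_ne_two hp2).pow
  have hq3 : p ≠ 2 → 3 ≤ p ^ f := fun hp2 => by
    obtain ⟨k, hk⟩ := hodd hp2
    omega
  have hn3 : p = 2 → ¬ 3 ∣ p ^ f := fun hp2 h3 => by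
    have := (Nat.prime_dvd_prime_iff_eq Nat.prime_three hp).1 (Nat.prime_three.dvd_of_dvd_pow h3)
    omega
  -- the end
  have fin2 : ∀ A : ℕ, p ≠ 2 → P 2 (num Y (p ^ f)) ≤ A → 4 * n * A < 2 ^ n → False := by
    intro A hp2 h1 h2
    have h3 : 2 ^ n ≤ 4 * n * A := by
      calc 2 ^ n ≤ P 2 n.factorial * (2 * n) := h2n
        _ ≤ (2 * A) * (2 * n) := Nat.mul_le_mul_right _ ((hP2 hp2).trans (Nat.mul_le_mul_left 2 h1))
        _ = _ := by ring
    omega
  have fin3 : ∀ A : ℕ, p = 2 → P 3 (num Y (p ^ f)) ≤ A → 9 * n ^ 2 * A ^ 2 < 3 ^ n → False := by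
    intro A hp2 h1 h2
    have h3 : 3 ^ n ≤ 9 * n ^ 2 * A ^ 2 := by
      calc 3 ^ n ≤ P 3 n.factorial ^ 2 * (3 * n) ^ 2 := h3n
        _ ≤ A ^ 2 * (3 * n) ^ 2 := Nat.mul_le_mul_right _ (Nat.pow_le_pow_left ((hP3 hp2).trans h1) 2)
        _ = _ := by ring
    omega
  set q := p ^ f with hqdef
  rcases hY with rfl | hE
  · -- F4
    have hgt := (F4_gt hq).trans hlt
    have hn1 : q ^ 2 - 1 < n - 1 := lt_of_pow_lt_pow_left₀ 2 (Nat.zero_le _) hgt
    have hnq : q ^ 2 + 1 ≤ n := by
      have : 1 ≤ q ^ 2 := Nat.one_le_pow _ _ (by omega)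
      omega
    -- `(q+1)^4 ≤ 4 n^2`
    have h4 : (q + 1) ^ 4 ≤ 4 * n ^ 2 := by
      have h5 : (q + 1) ^ 2 ≤ 2 * n := by nlinarith
      calc (q + 1) ^ 4 = ((q + 1) ^ 2) ^ 2 := by ring
        _ ≤ (2 * n) ^ 2 := Nat.pow_le_pow_left h5 2
        _ = _ := by ring
    by_cases hp2 : p = 2
    · -- `q` even
      have hbig : 39 ≤ n → False := by
        intro hn39
        refine fin3 (36 * n ^ 2) hp2 ((P_numF_three hq (hn3 hp2)).trans (by omega)) ?_
        calc 9 * n ^ 2 * (36 * n ^ 2) ^ 2 = 11664 * n ^ 6 := by ring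
          _ ≤ 19131876 * n ^ 6 := Nat.mul_le_mul_right _ (by norm_num)
          _ < 3 ^ n := three_pow_gt hn39
      by_cases hq2 : q = 2
      · have h13 : n ≤ 15 := iso 13 (by norm_num) (by rw [hq2]; decide)
        have h17 : (17 : ℕ) ∣ n.factorial * c * p ^ a := by
          rw [e]
          have h1 := h.eq
          rw [← hqdef, hq2] at h1
          have h2 : 17 ∣ M := by
            have h3 : dd .F4 2 * M = M := one_mul M
            rw [← h3, h1]
            decide
          exact Dvd.dvd.mul_left h2 2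
        have hp17 : Nat.Prime 17 := by norm_num
        rcases hp17.dvd_mul.1 h17 with h1 | h1
        · rcases hp17.dvd_mul.1 h1 with h2 | h2
          · have := (hp17.dvd_factorial).1 h2
            omega
          · have := h2.trans hc
            norm_num at this
        · have := (Nat.prime_dvd_prime_iff_eq hp17 hp).1 (hp17.dvd_of_dvd_pow h1)
          omega
      by_cases hq4 : q = 4
      · exact hbig ((hpr 241 (by norm_num) (by rw [hq4]; decide)).trans' (by norm_num))
      have hq8 : 7 ≤ q := by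
        have h1 : f ≠ 1 := by rintro rfl; rw [pow_one] at hqdef; omega
        have h2 : f ≠ 2 := by rintro rfl; rw [hp2] at hqdef; omega
        have h3 : 3 ≤ f := by have := h.hf; omega
        have h4 : 2 ^ 3 ≤ 2 ^ f := Nat.pow_le_pow_right (by norm_num) h3
        rw [hqdef, hp2]; omega
      exact hbig (by nlinarith)
    · have hbig : 26 ≤ n → False := by
        intro hn26
        refine fin2 (512 * n ^ 2) hp2 ((P_numF_two (hq3 hp2) (hodd hp2)).trans (by omega)) ?_
        calc 4 * n * (512 * n ^ 2) = 2048 * n ^ 3 := by ring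
          _ < 2 ^ n := two_pow_gt hn26
      by_cases hq3' : q = 3
      · exact hbig ((hpr 73 (by norm_num) (by rw [hq3']; decide)).trans' (by norm_num))
      have hq5 : 5 ≤ q := by
        have h1 := hq3 hp2
        obtain ⟨k, hk⟩ := hodd hp2
        omega
      exact hbig (by nlinarith)
  · -- E6, 2E6
    have hnum : ∀ t : ℕ, P t (num Y q) ≤ P t (numX q) ∨ P t (num Y q) ≤ P t (numX (-(q : ℤ))) := by
      intro t
      rcases hE with rfl | rfl
      · left; rw [numX_pos hq]
      · right; rw [numX_neg hq]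
    have hmn2 : mm Y q ≤ n ^ 2 := by
      refine hle.trans ?_
      rw [sq]; exact Nat.mul_le_mul_left _ (Nat.sub_le _ _)
    by_cases hq2 : q = 2
    · have hp2 : p = 2 := by
        have h1 : p ∣ 2 := by rw [← hq2, hqdef]; exact dvd_pow_self p (by have := h.hf; omega)
        exact (Nat.prime_dvd_prime_iff_eq hp Nat.prime_two).1 h1
      rcases hE with rfl | rfl
      · -- E6(2)
        have h73 : 73 ≤ n := hpr 73 (by norm_num) (by rw [hq2]; decide)
        refine fin3 (81 * 3 ^ 6) hp2 ?_ ?_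
        · have := P_numX_three hq (hn3 hp2) (x := (q : ℤ)) (Or.inl rfl)
          rw [numX_pos hq] at this
          refine this.trans (le_of_eq ?_)
          rw [hq2]
        · refine lt_of_le_of_lt ?_ (three_pow_gt (by omega : 39 ≤ n))
          have h1 : 81 * 3 ^ 6 ≤ 12 * n ^ 2 := by
            have : 73 ^ 2 ≤ n ^ 2 := Nat.pow_le_pow_left h73 2
            norm_num at this ⊢
            omega
          calc 9 * n ^ 2 * (81 * 3 ^ 6) ^ 2 ≤ 9 * n ^ 2 * (12 * n ^ 2) ^ 2 :=
                Nat.mul_le_mul_left _ (Nat.pow_le_pow_left h1 2)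
            _ = 1296 * n ^ 6 := by ring
            _ ≤ _ := Nat.mul_le_mul_right _ (by norm_num)
      · -- 2E6(2)
        have h19 : 19 ≤ n := hpr 19 (by norm_num) (by rw [hq2]; decide)
        have h1 : P 5 (Nat.factorial 19) ≤ P 5 n.factorial :=
          P_mono (by norm_num) (Nat.factorial_ne_zero n) (Nat.factorial_dvd_factorial h19)
        have h2 : P 5 n.factorial ≤ P 5 (num .TE6 2) := by
          calc P 5 n.factorial ≤ P 5 (2 * M) := P_mono (by norm_num) h2M hfd
            _ = P 5 2 * P 5 M := P_mul (by norm_num) hM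
            _ = P 5 M := by rw [P_eq_one (by norm_num), one_mul]
            _ ≤ P 5 (num .TE6 q) := h.P_other_le (by norm_num) (by omega)
            _ = _ := by rw [hq2]
        have h3 : P 5 (Nat.factorial 19) = 5 ^ 3 := by
          have h4 : Nat.factorial 19 = 5 ^ 3 * 973160803270656 := by decide
          rw [h4]
          exact P_pow_self (by norm_num) (by norm_num)
        have h5 : P 5 (num .TE6 2) = 5 ^ 2 := by
          have h4 : num .TE6 2 = 5 ^ 2 * 133643298789 := by decide
          rw [h4]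
          exact P_pow_self (by norm_num) (by norm_num)
        rw [h3] at h1
        rw [h5] at h2
        norm_num at h1 h2
        omega
    have hq3' : 3 ≤ q := by omega
    have h6 : (q + 1) ^ 6 ≤ 18 * n ^ 2 := (E_gt hE hq3').trans (Nat.mul_le_mul_left _ hmn2)
    by_cases hp2 : p = 2
    · have hq4 : 4 ≤ q := by
        by_contra hcon
        have : q = 3 := by omega
        have h1 : p ∣ 3 := by rw [← this, hqdef]; exact dvd_pow_self p (by have := h.hf; omega)
        have := (Nat.prime_dvd_prime_iff_eq hp Nat.prime_three).1 h1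
        omega
      have hn39 : 39 ≤ n := by
        by_contra hcon
        have h1 : (n - 1) ^ 2 ≤ 37 ^ 2 := Nat.pow_le_pow_left (by omega) 2
        have h2 := E_four hE hq4
        norm_num at h1
        omega
      have hP : P 3 (num Y q) ≤ 81 * (q + 1) ^ 6 := by
        rcases hnum 3 with h1 | h1
        · exact h1.trans (P_numX_three hq (hn3 hp2) (Or.inl rfl))
        · exact h1.trans (P_numX_three hq (hn3 hp2) (Or.inr rfl))
      refine fin3 (1458 * n ^ 2) hp2 (hP.trans (by omega)) ?_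
      calc 9 * n ^ 2 * (1458 * n ^ 2) ^ 2 = 19131876 * n ^ 6 := by ring
        _ < 3 ^ n := three_pow_gt hn39
    · have hn28 : 28 ≤ n := by
        by_contra hcon
        have h1 : (n - 1) ^ 2 ≤ 26 ^ 2 := Nat.pow_le_pow_left (by omega) 2
        have h2 := E_three hE hq3'
        norm_num at h1
        omega
      have hP : P 2 (num Y q) ≤ 128 * (q + 1) ^ 6 := by
        rcases hnum 2 with h1 | h1
        · exact h1.trans (P_numX_two (hq3 hp2) (hodd hp2) (Or.inl rfl))
        · exact h1.trans (P_numX_two (hq3 hp2) (hodd hp2) (Or.inr rfl))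
      refine fin2 (2304 * n ^ 2) hp2 (hP.trans (by omega)) ?_
      calc 4 * n * (2304 * n ^ 2) = 9216 * n ^ 3 := by ring
        _ < 2 ^ n := two_pow_gt' hn28

end Cfsg.Agent.H992.TC
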