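import Mathlib
import Cfsg.Agent.H992.TC.Torus

/-!
# Cross characteristic

No simple group of Lie type in characteristic `t ≠ p` has nearly the order of `F₄(q)`, `E₆(q)`, `²E₆(q)`, `q ≥ 4` a power
of `p`.
-/

set_option autoImplicit false

namespace Cfsg.Agent.H992.TC

open Cfsg.Agent.H902 Cfsg.Agent.H902.Art

theorem mul_lower {x y a b : ℕ} (h1 : 15 * x ≤ 16 * a) (h2 : y ≤ b) : 15 * (x * y) ≤ 16 * (a * b) := by
  calc 15 * (x * y) = (15 * x) * y := by ring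
    _ ≤ (16 * a) * b := Nat.mul_le_mul h1 h2
    _ = _ := by ring

theorem pow_lower {q : ℕ} (hq : 4 ≤ q) (k : ℕ) (hk : 2 ≤ k) : 15 * q ^ k ≤ 16 * (q ^ k - 1) := by
  have h1 : 4 ^ 2 ≤ q ^ k := (Nat.pow_le_pow_left hq 2).trans (Nat.pow_le_pow_right (by omega) hk)
  omega

theorem pow_lower' {q : ℕ} (k : ℕ) : 15 * q ^ k ≤ 16 * (q ^ k + 1) := by omega

/-- `q ^ 28 ≤ 2 num` for `F₄` -/
theorem num_F4_ge {q : ℕ} (hq : 4 ≤ q) : q ^ 28 ≤ 2 * num .F4 q := by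
  have h := Nat.mul_le_mul (Nat.mul_le_mul (Nat.mul_le_mul (pow_lower hq 2 (by norm_num))
    (pow_lower hq 6 (by norm_num))) (pow_lower hq 8 (by norm_num))) (pow_lower hq 12 (by norm_num))
  have e1 : 15 * q ^ 2 * (15 * q ^ 6) * (15 * q ^ 8) * (15 * q ^ 12) = 50625 * q ^ 28 := by ring
  have e2 : 16 * (q ^ 2 - 1) * (16 * (q ^ 6 - 1)) * (16 * (q ^ 8 - 1)) * (16 * (q ^ 12 - 1)) = 65536 * num .F4 q := by
    show _ = 65536 * ((q ^ 2 - 1) * (q ^ 6 - 1) * (q ^ 8 - 1) * (q ^ 12 - 1))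
    ring
  rw [e1, e2] at h
  omega

theorem num_E_ge {Y : Sh} (hY : Y = .E6 ∨ Y = .TE6) {q : ℕ} (hq : 4 ≤ q) : q ^ 42 ≤ 2 * num Y q := by
  rcases hY with rfl | rfl
  · have h := Nat.mul_le_mul (Nat.mul_le_mul (Nat.mul_le_mul (Nat.mul_le_mul (Nat.mul_le_mul
      (pow_lower hq 2 (by norm_num)) (pow_lower hq 5 (by norm_num))) (pow_lower hq 6 (by norm_num)))
      (pow_lower hq 8 (by norm_num))) (pow_lower hq 9 (by norm_num))) (pow_lower hq 12 (by norm_num))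
    have e1 : 15 * q ^ 2 * (15 * q ^ 5) * (15 * q ^ 6) * (15 * q ^ 8) * (15 * q ^ 9) * (15 * q ^ 12) =
      11390625 * q ^ 42 := by ring
    have e2 : 16 * (q ^ 2 - 1) * (16 * (q ^ 5 - 1)) * (16 * (q ^ 6 - 1)) * (16 * (q ^ 8 - 1)) * (16 * (q ^ 9 - 1)) *
      (16 * (q ^ 12 - 1)) = 16777216 * num .E6 q := by
      show _ = 16777216 * ((q ^ 2 - 1) * (q ^ 5 - 1) * (q ^ 6 - 1) * (q ^ 8 - 1) * (q ^ 9 - 1) * (q ^ 12 - 1))
      ring
    rw [e1, e2] at h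
    omega
  · have h := Nat.mul_le_mul (Nat.mul_le_mul (Nat.mul_le_mul (Nat.mul_le_mul (Nat.mul_le_mul
      (pow_lower hq 2 (by norm_num)) (pow_lower' (q := q) 5)) (pow_lower hq 6 (by norm_num)))
      (pow_lower hq 8 (by norm_num))) (pow_lower' (q := q) 9)) (pow_lower hq 12 (by norm_num))
    have e1 : 15 * q ^ 2 * (15 * q ^ 5) * (15 * q ^ 6) * (15 * q ^ 8) * (15 * q ^ 9) * (15 * q ^ 12) =
      11390625 * q ^ 42 := by ring
    have e2 : 16 * (q ^ 2 - 1) * (16 * (q ^ 5 + 1)) * (16 * (q ^ 6 - 1)) * (16 * (q ^ 8 - 1)) * (16 * (q ^ 9 + 1)) *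
      (16 * (q ^ 12 - 1)) = 16777216 * num .TE6 q := by
      show _ = 16777216 * ((q ^ 2 - 1) * (q ^ 5 + 1) * (q ^ 6 - 1) * (q ^ 8 - 1) * (q ^ 9 + 1) * (q ^ 12 - 1))
      ring
    rw [e1, e2] at h
    omega

theorem sq_le_two_pow {n : ℕ} (hn : 4 ≤ n) : n ^ 2 ≤ 2 ^ n := by
  induction n, hn using Nat.le_induction with
  | base => norm_num
  | succ n hn ih =>
    rw [pow_succ 2 n]
    nlinarith

/-- the bound for `c` -/
theorem c_le {q A c : ℕ} (hq : 4 ≤ q) (hA : A ≤ 128 * (q + 1) ^ 9) (hc : 2 ^ c ≤ A ^ 48) : c ≤ 354 * q := by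
  have h1 : (q + 1) ^ 2 ≤ 2 ^ (q + 1) := sq_le_two_pow (by omega)
  have h2 : A ^ 48 ≤ 2 ^ (552 + 216 * q) := by
    calc A ^ 48 ≤ (128 * (q + 1) ^ 9) ^ 48 := Nat.pow_le_pow_left hA 48
      _ = 2 ^ 336 * ((q + 1) ^ 2) ^ 216 := by
        rw [show (128 : ℕ) = 2 ^ 7 by norm_num, mul_pow, ← pow_mul, ← pow_mul, ← pow_mul]
      _ ≤ 2 ^ 336 * (2 ^ (q + 1)) ^ 216 := Nat.mul_le_mul_left _ (Nat.pow_le_pow_left h1 216)
      _ = 2 ^ (552 + 216 * q) := by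
        rw [← pow_mul, ← pow_add]; congr 1; ring
  have h3 := (Nat.pow_le_pow_iff_right (by norm_num : 1 < 2)).1 (hc.trans h2)
  omega

/-- the sizes in `F₄` -/
theorem cross_F4 {q A c : ℕ} (hq : 4 ≤ q) (h : (A ≤ 128 * (q + 1) ^ 4 ∧ 5 ≤ q) ∨ A ≤ 9 * (q + 1) ^ 4 ∨
    A ≤ 3 * (q ^ 2 + 1) ^ 2 ∨ A ≤ (q ^ 3 + 1) ^ 2) (hc : c ≤ 354 * q) (hn : num .F4 q ≤ A ^ 3 * c) : False := by
  have h28 := num_F4_ge hq
  have h0 : q ^ 28 ≤ 708 * (A ^ 3 * q) := by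
    calc q ^ 28 ≤ 2 * num .F4 q := h28
      _ ≤ 2 * (A ^ 3 * (354 * q)) := Nat.mul_le_mul_left _ (hn.trans (Nat.mul_le_mul_left _ hc))
      _ = _ := by ring
  rcases h with ⟨h, hq5⟩ | h | h | h
  · have h1 : (5 * (q + 1)) ^ 12 ≤ (6 * q) ^ 12 := Nat.pow_le_pow_left (by omega) 12
    rw [mul_pow, mul_pow] at h1
    have h2 : A ^ 3 ≤ 2097152 * (q + 1) ^ 12 := (Nat.pow_le_pow_left h 3).trans (le_of_eq (by ring))
    have h3 : 5 ^ 15 ≤ q ^ 15 := Nat.pow_le_pow_left hq5 15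
    have h4 : 5 ^ 15 * q ^ 13 ≤ q ^ 28 := by
      calc 5 ^ 15 * q ^ 13 ≤ q ^ 15 * q ^ 13 := Nat.mul_le_mul_right _ h3
        _ = _ := by ring
    have h5 : 5 ^ 12 * ((q + 1) ^ 12 * q) ≤ 6 ^ 12 * q ^ 13 := by
      calc 5 ^ 12 * ((q + 1) ^ 12 * q) = (5 ^ 12 * (q + 1) ^ 12) * q := by ring
        _ ≤ (6 ^ 12 * q ^ 12) * q := Nat.mul_le_mul_right _ h1
        _ = _ := by ring
    have h6 : A ^ 3 * q ≤ 2097152 * ((q + 1) ^ 12 * q) := by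
      calc A ^ 3 * q ≤ (2097152 * (q + 1) ^ 12) * q := Nat.mul_le_mul_right _ h2
        _ = _ := by ring
    have h7 : 0 < q ^ 13 := pow_pos (by omega) _
    norm_num at h4 h5
    omega
  · have h1 : (4 * (q + 1)) ^ 12 ≤ (5 * q) ^ 12 := Nat.pow_le_pow_left (by omega) 12
    rw [mul_pow, mul_pow] at h1
    have h2 : A ^ 3 ≤ 729 * (q + 1) ^ 12 := (Nat.pow_le_pow_left h 3).trans (le_of_eq (by ring))
    have h3 : 4 ^ 15 ≤ q ^ 15 := Nat.pow_le_pow_left hq 15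
    have h4 : 4 ^ 15 * q ^ 13 ≤ q ^ 28 := by
      calc 4 ^ 15 * q ^ 13 ≤ q ^ 15 * q ^ 13 := Nat.mul_le_mul_right _ h3
        _ = _ := by ring
    have h5 : 4 ^ 12 * ((q + 1) ^ 12 * q) ≤ 5 ^ 12 * q ^ 13 := by
      calc 4 ^ 12 * ((q + 1) ^ 12 * q) = (4 ^ 12 * (q + 1) ^ 12) * q := by ring
        _ ≤ (5 ^ 12 * q ^ 12) * q := Nat.mul_le_mul_right _ h1
        _ = _ := by ring
    have h6 : A ^ 3 * q ≤ 729 * ((q + 1) ^ 12 * q) := by
      calc A ^ 3 * q ≤ (729 * (q + 1) ^ 12) * q := Nat.mul_le_mul_right _ h2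
        _ = _ := by ring
    have h7 : 0 < q ^ 13 := pow_pos (by omega) _
    norm_num at h4 h5
    omega
  · have h1 : (q ^ 2 + 1) ^ 6 ≤ (2 * q ^ 2) ^ 6 := Nat.pow_le_pow_left (by nlinarith) 6
    have h2 : A ^ 3 ≤ 27 * (q ^ 2 + 1) ^ 6 := (Nat.pow_le_pow_left h 3).trans (le_of_eq (by ring))
    have h3 : 4 ^ 15 ≤ q ^ 15 := Nat.pow_le_pow_left hq 15
    have h4 : 4 ^ 15 * q ^ 13 ≤ q ^ 28 := by
      calc 4 ^ 15 * q ^ 13 ≤ q ^ 15 * q ^ 13 := Nat.mul_le_mul_right _ h3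
        _ = _ := by ring
    have h6 : A ^ 3 * q ≤ 1728 * q ^ 13 := by
      calc A ^ 3 * q ≤ (27 * (2 * q ^ 2) ^ 6) * q := Nat.mul_le_mul_right _ (h2.trans (Nat.mul_le_mul_left _ h1))
        _ = _ := by ring
    have h7 : 0 < q ^ 13 := pow_pos (by omega) _
    norm_num at h4
    omega
  · have h0' : 1 ≤ q ^ 3 := Nat.one_le_pow _ _ (by omega)
    have h1 : (q ^ 3 + 1) ^ 6 ≤ (2 * q ^ 3) ^ 6 := Nat.pow_le_pow_left (by omega) 6
    have h2 : A ^ 3 ≤ (q ^ 3 + 1) ^ 6 := (Nat.pow_le_pow_left h 3).trans (le_of_eq (by ring))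
    have h3 : 4 ^ 9 ≤ q ^ 9 := Nat.pow_le_pow_left hq 9
    have h4 : 4 ^ 9 * q ^ 19 ≤ q ^ 28 := by
      calc 4 ^ 9 * q ^ 19 ≤ q ^ 9 * q ^ 19 := Nat.mul_le_mul_right _ h3
        _ = _ := by ring
    have h6 : A ^ 3 * q ≤ 64 * q ^ 19 := by
      calc A ^ 3 * q ≤ ((2 * q ^ 3) ^ 6) * q := Nat.mul_le_mul_right _ (h2.trans h1)
        _ = _ := by ring
    have h7 : 0 < q ^ 19 := pow_pos (by omega) _
    norm_num at h4
    omega

/-- the sizes in `E₆`, `²E₆` -/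
theorem cross_E {Y : Sh} (hY : Y = .E6 ∨ Y = .TE6) {q A c : ℕ} (hq : 4 ≤ q)
    (h : (A ≤ 128 * (q + 1) ^ 6 ∧ 5 ≤ q) ∨ A ≤ 81 * (q + 1) ^ 6 ∨ A ≤ 3 * (q ^ 3 + 1) ^ 3 ∨ A ≤ q ^ 9 + 1)
    (hc : c ≤ 354 * q) (hn : num Y q ≤ 3 * (A ^ 3 * c)) : False := by
  have h28 := num_E_ge hY hq
  have h0 : q ^ 42 ≤ 2124 * (A ^ 3 * q) := by
    calc q ^ 42 ≤ 2 * num Y q := h28
      _ ≤ 2 * (3 * (A ^ 3 * (354 * q))) :=
        Nat.mul_le_mul_left _ (hn.trans (Nat.mul_le_mul_left _ (Nat.mul_le_mul_left _ hc)))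
      _ = _ := by ring
  rcases h with ⟨h, hq5⟩ | h | h | h
  · have h1 : (5 * (q + 1)) ^ 18 ≤ (6 * q) ^ 18 := Nat.pow_le_pow_left (by omega) 18
    rw [mul_pow, mul_pow] at h1
    have h2 : A ^ 3 ≤ 2097152 * (q + 1) ^ 18 := (Nat.pow_le_pow_left h 3).trans (le_of_eq (by ring))
    have h3 : 5 ^ 23 ≤ q ^ 23 := Nat.pow_le_pow_left hq5 23
    have h4 : 5 ^ 23 * q ^ 19 ≤ q ^ 42 := by
      calc 5 ^ 23 * q ^ 19 ≤ q ^ 23 * q ^ 19 := Nat.mul_le_mul_right _ h3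
        _ = _ := by ring
    have h5 : 5 ^ 18 * ((q + 1) ^ 18 * q) ≤ 6 ^ 18 * q ^ 19 := by
      calc 5 ^ 18 * ((q + 1) ^ 18 * q) = (5 ^ 18 * (q + 1) ^ 18) * q := by ring
        _ ≤ (6 ^ 18 * q ^ 18) * q := Nat.mul_le_mul_right _ h1
        _ = _ := by ring
    have h6 : A ^ 3 * q ≤ 2097152 * ((q + 1) ^ 18 * q) := by
      calc A ^ 3 * q ≤ (2097152 * (q + 1) ^ 18) * q := Nat.mul_le_mul_right _ h2
        _ = _ := by ring
    have h7 : 0 < q ^ 19 := pow_pos (by omega) _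
    norm_num at h4 h5
    omega
  · have h1 : (4 * (q + 1)) ^ 18 ≤ (5 * q) ^ 18 := Nat.pow_le_pow_left (by omega) 18
    rw [mul_pow, mul_pow] at h1
    have h2 : A ^ 3 ≤ 531441 * (q + 1) ^ 18 := (Nat.pow_le_pow_left h 3).trans (le_of_eq (by ring))
    have h3 : 4 ^ 23 ≤ q ^ 23 := Nat.pow_le_pow_left hq 23
    have h4 : 4 ^ 23 * q ^ 19 ≤ q ^ 42 := by
      calc 4 ^ 23 * q ^ 19 ≤ q ^ 23 * q ^ 19 := Nat.mul_le_mul_right _ h3
        _ = _ := by ring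
    have h5 : 4 ^ 18 * ((q + 1) ^ 18 * q) ≤ 5 ^ 18 * q ^ 19 := by
      calc 4 ^ 18 * ((q + 1) ^ 18 * q) = (4 ^ 18 * (q + 1) ^ 18) * q := by ring
        _ ≤ (5 ^ 18 * q ^ 18) * q := Nat.mul_le_mul_right _ h1
        _ = _ := by ring
    have h6 : A ^ 3 * q ≤ 531441 * ((q + 1) ^ 18 * q) := by
      calc A ^ 3 * q ≤ (531441 * (q + 1) ^ 18) * q := Nat.mul_le_mul_right _ h2
        _ = _ := by ring
    have h7 : 0 < q ^ 19 := pow_pos (by omega) _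
    norm_num at h4 h5
    omega
  · have h0' : 1 ≤ q ^ 3 := Nat.one_le_pow _ _ (by omega)
    have h1 : (q ^ 3 + 1) ^ 9 ≤ (2 * q ^ 3) ^ 9 := Nat.pow_le_pow_left (by omega) 9
    have h2 : A ^ 3 ≤ 27 * (q ^ 3 + 1) ^ 9 := (Nat.pow_le_pow_left h 3).trans (le_of_eq (by ring))
    have h3 : 4 ^ 14 ≤ q ^ 14 := Nat.pow_le_pow_left hq 14
    have h4 : 4 ^ 14 * q ^ 28 ≤ q ^ 42 := by
      calc 4 ^ 14 * q ^ 28 ≤ q ^ 14 * q ^ 28 := Nat.mul_le_mul_right _ h3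
        _ = _ := by ring
    have h6 : A ^ 3 * q ≤ 13824 * q ^ 28 := by
      calc A ^ 3 * q ≤ (27 * (2 * q ^ 3) ^ 9) * q := Nat.mul_le_mul_right _ (h2.trans (Nat.mul_le_mul_left _ h1))
        _ = _ := by ring
    have h7 : 0 < q ^ 28 := pow_pos (by omega) _
    norm_num at h4
    omega
  · have h0' : 1 ≤ q ^ 9 := Nat.one_le_pow _ _ (by omega)
    have h2 : A ^ 3 ≤ (2 * q ^ 9) ^ 3 := Nat.pow_le_pow_left (by omega) 3
    have h3 : 4 ^ 14 ≤ q ^ 14 := Nat.pow_le_pow_left hq 14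
    have h4 : 4 ^ 14 * q ^ 28 ≤ q ^ 42 := by
      calc 4 ^ 14 * q ^ 28 ≤ q ^ 14 * q ^ 28 := Nat.mul_le_mul_right _ h3
        _ = _ := by ring
    have h6 : A ^ 3 * q ≤ 8 * q ^ 28 := by
      calc A ^ 3 * q ≤ ((2 * q ^ 9) ^ 3) * q := Nat.mul_le_mul_right _ h2
        _ = _ := by ring
    have h7 : 0 < q ^ 28 := pow_pos (by omega) _
    norm_num at h4
    omega

/-- `num ≤ dd N c` -/
theorem num_le {Y : Sh} {p f M N c a : ℕ} (h : Art.Real Y p f M) (e : N * c * p ^ a = M) :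
    num Y (p ^ f) ≤ dd Y (p ^ f) * (N * c) := by
  have hM := h.M_ne
  have hp := h.hp
  have h1 : p ^ a ≤ P p M := by
    apply Nat.pow_le_pow_right hp.pos
    exact (hp.pow_dvd_iff_le_factorization hM).1 (e ▸ Dvd.intro_left _ rfl)
  rw [h.P_self] at h1
  have h2 : 0 < (p ^ f) ^ NN Y := pow_pos (pow_pos hp.pos _) _
  apply Nat.le_of_mul_le_mul_left _ h2
  rw [← h.eq, ← e]
  calc dd Y (p ^ f) * (N * c * p ^ a) = (dd Y (p ^ f) * (N * c)) * p ^ a := by ring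
    _ ≤ (dd Y (p ^ f) * (N * c)) * (p ^ f) ^ NN Y := Nat.mul_le_mul_left _ h1
    _ = _ := by ring

/-- **Cross characteristic.** -/
theorem cross_false {Y : Sh} (hY : Y3 Y) {p f M : ℕ} (h : Art.Real Y p f M) (hq4 : 4 ≤ p ^ f) {X : Sh} {t g N : ℕ}
    (hS : Art.Real X t g N) (htp : t ≠ p) {c a : ℕ} (hc : 2 ^ c ≤ P t N ^ 48) (e : N * c * p ^ a = M) : False := by
  have hM := h.M_ne
  have hq := h.q_ge
  have ht := hS.hp
  have hNM : N ∣ M := by rw [← e, mul_assoc]; exact Dvd.intro _ rfl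
  have hA : P t N ≤ P t (num Y (p ^ f)) := (P_mono ht hM hNM).trans (h.P_other_le ht htp)
  have hN3 := hS.lt_cube
  have hn := num_le h e
  have hodd : t = 2 → Odd (p ^ f) := fun h2 => (h.hp.odd_of_ne_two (by omega)).pow
  have htq : ¬ t ∣ p ^ f := h.not_dvd_q ht htp
  have hq5 : t = 2 → 5 ≤ p ^ f := fun h2 => by
    obtain ⟨k, hk⟩ := hodd h2
    omega
  set q := p ^ f with hqdef
  clear_value q
  set A := P t N with hAdef
  clear_value A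
  have hle : N * c ≤ A ^ 3 * c := Nat.mul_le_mul_right _ hN3.le
  have hq1 : ∀ k, 1 ≤ q ^ k := fun k => Nat.one_le_pow _ _ (by omega)
  rcases hY with rfl | hE
  · -- F4
    have hn' : num .F4 q ≤ A ^ 3 * c := by
      refine hn.trans ?_
      show 1 * (N * c) ≤ _
      rw [one_mul]; exact hle
    have hB : (A ≤ 128 * (q + 1) ^ 4 ∧ 5 ≤ q) ∨ A ≤ 9 * (q + 1) ^ 4 ∨ A ≤ 3 * (q ^ 2 + 1) ^ 2 ∨
        A ≤ (q ^ 3 + 1) ^ 2 := by
      by_cases h2 : t = 2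
      · left
        subst h2
        exact ⟨hA.trans (P_numF_two (by omega) (hodd rfl)), hq5 rfl⟩
      · right
        rcases P_numF_le ht h2 hq htq with h1 | h1 | h1
        · exact Or.inl (hA.trans h1)
        · exact Or.inr (Or.inl (hA.trans h1))
        · exact Or.inr (Or.inr (hA.trans h1))
    have hA9 : A ≤ 128 * (q + 1) ^ 9 := by
      have h49 : (q + 1) ^ 4 ≤ (q + 1) ^ 9 := Nat.pow_le_pow_right (by omega) (by norm_num)
      have h69 : (q + 1) ^ 6 ≤ (q + 1) ^ 9 := Nat.pow_le_pow_right (by omega) (by norm_num)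
      have h2 : (q ^ 2 + 1) ^ 2 ≤ (q + 1) ^ 4 := by
        calc (q ^ 2 + 1) ^ 2 ≤ ((q + 1) ^ 2) ^ 2 := Nat.pow_le_pow_left (by nlinarith) 2
          _ = _ := by ring
      have h3 : (q ^ 3 + 1) ^ 2 ≤ (q + 1) ^ 6 := by
        calc (q ^ 3 + 1) ^ 2 ≤ ((q + 1) ^ 3) ^ 2 := Nat.pow_le_pow_left (by nlinarith [hq1 2]) 2
          _ = _ := by ring
      rcases hB with ⟨h1, -⟩ | h1 | h1 | h1 <;> omega
    exact cross_F4 hq4 hB (c_le hq4 hA9 hc) hn'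
  · have hn' : num Y q ≤ 3 * (A ^ 3 * c) := by
      refine hn.trans (Nat.mul_le_mul ?_ hle)
      rcases hE with rfl | rfl <;> exact Nat.gcd_le_left _ (by norm_num)
    have hx : ∃ x : ℤ, (x = q ∨ x = -q) ∧ numX x = num Y q := by
      rcases hE with rfl | rfl
      · exact ⟨q, Or.inl rfl, numX_pos hq⟩
      · exact ⟨-q, Or.inr rfl, numX_neg hq⟩
    obtain ⟨x, hx, hxn⟩ := hx
    rw [← hxn] at hA
    have hB : (A ≤ 128 * (q + 1) ^ 6 ∧ 5 ≤ q) ∨ A ≤ 81 * (q + 1) ^ 6 ∨ A ≤ 3 * (q ^ 3 + 1) ^ 3 ∨ A ≤ q ^ 9 + 1 := by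
      by_cases h2 : t = 2
      · left
        subst h2
        exact ⟨hA.trans (P_numX_two (by omega) (hodd rfl) hx), hq5 rfl⟩
      · right
        rcases P_numX_le ht h2 hq htq hx with h1 | h1 | h1
        · exact Or.inl (hA.trans h1)
        · exact Or.inr (Or.inl (hA.trans h1))
        · exact Or.inr (Or.inr (hA.trans h1))
    have hA9 : A ≤ 128 * (q + 1) ^ 9 := by
      have h69 : (q + 1) ^ 6 ≤ (q + 1) ^ 9 := Nat.pow_le_pow_right (by omega) (by norm_num)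
      have h3 : (q ^ 3 + 1) ^ 3 ≤ (q + 1) ^ 9 := by
        calc (q ^ 3 + 1) ^ 3 ≤ ((q + 1) ^ 3) ^ 3 := Nat.pow_le_pow_left (by nlinarith [hq1 2]) 3
          _ = _ := by ring
      have h9 : q ^ 9 + 1 ≤ (q ^ 3 + 1) ^ 3 := by
        have : (q ^ 3 + 1) ^ 3 = q ^ 9 + 3 * q ^ 6 + 3 * q ^ 3 + 1 := by ring
        omega
      rcases hB with ⟨h1, -⟩ | h1 | h1 | h1 <;> omega
    exact cross_E hE hq4 hB (c_le hq4 hA9 hc) hn'

/-- `2 ^ (dd f) ≤ (q^N)²` -/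
theorem two_pow_dd_le {X : Sh} {t g N : ℕ} (h : Art.Real X t g N) : 2 ^ (dd X (t ^ g) * g) ≤ P t N ^ 2 := by
  rw [h.P_self]
  have ht := h.hp.two_le
  have hg := h.hf
  have hok := h.ok
  have key : ∀ k, dd X (t ^ g) ≤ k → k ≤ NN X * 2 → 2 ^ (dd X (t ^ g) * g) ≤ ((t ^ g) ^ NN X) ^ 2 := by
    intro k h1 h2
    calc 2 ^ (dd X (t ^ g) * g) ≤ t ^ (dd X (t ^ g) * g) := Nat.pow_le_pow_left ht _
      _ ≤ t ^ (NN X * 2 * g) := Nat.pow_le_pow_right (by omega) (Nat.mul_le_mul_right _ (h1.trans h2))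
      _ = _ := by rw [← pow_mul, ← pow_mul]; congr 1; ring
  have hg0 : 0 < t ^ g - 1 := by
    have := h.q_ge; omega
  cases X with
  | L n =>
    have hn : 2 ≤ n := hok.1
    refine key n (Nat.gcd_le_left _ (by omega)) ?_
    show n ≤ n * (n - 1) / 2 * 2
    have h2 : 2 ∣ n * (n - 1) := (Nat.even_mul_pred_self n).two_dvd
    rw [Nat.div_mul_cancel h2]
    exact Nat.le_mul_of_pos_right _ (by omega)
  | U n =>
    have hn : 3 ≤ n := hok.1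
    refine key n (Nat.gcd_le_left _ (by omega)) ?_
    show n ≤ n * (n - 1) / 2 * 2
    have h2 : 2 ∣ n * (n - 1) := (Nat.even_mul_pred_self n).two_dvd
    rw [Nat.div_mul_cancel h2]
    exact Nat.le_mul_of_pos_right _ (by omega)
  | C n =>
    have hn : 2 ≤ n := hok.1
    refine key 2 (Nat.gcd_le_left _ (by norm_num)) ?_
    show 2 ≤ n ^ 2 * 2
    have : 2 ^ 2 ≤ n ^ 2 := Nat.pow_le_pow_left hn 2
    omega
  | D n =>
    have hn : 4 ≤ n := hok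
    refine key 4 (Nat.gcd_le_left _ (by norm_num)) ?_
    show 4 ≤ n * (n - 1) * 2
    have : 4 * 3 ≤ n * (n - 1) := Nat.mul_le_mul hn (by omega)
    omega
  | DD n =>
    have hn : 4 ≤ n := hok
    refine key 4 (Nat.gcd_le_left _ (by norm_num)) ?_
    show 4 ≤ n * (n - 1) * 2
    have : 4 * 3 ≤ n * (n - 1) := Nat.mul_le_mul hn (by omega)
    omega
  | G2 => exact key 1 (le_refl 1) (by decide)
  | F4 => exact key 1 (le_refl 1) (by decide)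
  | E6 => exact key 3 (Nat.gcd_le_left _ (by norm_num)) (by decide)
  | E7 => exact key 2 (Nat.gcd_le_left _ (by norm_num)) (by decide)
  | E8 => exact key 1 (le_refl 1) (by decide)
  | TE6 => exact key 3 (Nat.gcd_le_left _ (by norm_num)) (by decide)
  | TD4 => exact key 1 (le_refl 1) (by decide)
  | Sz => exact key 1 (le_refl 1) (by decide)
  | Ree => exact key 1 (le_refl 1) (by decide)
  | TF4 => exact key 1 (le_refl 1) (by decide)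

/-- the hypothesis on `c` from `c ≤ 24 dd g` -/
theorem c_hyp {X : Sh} {t g N c : ℕ} (h : Art.Real X t g N) (hc : c ≤ 24 * dd X (t ^ g) * g) :
    2 ^ c ≤ P t N ^ 48 := by
  calc 2 ^ c ≤ 2 ^ (24 * dd X (t ^ g) * g) := Nat.pow_le_pow_right (by norm_num) hc
    _ = (2 ^ (dd X (t ^ g) * g)) ^ 24 := by rw [← pow_mul]; congr 1; ring
    _ ≤ (P t N ^ 2) ^ 24 := Nat.pow_le_pow_left (two_pow_dd_le h) 24
    _ = _ := by rw [← pow_mul]

end Cfsg.Agent.H992.TC
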