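import Mathlib
import Cfsg.Agent.H992.TC.Torus
import Cfsg.Agent.OrdDiv.Main

/-!
# The groups over the fields with two and three elements
-/

set_option autoImplicit false

namespace Cfsg.Agent.H992.TC

open Cfsg Cfsg.Agent.H902 Cfsg.Agent.H902.Art Cfsg.Agent.OrdDiv

universe u

theorem small_aux (T : OrderTable.{u}) {S : Type u} [Group S] (hk : IsKnownSimple' S)
    (hna : ¬ ∀ a b : S, a * b = b * a) (l : List (ℕ × ℕ)) (M p B E : ℕ) (hv : valid l M = true)
    (hchk : ∀ g ∈ cands l M, ordN g = M ∨ ∀ a < E + 1, ordN g * p ^ a ∣ M → B < M / (ordN g * p ^ a))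
    (hE : ¬ p ^ (E + 1) ∣ M) (hM : 0 < M) {c a : ℕ} (hc : c ≤ B) (e : Nat.card S * c * p ^ a = M) :
    Nat.card S = M := by
  obtain ⟨g, hg, hr, hcard⟩ := exists_good T hk hna hv (show Nat.card S ∣ M by
    rw [← e, mul_assoc]; exact Dvd.intro _ rfl)
  rcases hchk g hg with h | h
  · rw [hcard, h]
  · exfalso
    have ha : a < E + 1 := by
      by_contra hcon
      exact hE ((pow_dvd_pow p (by omega)).trans (e ▸ Dvd.intro_left _ rfl))
    have h1 : (ordN g * p ^ a) * c = M := by rw [← hcard, ← e]; ring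
    have h2 := h a ha ⟨c, h1.symm⟩
    have h3 : 0 < ordN g * p ^ a := by
      rw [Nat.pos_iff_ne_zero]; intro h0; rw [h0, zero_mul] at h1; omega
    have h4 : M / (ordN g * p ^ a) = c := Nat.div_eq_of_eq_mul_right h3 h1.symm
    omega

/-- the check in the kernel -/
def chk (l : List (ℕ × ℕ)) (M p B E : ℕ) : Bool :=
  (cands l M).all fun g => Nat.beq (ordN g) M ||
    (List.range (E + 1)).all fun a => !(Nat.beq (M % (ordN g * p ^ a)) 0) || Nat.blt B (M / (ordN g * p ^ a))

theorem chk_spec {l : List (ℕ × ℕ)} {M p B E : ℕ} (h : chk l M p B E = true) :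
    ∀ g ∈ cands l M, ordN g = M ∨ ∀ a < E + 1, ordN g * p ^ a ∣ M → B < M / (ordN g * p ^ a) := by
  intro g hg
  have h1 := List.all_eq_true.1 h g hg
  rw [Bool.or_eq_true] at h1
  rcases h1 with h1 | h1
  · exact Or.inl (Nat.eq_of_beq_eq_true h1)
  · right
    intro a ha hd
    have h2 := List.all_eq_true.1 h1 a (List.mem_range.2 ha)
    rw [Bool.or_eq_true] at h2
    rcases h2 with h2 | h2
    · exfalso
      rw [Nat.mod_eq_zero_of_dvd hd] at h2
      exact absurd h2 (by decide)
    · rwa [Nat.blt_eq] at h2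

theorem small_F4_2 : valid [(2, 24), (3, 6), (5, 2), (7, 2), (13, 1), (17, 1)] (2 ^ 24 * num .F4 2) = true ∧
    chk [(2, 24), (3, 6), (5, 2), (7, 2), (13, 1), (17, 1)] (2 ^ 24 * num .F4 2) 2 200 24 = true := by
  decide +kernel

theorem small_F4_3 : valid [(2, 15), (3, 24), (5, 2), (7, 2), (13, 2), (41, 1), (73, 1)] (3 ^ 24 * num .F4 3) = true ∧
    chk [(2, 15), (3, 24), (5, 2), (7, 2), (13, 2), (41, 1), (73, 1)] (3 ^ 24 * num .F4 3) 3 400 24 = true := by
  decide +kernel

theorem small_E6_2 : valid [(2, 36), (3, 6), (5, 2), (7, 3), (13, 1), (17, 1), (31, 1), (73, 1)]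
      (2 ^ 36 * num .E6 2) = true ∧
    chk [(2, 36), (3, 6), (5, 2), (7, 3), (13, 1), (17, 1), (31, 1), (73, 1)] (2 ^ 36 * num .E6 2) 2 400 36 = true := by
  decide +kernel

theorem small_E6_3 : valid [(2, 17), (3, 36), (5, 2), (7, 2), (11, 2), (13, 3), (41, 1), (73, 1), (757, 1)]
      (3 ^ 36 * num .E6 3) = true ∧
    chk [(2, 17), (3, 36), (5, 2), (7, 2), (11, 2), (13, 3), (41, 1), (73, 1), (757, 1)]
      (3 ^ 36 * num .E6 3) 3 400 36 = true := by
  decide +kernel

theorem small_TE6_2 : valid [(2, 36), (3, 9), (5, 2), (7, 2), (11, 1), (13, 1), (17, 1), (19, 1)]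
      (2 ^ 36 * num .TE6 2 / 3) = true ∧
    chk [(2, 36), (3, 9), (5, 2), (7, 2), (11, 1), (13, 1), (17, 1), (19, 1)]
      (2 ^ 36 * num .TE6 2 / 3) 2 400 36 = true := by
  decide +kernel

theorem small_TE6_3 : valid [(2, 19), (3, 36), (5, 2), (7, 3), (13, 2), (19, 1), (37, 1), (41, 1), (61, 1), (73, 1)]
      (3 ^ 36 * num .TE6 3) = true ∧
    chk [(2, 19), (3, 36), (5, 2), (7, 3), (13, 2), (19, 1), (37, 1), (41, 1), (61, 1), (73, 1)]
      (3 ^ 36 * num .TE6 3) 3 400 36 = true := by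
  decide +kernel

/-- `c ≤ 3 log₂ M` -/
theorem c_small {N M c k : ℕ} (hc : 2 ^ c ≤ N ^ 3) (hN : N ≤ M) (hM : M ≤ 2 ^ k) : c ≤ 3 * k := by
  have h1 : 2 ^ c ≤ 2 ^ (3 * k) := by
    calc 2 ^ c ≤ N ^ 3 := hc
      _ ≤ (2 ^ k) ^ 3 := Nat.pow_le_pow_left (hN.trans hM) 3
      _ = _ := by rw [← pow_mul]; congr 1; ring
  exact (Nat.pow_le_pow_iff_right (by norm_num : 1 < 2)).1 h1

/-- **The fields with two and three elements.** -/
theorem small_q (T : OrderTable.{u}) {S : Type u} [Group S] (hk : IsKnownSimple' S)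
    (hna : ¬ ∀ a b : S, a * b = b * a) {Y : Sh} (hY : Y3 Y) {p f M : ℕ} (h : Art.Real Y p f M) (hq : p ^ f ≤ 3)
    {c a : ℕ} (hc : 2 ^ c ≤ Nat.card S ^ 3) (e : Nat.card S * c * p ^ a = M) : Nat.card S = M := by
  have hM := h.M_ne
  have hq2 := h.q_ge
  have hf1 : f = 1 := by
    have h1 := h.hf
    have h2 := h.hp.two_le
    by_contra hcon
    have h3 : 2 ^ 2 ≤ p ^ f := (Nat.pow_le_pow_left h2 2).trans (Nat.pow_le_pow_right (by omega) (by omega))
    omega
  subst hf1
  have heq := h.eq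
  rw [pow_one] at hq hq2 heq
  have hS0 : Nat.card S ≤ M := by
    apply Nat.le_of_dvd (by omega)
    rw [← e, mul_assoc]; exact Dvd.intro _ rfl
  have hp : p = 2 ∨ p = 3 := by omega
  rcases hY with rfl | rfl | rfl
  · have hM1 : M = p ^ 24 * num .F4 p := by
      rw [← show 1 * M = M from one_mul M]; exact heq
    rcases hp with rfl | rfl
    · have hb := c_small hc hS0 (k := 52) (by rw [hM1]; decide +kernel)
      rw [hM1] at e ⊢
      exact small_aux T hk hna _ _ 2 200 24 small_F4_2.1 (chk_spec small_F4_2.2) (by decide +kernel)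
        (by decide +kernel) (by omega) e
    · have hb := c_small hc hS0 (k := 83) (by rw [hM1]; decide +kernel)
      rw [hM1] at e ⊢
      exact small_aux T hk hna _ _ 3 400 24 small_F4_3.1 (chk_spec small_F4_3.2) (by decide +kernel)
        (by decide +kernel) (by omega) e
  · rcases hp with rfl | rfl
    · have hM1 : M = 2 ^ 36 * num .E6 2 := by
        rw [show dd .E6 2 = 1 by decide, one_mul] at heq; exact heq
      have hb := c_small hc hS0 (k := 78) (by rw [hM1]; decide +kernel)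
      rw [hM1] at e ⊢
      exact small_aux T hk hna _ _ 2 400 36 small_E6_2.1 (chk_spec small_E6_2.2) (by decide +kernel)
        (by decide +kernel) (by omega) e
    · have hM1 : M = 3 ^ 36 * num .E6 3 := by
        rw [show dd .E6 3 = 1 by decide, one_mul] at heq; exact heq
      have hb := c_small hc hS0 (k := 124) (by rw [hM1]; decide +kernel)
      rw [hM1] at e ⊢
      exact small_aux T hk hna _ _ 3 400 36 small_E6_3.1 (chk_spec small_E6_3.2) (by decide +kernel)
        (by decide +kernel) (by omega) e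
  · rcases hp with rfl | rfl
    · have hM1 : M = 2 ^ 36 * num .TE6 2 / 3 := by
        rw [show dd .TE6 2 = 3 by decide] at heq
        have h3 : 3 * M = 2 ^ 36 * num .TE6 2 := heq
        exact (Nat.div_eq_of_eq_mul_right (by norm_num : 0 < 3) h3.symm).symm
      have hb := c_small hc hS0 (k := 78) (by rw [hM1]; decide +kernel)
      rw [hM1] at e ⊢
      exact small_aux T hk hna _ _ 2 400 36 small_TE6_2.1 (chk_spec small_TE6_2.2) (by decide +kernel)
        (by decide +kernel) (by omega) e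
    · have hM1 : M = 3 ^ 36 * num .TE6 3 := by
        rw [show dd .TE6 3 = 1 by decide, one_mul] at heq; exact heq
      have hb := c_small hc hS0 (k := 124) (by rw [hM1]; decide +kernel)
      rw [hM1] at e ⊢
      exact small_aux T hk hna _ _ 3 400 36 small_TE6_3.1 (chk_spec small_TE6_3.2) (by decide +kernel)
        (by decide +kernel) (by omega) e

end Cfsg.Agent.H992.TC
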