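import Mathlib
import Cfsg.Agent.H902.Facts
import Cfsg.Agent.OrdDiv.Main

/-!
# Sporadic groups and the orders of `F₄(q)`, `E₆(q)`, `²E₆(q)`
-/

set_option autoImplicit false

namespace Cfsg.Agent.H992.TC

open Cfsg.Agent.H902 Cfsg.Agent.H902.Art Cfsg.Agent.OrdDiv

theorem spor_le : ∀ x ∈ spor, x.2 ≤ 808017424794512875886459904961710757005754368000000000 := by decide +kernel

/-- the check -/
def sporChk (Y : Sh) (N B : ℕ) : Bool :=
  (List.range B).all fun q => Nat.blt q 2 || spor.all fun x =>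
    !(Nat.beq ((q ^ N * num Y q) % x.2) 0) || Nat.blt 540 (num Y q / Nat.gcd (num Y q) (dd Y q * x.2))

theorem sporChk_spec {Y : Sh} {N B : ℕ} (h : sporChk Y N B = true) {q : ℕ} (hq : q < B) (hq2 : 2 ≤ q)
    {x : Grp × ℕ} (hx : x ∈ spor) (hd : x.2 ∣ q ^ N * num Y q) {c : ℕ} (hc : c ≤ 540) (hc0 : c ≠ 0)
    (hn : num Y q ∣ dd Y q * (x.2 * c)) (hn0 : num Y q ≠ 0) : False := by
  have h1 := List.all_eq_true.1 h q (List.mem_range.2 hq)
  rw [Bool.or_eq_true] at h1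
  rcases h1 with h1 | h1
  · rw [Nat.blt_eq] at h1; omega
  have h2 := List.all_eq_true.1 h1 x hx
  rw [Bool.or_eq_true] at h2
  rcases h2 with h2 | h2
  · rw [Nat.mod_eq_zero_of_dvd hd] at h2
    exact absurd h2 (by decide)
  rw [Nat.blt_eq] at h2
  have h3 : num Y q ∣ (dd Y q * x.2) * c := by rwa [mul_assoc]
  set A := dd Y q * x.2
  have hg : 0 < Nat.gcd (num Y q) A := Nat.gcd_pos_of_pos_left _ (Nat.pos_of_ne_zero hn0)
  have h4 : num Y q / Nat.gcd (num Y q) A ∣ c := by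
    have h5 : (num Y q / Nat.gcd (num Y q) A).Coprime (A / Nat.gcd (num Y q) A) :=
      Nat.coprime_div_gcd_div_gcd hg
    apply h5.dvd_of_dvd_mul_left
    have h6 := Nat.div_dvd_div (Dvd.dvd.mul_right (Nat.gcd_dvd_right (num Y q) A) c |>.trans dvd_rfl |> fun _ =>
      Nat.gcd_dvd_left (num Y q) A) h3
    rwa [Nat.mul_comm A c, Nat.mul_div_assoc c (Nat.gcd_dvd_right (num Y q) A), mul_comm] at h6
  have := Nat.le_of_dvd (Nat.pos_of_ne_zero hc0) h4
  omega

theorem spor_F4 : sporChk .F4 24 120 = true := by decide +kernel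

theorem spor_E6 : sporChk .E6 36 25 = true := by decide +kernel

theorem spor_TE6 : sporChk .TE6 36 25 = true := by decide +kernel

theorem num_mono_F4 {q B : ℕ} (h : B ≤ q) : num .F4 B ≤ num .F4 q := by
  have h1 : ∀ k, B ^ k - 1 ≤ q ^ k - 1 := fun k => Nat.sub_le_sub_right (Nat.pow_le_pow_left h k) 1
  exact Nat.mul_le_mul (Nat.mul_le_mul (Nat.mul_le_mul (h1 _) (h1 _)) (h1 _)) (h1 _)

theorem num_mono_E6 {q B : ℕ} (h : B ≤ q) : num .E6 B ≤ num .E6 q := by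
  have h1 : ∀ k, B ^ k - 1 ≤ q ^ k - 1 := fun k => Nat.sub_le_sub_right (Nat.pow_le_pow_left h k) 1
  exact Nat.mul_le_mul (Nat.mul_le_mul (Nat.mul_le_mul (Nat.mul_le_mul (Nat.mul_le_mul (h1 _) (h1 _)) (h1 _))
    (h1 _)) (h1 _)) (h1 _)

theorem num_mono_TE6 {q B : ℕ} (h : B ≤ q) : num .TE6 B ≤ num .TE6 q := by
  have h1 : ∀ k, B ^ k - 1 ≤ q ^ k - 1 := fun k => Nat.sub_le_sub_right (Nat.pow_le_pow_left h k) 1
  have h2 : ∀ k, B ^ k + 1 ≤ q ^ k + 1 := fun k => Nat.add_le_add_right (Nat.pow_le_pow_left h k) 1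
  exact Nat.mul_le_mul (Nat.mul_le_mul (Nat.mul_le_mul (Nat.mul_le_mul (Nat.mul_le_mul (h1 _) (h2 _)) (h1 _))
    (h1 _)) (h2 _)) (h1 _)

theorem dd_le {Y : Sh} (hY : Y = .F4 ∨ Y = .E6 ∨ Y = .TE6) (q : ℕ) : dd Y q ≤ 3 := by
  rcases hY with rfl | rfl | rfl
  · show 1 ≤ 3; norm_num
  · exact Nat.gcd_le_left _ (by norm_num)
  · exact Nat.gcd_le_left _ (by norm_num)

/-- **No sporadic group**. -/
theorem spor_false' {Y : Sh} (hY : Y = .F4 ∨ Y = .E6 ∨ Y = .TE6) {p f M c a : ℕ} (h : Art.Real Y p f M)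
    (hc : c ≤ 540) {x : Grp × ℕ} (hx : x ∈ spor) (e : x.2 * c * p ^ a = M) : False := by
  have hM := h.M_ne
  have hq := h.q_ge
  have hx0 : x.2 ≠ 0 := by rintro h0; rw [h0] at e; simp at e; exact hM e.symm
  have hc0 : c ≠ 0 := by rintro rfl; simp at e; exact hM e.symm
  have h1 : x.2 ∣ (p ^ f) ^ NN Y * num Y (p ^ f) := by
    rw [← h.eq, ← e]
    exact ⟨dd Y (p ^ f) * (c * p ^ a), by ring⟩
  have h2 : num Y (p ^ f) ∣ dd Y (p ^ f) * (x.2 * c) := by
    have h3 : num Y (p ^ f) ∣ (dd Y (p ^ f) * (x.2 * c)) * p ^ a := by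
      refine ⟨(p ^ f) ^ NN Y, ?_⟩
      rw [mul_comm (num Y (p ^ f)), ← h.eq, ← e]; ring
    have h4 : (num Y (p ^ f)).Coprime (p ^ a) :=
      Nat.Coprime.pow_right _ ((Nat.Prime.coprime_iff_not_dvd h.hp).2 h.not_dvd_num).symm
    exact h4.dvd_of_dvd_mul_right h3
  have h3 : num Y (p ^ f) ≤ 1620 * 808017424794512875886459904961710757005754368000000000 := by
    refine (Nat.le_of_dvd (Nat.pos_of_ne_zero (mul_ne_zero h.dd_ne (mul_ne_zero hx0 hc0))) h2).trans ?_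
    calc dd Y (p ^ f) * (x.2 * c) ≤ 3 * (808017424794512875886459904961710757005754368000000000 * 540) :=
          Nat.mul_le_mul (dd_le hY _) (Nat.mul_le_mul (spor_le x hx) hc)
      _ = _ := by norm_num
  rcases hY with rfl | rfl | rfl
  · by_cases hB : p ^ f < 120
    · exact sporChk_spec spor_F4 hB hq hx h1 hc hc0 h2 h.num_ne
    · push Not at hB
      have h4 := (num_mono_F4 hB).trans h3
      revert h4
      decide +kernel
  · by_cases hB : p ^ f < 25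
    · exact sporChk_spec spor_E6 hB hq hx h1 hc hc0 h2 h.num_ne
    · push Not at hB
      have h4 := (num_mono_E6 hB).trans h3
      revert h4
      decide +kernel
  · by_cases hB : p ^ f < 25
    · exact sporChk_spec spor_TE6 hB hq hx h1 hc hc0 h2 h.num_ne
    · push Not at hB
      have h4 := (num_mono_TE6 hB).trans h3
      revert h4
      decide +kernel

theorem spor_false {Y : Sh} (hY : Y = .F4 ∨ Y = .E6 ∨ Y = .TE6) {p f M c a : ℕ} (h : Art.Real Y p f M)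
    (hc : c ≤ 36) {x : Grp × ℕ} (hx : x ∈ spor) (e : x.2 * c * p ^ a = M) : False :=
  spor_false' hY h (by omega) hx e

end Cfsg.Agent.H992.TC
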