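import Mathlib
import Cfsg.Agent.H992.TC.AltFalse
import Cfsg.Agent.H992.TC.Spor
import Cfsg.Agent.H992.TC.Cross
import Cfsg.Agent.H992.TC.Small
import Cfsg.Agent.H992.TC.Exp
import Cfsg.Agent.H902.Artin
import Cfsg.Agent.H934.OutAll
import Cfsg.Agent.H816.OutEmb
import Cfsg.Agent.H402.AltGrp
import Cfsg.Agent.H364.Core

/-!
# The identification of the almost simple quotient
-/

set_option autoImplicit false

namespace Cfsg.Agent.H992.TC

open Subgroup Cfsg Cfsg.Agent.H902 Cfsg.Agent.H902.Art Cfsg.Agent.OrdDiv Cfsg.Agent.H364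

universe u

theorem spor_small : ∀ x ∈ spor, x.2 ≤ 2 ^ 180 := fun x hx => (spor_le x hx).trans (by norm_num)

/-- everything but the case of the same characteristic -/
theorem ident_aux {Γ : Type u} [Group Γ] [Finite Γ] (N : Subgroup Γ) [hN : N.Normal] [hNs : IsSimpleGroup N]
    (hna : ¬ ∀ a b : N, a * b = b * a) (hC : centralizer (N : Set Γ) = ⊥) {Y : Sh} (hY : Y3 Y) {p f M : ℕ}
    (h : Art.Real Y p f M) {a : ℕ} (e : Nat.card Γ * p ^ a = M)
    (hno : ∀ r s : ℕ, r.Prime → s.Prime → r ∣ mm Y (p ^ f) → ¬ s ∣ mm Y (p ^ f) → NoEdge Γ r s)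
    (hsame : ∀ (g : Grp) (X : Sh) (k : ℕ), 4 ≤ p ^ f → OrdDiv.Real g N → Names.IsLie g X p k →
      Art.Real X p k (Nat.card N) → N.index ∣ Nat.card (Out N) → Nat.card N = M) :
    Nat.card N = M := by
  have hk : IsKnownSimple' N := S0000.result
  have hna' : ¬ IsMulCommutative N := fun hc => hna fun x y => hc.is_comm.comm x y
  have hcd : N.index ∣ Nat.card (Out N) := H816.OutEmb.index_dvd N (by rw [hC]; exact bot_le)
  have hN1 : 1 < Nat.card N := Finite.one_lt_card
  have hpow : 2 ^ N.index ≤ Nat.card N ^ 3 := by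
    have h1 := H934.OutAll.bd hna' hk ⊥ (bot_ne_top)
    rw [index_bot] at h1
    exact (Nat.pow_le_pow_right (by norm_num) (Nat.le_of_dvd Nat.card_pos hcd)).trans h1
  have e1 : Nat.card N * N.index * p ^ a = M := by rw [card_mul_index, e]
  by_cases hq : p ^ f ≤ 3
  · exact small_q table hk hna hY h hq hpow e1
  have hq4 : 4 ≤ p ^ f := by omega
  rcases Names.exists_nam table hk hna with ⟨n, hn, hr, hc⟩ | ⟨g, X, t, k, hg, hr, hc⟩ | ⟨x, hx, hr, hc⟩
  · exfalso
    by_cases h6 : n = 6
    · subst h6
      have h360 : Nat.card N = 360 := by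
        have : Nat.factorial 6 = 720 := rfl
        omega
      have hidx : N.index ≤ 26 := by
        rw [h360] at hpow
        have h1 : 2 ^ N.index ≤ 2 ^ 26 := hpow.trans (by norm_num)
        exact (Nat.pow_le_pow_iff_right (by norm_num : 1 < 2)).1 h1
      have h1 := num_le h e1
      have h2 : dd Y (p ^ f) ≤ 3 := by
        rcases hY with rfl | rfl | rfl
        · exact (by norm_num : 1 ≤ 3)
        · exact Nat.gcd_le_left _ (by norm_num)
        · exact Nat.gcd_le_left _ (by norm_num)
      have h3 : dd Y (p ^ f) * (Nat.card N * N.index) ≤ 3 * (360 * 26) := by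
        rw [h360]
        exact Nat.mul_le_mul h2 (Nat.mul_le_mul_left _ hidx)
      have h4 : 4 ^ 28 ≤ 2 * num Y (p ^ f) := by
        rcases hY with rfl | hY
        · exact (Nat.pow_le_pow_left hq4 28).trans (num_F4_ge hq4)
        · exact ((Nat.pow_le_pow_left hq4 28).trans (Nat.pow_le_pow_right (by omega) (by norm_num))).trans
            (num_E_ge hY hq4)
      norm_num at h4
      omega
    · obtain ⟨ea⟩ := hr
      have hsa : IsSimpleGroup (alternatingGroup (Fin n)) := ea.symm.isSimpleGroup
      have hout : Nat.card (Out N) = 2 := by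
        rw [H934.OutB.card_out_congr ea]
        exact H934.OutAll.card_out_alt hn h6 (fun hc => hna fun x y => ea.injective (by
          rw [map_mul, map_mul, hc.is_comm.comm]))
      rw [hout] at hcd
      refine alt_false (n := n) (c := N.index) (a := a) hY h (hcd.trans (by norm_num)) hn ?_ ?_
      · rw [← hc, ← e1]; ring
      · intro r hr hrm
        by_contra hcon
        have hr6 : r.Coprime 6 := (mm_coprime_six hY (by omega)).coprime_dvd_left hrm
        have hr2 : r ≠ 2 := by rintro rfl; revert hr6; decide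
        have hr3 : r ≠ 3 := by rintro rfl; revert hr6; decide
        obtain ⟨g, hg⟩ := Cfsg.Agent.H402.AltG.exists_two (m := n) hr Nat.prime_three hr3 hr2 (by norm_num) (by omega)
        refine hno r 3 hr Nat.prime_three hrm ?_ ((ea.symm g : N) : Γ) ?_
        · intro h3
          have : (mm Y (p ^ f)).Coprime 6 := mm_coprime_six hY (by omega)
          have h33 : (3 : ℕ) ∣ Nat.gcd (mm Y (p ^ f)) 6 := Nat.dvd_gcd h3 (by norm_num)
          rw [this] at h33
          exact absurd h33 (by norm_num)
        · rw [Subgroup.orderOf_coe, MulEquiv.orderOf_eq, hg]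
  · by_cases htp : t = p
    · subst htp
      exact hsame g X k hq4 hr hg hc hcd
    · exfalso
      have h1 := hc.lt_cube
      refine cross_false hY h hq4 hc htp (c := N.index) ?_ e1
      refine hpow.trans ((Nat.pow_le_pow_left h1.le 3).trans ?_)
      rw [← pow_mul]
      exact Nat.pow_le_pow_right (P_pos hc.hp) (by norm_num)
  · exfalso
    refine spor_false' hY h (c := N.index) ?_ hx (by rw [← hc]; exact e1)
    rw [hc] at hpow
    have h1 : 2 ^ N.index ≤ 2 ^ 540 := by
      refine hpow.trans ((Nat.pow_le_pow_left (spor_small x hx) 3).trans ?_)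
      rw [← pow_mul]
    exact (Nat.pow_le_pow_iff_right (by norm_num : 1 < 2)).1 h1

end Cfsg.Agent.H992.TC
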