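import Mathlib
import Cfsg.Agent.H250.EqD.DdN
import Cfsg.Agent.H992.TC.Torus
import Cfsg.Agent.H992.TC.Exp
import Cfsg.Agent.H962.IdSame

/-!
# Equal characteristic, with `c` a divisor of the order of the outer automorphism group
-/

set_option autoImplicit false

namespace Cfsg.Agent.H992.TC

open Cfsg.Agent.H902 Cfsg.Agent.H902.Art Cfsg.Agent.H962.IdSame

variable {X Y : Sh} {p e f M N c a c0 : ℕ}

theorem Y3.isExc (h : Y3 Y) : IsExc Y := by
  rcases h with rfl | rfl | rfl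
  · exact .F4
  · exact .E6
  · exact .TE6

/-- the large primes in the order of the centre -/
theorem dd_prime (hX : Art.Real X p e N) {r : ℕ} (hr4 : 4 < r) (hd : r ∣ dd X (p ^ e)) :
    r ≤ DM X ∧ r ∣ (p ^ e) ^ 2 - 1 := by
  have hq := hX.q_ge
  have hs := sq_mul_add (p ^ e) (by omega)
  have small : ∀ k l, 0 < k → k ≤ 4 → r ∣ Nat.gcd k l → False := by
    intro k l hk0 hk h
    have := Nat.le_of_dvd hk0 (h.trans (Nat.gcd_dvd_left k l))
    omega
  have small1 : r ∣ 1 → False := fun h => by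
    have := Nat.le_of_dvd (by norm_num) h
    omega
  cases X with
  | L n =>
    have hn : 2 ≤ n := hX.ok.1
    have h1 : r ≤ n := Nat.le_of_dvd (by omega) (hd.trans (Nat.gcd_dvd_left n _))
    exact ⟨h1, hs ▸ (hd.trans (Nat.gcd_dvd_right n _)).mul_right _⟩
  | C m => exact (small 2 _ (by norm_num) (by norm_num) hd).elim
  | U n =>
    have hn : 3 ≤ n := hX.ok.1
    have h1 : r ≤ n := Nat.le_of_dvd (by omega) (hd.trans (Nat.gcd_dvd_left n _))
    refine ⟨h1.trans ?_, hs ▸ (hd.trans (Nat.gcd_dvd_right n _)).mul_left _⟩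
    show n ≤ if Even n then 2 * (n - 1) else 2 * n
    split_ifs <;> omega
  | D m => exact (small 4 _ (by norm_num) (by norm_num) hd).elim
  | DD m => exact (small 4 _ (by norm_num) (by norm_num) hd).elim
  | G2 => exact (small1 hd).elim
  | F4 => exact (small1 hd).elim
  | E6 => exact (small 3 _ (by norm_num) (by norm_num) hd).elim
  | E7 => exact (small 2 _ (by norm_num) (by norm_num) hd).elim
  | E8 => exact (small1 hd).elim
  | TE6 => exact (small 3 _ (by norm_num) (by norm_num) hd).elim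
  | TD4 => exact (small1 hd).elim
  | Sz => exact (small1 hd).elim
  | Ree => exact (small1 hd).elim
  | TF4 => exact (small1 hd).elim

/-- the order of the centre is small -/
theorem dd_le_DM (hX : Art.Real X p e N) : dd X (p ^ e) ≤ 2 * DM X := by
  cases X with
  | L n =>
    have hn : 2 ≤ n := hX.ok.1
    have : Nat.gcd n (p ^ e - 1) ≤ n := Nat.gcd_le_left _ (by omega)
    show Nat.gcd n (p ^ e - 1) ≤ 2 * n
    omega
  | C m =>
    have hm : 2 ≤ m := hX.ok.1
    have : Nat.gcd 2 (p ^ e - 1) ≤ 2 := Nat.gcd_le_left _ (by omega)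
    show Nat.gcd 2 (p ^ e - 1) ≤ 2 * (2 * m)
    omega
  | U n =>
    have hn : 3 ≤ n := hX.ok.1
    have : Nat.gcd n (p ^ e + 1) ≤ n := Nat.gcd_le_left _ (by omega)
    show Nat.gcd n (p ^ e + 1) ≤ 2 * (if Even n then 2 * (n - 1) else 2 * n)
    split_ifs <;> omega
  | D m =>
    have hm : 4 ≤ m := hX.ok
    have : Nat.gcd 4 ((p ^ e) ^ m - 1) ≤ 4 := Nat.gcd_le_left _ (by omega)
    show Nat.gcd 4 ((p ^ e) ^ m - 1) ≤ 2 * (2 * (m - 1))
    omega
  | DD m =>
    have hm : 4 ≤ m := hX.ok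
    have : Nat.gcd 4 ((p ^ e) ^ m + 1) ≤ 4 := Nat.gcd_le_left _ (by omega)
    show Nat.gcd 4 ((p ^ e) ^ m + 1) ≤ 2 * (2 * m)
    omega
  | G2 => exact (by norm_num [dd, DM] : 1 ≤ 2 * DM .G2)
  | F4 => exact (by norm_num [dd, DM] : 1 ≤ 2 * DM .F4)
  | E6 => exact (Nat.gcd_le_left _ (by norm_num)).trans (by norm_num [DM])
  | E7 => exact (Nat.gcd_le_left _ (by norm_num)).trans (by norm_num [DM])
  | E8 => exact (by norm_num [dd, DM] : 1 ≤ 2 * DM .E8)
  | TE6 => exact (Nat.gcd_le_left _ (by norm_num)).trans (by norm_num [DM])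
  | TD4 => exact (by norm_num [dd, DM] : 1 ≤ 2 * DM .TD4)
  | Sz => exact (by norm_num [dd, DM] : 1 ≤ 2 * DM .Sz)
  | Ree => exact (by norm_num [dd, DM] : 1 ≤ 2 * DM .Ree)
  | TF4 => exact (by norm_num [dd, DM] : 1 ≤ 2 * DM .TF4)

theorem order_lt {r k : ℕ} (hr : r.Prime) (hk : 1 ≤ k) (ho : orderOf (p : ZMod r) = k) : k + 1 ≤ r := by
  have := Fact.mk hr
  have hne : (p : ZMod r) ≠ 0 := by
    intro h0
    rw [h0] at ho
    have h1 : (0 : ZMod r) ^ k = 1 := by rw [← ho]; exact pow_orderOf_eq_one _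
    rw [zero_pow (by omega)] at h1
    exact zero_ne_one h1
  have h1 := orderOf_dvd_of_pow_eq_one (ZMod.pow_card_sub_one_eq_one hne)
  rw [ho] at h1
  have := Nat.le_of_dvd (by have := hr.two_le; omega) h1
  omega

theorem dm_le (hX : Art.Real X p e N) (hY3 : Y3 Y) (hY : Art.Real Y p f M) (heq : N * c * p ^ a = M) :
    e * DM X ≤ f * DM Y := by
  by_contra h
  exact absurd (DM_le₂ hX hY hY3.isExc heq (by omega)) h

theorem DM_Y3 (hY3 : Y3 Y) : 12 ≤ DM Y ∧ DM Y ≤ 18 ∧ 8 ≤ BM Y ∧ BM Y ≤ 12 ∧ (DM Y = 12 ∨ DM Y = 18 ∧ BM Y = 12) := by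
  rcases hY3 with rfl | rfl | rfl <;> decide

/-- large primes do not divide `c` -/
theorem not_dvd_c (hX : Art.Real X p e N) (hY3 : Y3 Y) (hY : Art.Real Y p f M) (heq : N * c * p ^ a = M)
    (hc : c ∣ c0 * e) (h24 : c0 ∣ 24 * dd X (p ^ e)) {r D0 : ℕ} (hr : r.Prime) (hD : 8 ≤ D0)
    (hb : f * DM Y ≤ f * D0 * DM X) (ho : orderOf (p : ZMod r) = f * D0) : ¬ r ∣ c := by
  intro hrc
  have hf := hY.hf
  have he := hX.hf
  have h8 : 8 ≤ f * D0 := by nlinarith
  have hlt := order_lt hr (by omega) ho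
  have hle := dm_le hX hY3 hY heq
  rcases hr.dvd_mul.1 (hrc.trans hc) with h | h
  · rcases hr.dvd_mul.1 (h.trans h24) with h | h
    · have h3 : r ∣ 2 ^ 3 * 3 := by norm_num at h ⊢; exact h
      rcases hr.dvd_mul.1 h3 with h | h
      · have := Nat.le_of_dvd (by norm_num) (hr.dvd_of_dvd_pow h)
        omega
      · have := Nat.le_of_dvd (by norm_num) h
        omega
    · obtain ⟨h1, h2⟩ := dd_prime hX (by omega) h
      rw [← pow_mul] at h2
      have h3 : orderOf (p : ZMod r) ∣ e * 2 := by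
        apply orderOf_dvd_of_pow_eq_one
        have h4 : ((p ^ (e * 2) - 1 : ℕ) : ZMod r) = 0 := (ZMod.natCast_eq_zero_iff _ _).2 h2
        rw [Nat.cast_sub (Nat.one_le_pow _ _ hX.hp.pos), sub_eq_zero] at h4
        push_cast at h4
        exact h4
      rw [ho] at h3
      have h4 := Nat.le_of_dvd (by omega) h3
      have h5 : (f * D0 + 1) * (f * D0) ≤ DM X * (e * 2) := Nat.mul_le_mul (hlt.trans h1) h4
      have h6 : DM X * (e * 2) ≤ 36 * f := by
        have := (DM_Y3 hY3).2.1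
        calc DM X * (e * 2) = 2 * (e * DM X) := by ring
          _ ≤ 2 * (f * DM Y) := Nat.mul_le_mul_left _ hle
          _ ≤ 2 * (f * 18) := Nat.mul_le_mul_left _ (Nat.mul_le_mul_left _ this)
          _ = 36 * f := by ring
      have h7 : f * 8 ≤ f * D0 := Nat.mul_le_mul_left _ hD
      nlinarith
  · have h1 := Nat.le_of_dvd (by omega) h
    have h2 : (f * D0 + 1) * DM X ≤ e * DM X := Nat.mul_le_mul_right _ (hlt.trans h1)
    have h3 := Art.DM_ge hX
    have h4 : (f * D0 + 1) * DM X = f * D0 * DM X + DM X := by ring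
    omega


theorem nine_lt {f : ℕ} (hf : 2 ≤ f) : 9 * f < 2 ^ (3 * f - 1) := by
  induction f, hf using Nat.le_induction with
  | base => norm_num
  | succ f hf ih =>
    have h1 : 3 * (f + 1) - 1 = (3 * f - 1) + 3 := by omega
    rw [h1, pow_add]
    omega

theorem c0_val (hX : Art.Real X p e N) (h0 : c0 ≠ 0) (h24 : c0 ∣ 24 * dd X (p ^ e))
    (h6 : p = 2 → c0 ∣ 6 * dd X (p ^ e)) : c0.factorization p ≤ 1 ∧ (5 ≤ p → c0.factorization p = 0) := by
  have hp := hX.hp
  have hdd := hX.not_dvd_dd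
  constructor
  · by_contra hcon
    have h1 : p ^ 2 ∣ c0 := (hp.pow_dvd_iff_le_factorization h0).2 (by omega)
    have hcop : (p ^ 2).Coprime (dd X (p ^ e)) := Nat.Coprime.pow_left 2 ((Nat.Prime.coprime_iff_not_dvd hp).2 hdd)
    by_cases h2 : p = 2
    · have h3 := hcop.dvd_of_dvd_mul_right (h1.trans (h6 h2))
      rw [h2] at h3
      exact absurd h3 (by norm_num)
    · have h3 := hcop.dvd_of_dvd_mul_right (h1.trans h24)
      have h4 : 3 ≤ p := by have := hp.two_le; omega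
      have h5 : p ≤ 4 := by
        have := Nat.le_of_dvd (by norm_num) h3
        nlinarith
      have h6 : p = 3 := by
        rcases (by omega : p = 3 ∨ p = 4) with h | h
        · exact h
        · rw [h] at hp; exact absurd hp (by norm_num)
      rw [h6] at h3
      exact absurd h3 (by norm_num)
  · intro h5
    apply Nat.factorization_eq_zero_of_not_dvd
    intro h1
    rcases hp.dvd_mul.1 (h1.trans h24) with h2 | h2
    · have h3 : p ∣ 2 ^ 3 * 3 := by norm_num at h2 ⊢; exact h2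
      rcases hp.dvd_mul.1 h3 with h | h
      · have := Nat.le_of_dvd (by norm_num) (hp.dvd_of_dvd_pow h)
        omega
      · have := Nat.le_of_dvd (by norm_num) h
        omega
    · exact hdd h2

theorem c0_ne (hX : Art.Real X p e N) (h24 : c0 ∣ 24 * dd X (p ^ e)) : c0 ≠ 0 := by
  rintro rfl
  have := Nat.eq_zero_of_zero_dvd h24
  have := hX.dd_ne
  omega

theorem hcp (hX : Art.Real X p e N) (hY3 : Y3 Y) (hY : Art.Real Y p f M) (hq4 : 4 ≤ p ^ f) (heq : N * c * p ^ a = M)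
    (hc : c ∣ c0 * e) (h24 : c0 ∣ 24 * dd X (p ^ e)) (h6 : p = 2 → c0 ∣ 6 * dd X (p ^ e)) :
    4 * c.factorization p < f * DM Y := by
  have hp := hX.hp
  have he := hX.hf
  have hf := hY.hf
  have h0 := c0_ne hX h24
  have hcv := c0_val hX h0 h24 h6
  obtain ⟨hD1, hD2, -, -, -⟩ := DM_Y3 hY3
  have h1 : c.factorization p ≤ c0.factorization p + e.factorization p := by
    have h2 := (Nat.factorization_le_iff_dvd (c_ne hY heq) (Nat.mul_ne_zero h0 (by omega))).2 hc p
    rwa [Nat.factorization_mul h0 (by omega), Finsupp.add_apply] at h2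
  have h2 : p ^ e.factorization p ≤ e := Nat.ordProj_le p (by omega)
  have h3 := dm_le hX hY3 hY heq
  have h4 := (Art.DM_ge hX).1
  have h5 : e * 2 ≤ f * 18 := (Nat.mul_le_mul_left e h4).trans (h3.trans (Nat.mul_le_mul_left f hD2))
  have h12 : f * 12 ≤ f * DM Y := Nat.mul_le_mul_left f hD1
  by_cases hf1 : f = 1
  · subst hf1
    rw [pow_one] at hq4
    have hp5 : 5 ≤ p := by
      rcases (by omega : p = 4 ∨ 5 ≤ p) with h | h
      · rw [h] at hp; exact absurd hp (by norm_num)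
      · exact h
    have h6 := hcv.2 hp5
    have h7 : e.factorization p ≤ 1 := by
      by_contra hcon
      have h8 : 5 ^ 2 ≤ p ^ e.factorization p :=
        (Nat.pow_le_pow_left hp5 2).trans (Nat.pow_le_pow_right (by omega) (by omega))
      omega
    omega
  · have h7 : e.factorization p + 1 < 3 * f := by
      by_contra hcon
      have h8 : 2 ^ (3 * f - 1) ≤ p ^ e.factorization p :=
        (Nat.pow_le_pow_left hp.two_le _).trans (Nat.pow_le_pow_right hp.pos (by omega))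
      have h9 := nine_lt (f := f) (by omega)
      omega
    have h8 := hcv.1
    omega

theorem hc_lt (hX : Art.Real X p e N) (hY3 : Y3 Y) (hY : Art.Real Y p f M) (hq4 : 4 ≤ p ^ f) (heq : N * c * p ^ a = M)
    (hc : c ∣ c0 * e) (h24 : c0 ∣ 24 * dd X (p ^ e)) : c < ((p ^ f) ^ 2 - 1) * ((p ^ f) ^ 6 - 1) := by
  have he := hX.hf
  have h0 := c0_ne hX h24
  have h1 : c ≤ c0 * e := Nat.le_of_dvd (Nat.mul_pos (Nat.pos_of_ne_zero h0) (by omega)) hc
  have h2 : c0 ≤ 24 * dd X (p ^ e) := Nat.le_of_dvd (Nat.mul_pos (by norm_num) (Nat.pos_of_ne_zero hX.dd_ne)) h24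
  have h3 := dd_le_DM hX
  have h4 := dm_le hX hY3 hY heq
  have h5 : f * DM Y ≤ f * 18 := Nat.mul_le_mul_left f (DM_Y3 hY3).2.1
  have h6 : c ≤ 864 * f := by
    calc c ≤ c0 * e := h1
      _ ≤ (24 * (2 * DM X)) * e := Nat.mul_le_mul_right _ (h2.trans (Nat.mul_le_mul_left _ h3))
      _ = 48 * (e * DM X) := by ring
      _ ≤ 48 * (f * 18) := Nat.mul_le_mul_left _ (h4.trans h5)
      _ = 864 * f := by ring
  have h7 : f < p ^ f := Nat.lt_pow_self hY.hp.one_lt
  generalize p ^ f = q at *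
  have h8 : 4 ^ 2 ≤ q ^ 2 := Nat.pow_le_pow_left hq4 2
  have h9 : 256 * q ≤ q ^ 5 := by
    have h10 : 4 ^ 4 ≤ q ^ 4 := Nat.pow_le_pow_left hq4 4
    calc 256 * q = 4 ^ 4 * q := by norm_num
      _ ≤ q ^ 4 * q := Nat.mul_le_mul_right _ h10
      _ = q ^ 5 := by ring
  have h10 : q ^ 5 * 4 ≤ q ^ 6 := by
    calc q ^ 5 * 4 ≤ q ^ 5 * q := Nat.mul_le_mul_left _ hq4
      _ = _ := by ring
  have h11 : 15 * (256 * q) ≤ (q ^ 2 - 1) * (q ^ 6 - 1) := Nat.mul_le_mul (by omega) (by omega)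
  omega

/-- **Equal characteristic.** -/
theorem same_out (hX : Art.Real X p e N) (hY3 : Y3 Y) (hY : Art.Real Y p f M) (hq4 : 4 ≤ p ^ f)
    (heq : N * c * p ^ a = M) (hc : c ∣ c0 * e) (h24 : c0 ∣ 24 * dd X (p ^ e)) (h6 : p = 2 → c0 ∣ 6 * dd X (p ^ e))
    (ha : EE Y * f ∣ a) : N = M := by
  obtain ⟨hD1, hD2, hB1, hB2, hDB⟩ := DM_Y3 hY3
  have hf := hY.hf
  have hge := (Art.DM_ge hX).1
  have key : ∀ {D0 r : ℕ}, r.Prime → 8 ≤ D0 → DM Y ≤ D0 * DM X → orderOf (p : ZMod r) = f * D0 → ¬ r ∣ c := by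
    intro D0 r hr h8 hb ho
    refine not_dvd_c hX hY3 hY heq hc h24 hr h8 ?_ ho
    rw [mul_assoc]
    exact Nat.mul_le_mul_left f hb
  -- `DM X ≥ 3`
  have h1 := DM_le₁ hX hY hY3.isExc heq fun r hr ho => key hr (by omega) (Nat.le_mul_of_pos_right _ (by omega)) ho
  have hD := le_antisymm (DM_le₂ hX hY hY3.isExc heq h1) h1
  have hBX := (BM_eq hX hY heq hD (by omega) hB1 fun r hr ho => key hr hB1 (by
    calc DM Y ≤ BM Y * 2 := by omega
      _ ≤ BM Y * DM X := Nat.mul_le_mul_left _ hge) ho).1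
  have hlt := BM_lt hX
  have h3 : 3 ≤ DM X := by omega
  obtain ⟨rfl, rfl⟩ := same_id hX hY hY3.isExc heq (hcp hX hY3 hY hq4 heq hc h24 h6) (by
      rintro r hr (ho | ho | ho)
      · exact key hr (by omega) (Nat.le_mul_of_pos_right _ (by omega)) ho
      · exact key hr hB1 (by
          calc DM Y ≤ BM Y * 2 := by omega
            _ ≤ BM Y * DM X := Nat.mul_le_mul_left _ hge) ho
      · exact key hr (le_refl 8) (by omega) ho) (by
      rcases hY3 with rfl | rfl | rfl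
      · exact Or.inl ⟨rfl, ha⟩
      · exact Or.inr (Or.inl ⟨rfl, ha⟩)
      · exact Or.inr (Or.inr (Or.inl ⟨rfl, ha⟩)))
    (Or.inr ⟨by rcases hY3 with rfl | rfl | rfl <;> simp, by rcases hY3 with rfl | rfl | rfl <;> simp,
      hc_lt hX hY3 hY hq4 heq hc h24⟩)
  apply Nat.eq_of_mul_eq_mul_left (Nat.pos_of_ne_zero hX.dd_ne)
  rw [hX.eq, hY.eq]

end Cfsg.Agent.H992.TC
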