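import Mathlib
import Cfsg.Agent.H992.TC.Spor
import Cfsg.Agent.H902.Artin

/-!
# A simple group of the order of `F₄(q)`, `E₆(q)`, `²E₆(q)`
-/

set_option autoImplicit false

namespace Cfsg.Agent.H992.TC

open Subgroup Cfsg Cfsg.Agent.H902 Cfsg.Agent.H902.Art Cfsg.Agent.OrdDiv

universe u v

/-- the name -/
def nm : Sh → ℕ → Grp
  | .F4, q => .f4 q
  | .E6, q => .e6 q
  | _, q => .te6 q

theorem large {Y : Sh} (hY : Y = .F4 ∨ Y = .E6 ∨ Y = .TE6) {p f M : ℕ} (h : Art.Real Y p f M) : 2 ^ 24 ≤ P p M := by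
  rw [h.P_self]
  have h1 : 24 ≤ NN Y := by rcases hY with rfl | rfl | rfl <;> decide
  exact (Nat.pow_le_pow_left h.q_ge 24).trans (Nat.pow_le_pow_right (by have := h.q_ge; omega) h1)

theorem not_comm {G : Type u} [Group G] [Finite G] [IsSimpleGroup G] {Y : Sh}
    (hY : Y = .F4 ∨ Y = .E6 ∨ Y = .TE6) {p f M : ℕ} (h : Art.Real Y p f M) (hc : Nat.card G = M) :
    ¬ ∀ a b : G, a * b = b * a := by
  have hlarge := large hY h
  intro hcom
  have h1 : M.Prime := hc ▸ Artin.prime_card hcom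
  have h2 : P p M ∣ M := P_dvd p M
  rcases (Nat.dvd_prime h1).1 h2 with h3 | h3
  · rw [h3] at hlarge; norm_num at hlarge
  · have h4 : M.factorization p ≤ 1 := by
      rw [h1.factorization, Finsupp.single_apply]
      split_ifs <;> omega
    have h5 : P p M ≤ p ^ 1 := Nat.pow_le_pow_right h.hp.pos h4
    have h6 := h.P_self
    have h7 : p ^ 2 ≤ P p M := by
      rw [h6, ← pow_mul]
      apply Nat.pow_le_pow_right h.hp.pos
      have h8 : 24 ≤ NN Y := by rcases hY with rfl | rfl | rfl <;> decide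
      have h9 := h.hf
      calc 2 ≤ 1 * NN Y := by omega
        _ ≤ f * NN Y := Nat.mul_le_mul_right _ h9
    have h8 : p ^ 2 ≤ p ^ 1 := h7.trans h5
    have h9 := (Nat.pow_le_pow_iff_right h.hp.one_lt).1 h8
    omega

theorem real_of_card {G : Type u} [Group G] [Finite G] [IsSimpleGroup G] {Y : Sh}
    (hY : Y = .F4 ∨ Y = .E6 ∨ Y = .TE6) {p f M : ℕ} (h : Art.Real Y p f M) (hc : Nat.card G = M) :
    OrdDiv.Real (nm Y (p ^ f)) G := by
  have hlarge := large hY h
  have hM0 := h.M_ne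
  have hPM : 2 ^ 24 ≤ M := hlarge.trans (P_le hM0)
  norm_num at hPM
  have hna := not_comm hY h hc
  have hlie : Names.IsLie (nm Y (p ^ f)) Y p f := by
    rcases hY with rfl | rfl | rfl
    · exact .f4 p f
    · exact .e6 p f
    · exact .te6 p f
  rcases Names.exists_nam table (S0000.result (G := G)) hna with ⟨n, hn, hr, hcn⟩ | ⟨g, X, t, k, hg, hr, hcn⟩ |
    ⟨x, hx, hr, hcn⟩
  · exfalso
    rw [hc] at hcn
    rcases alt_lie h hn hcn with h1 | h1 | h1 <;> omega
  · rw [hc] at hcn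
    by_cases htp : t = p
    · subst htp
      rcases same_char hcn h with ⟨rfl, rfl⟩ | h1
      · rcases Names.isLie_same hg hlie with rfl | ⟨m, q, -, -, -, h2⟩ | ⟨m, q, -, -, -, h2⟩
        · exact hr
        · exfalso
          rcases hY with rfl | rfl | rfl <;> exact absurd h2 (by simp [nm])
        · exfalso
          rcases hY with rfl | rfl | rfl <;> exact absurd h2 (by simp [nm])
      · exfalso; omega
    · exfalso
      rcases cross_char hcn h htp with h1 | h1 | h1 <;> omega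
  · exfalso
    exact spor_false' hY h (c := 1) (a := 0) (by norm_num) hx (by rw [← hcn, hc, mul_one, pow_zero, mul_one])

theorem iso_of_card {G : Type u} [Group G] [Finite G] [IsSimpleGroup G] {Y : Sh}
    (hY : Y = .F4 ∨ Y = .E6 ∨ Y = .TE6) {p f M : ℕ} (h : Art.Real Y p f M) (hc : Nat.card G = M)
    {L : Type v} [Group L] (hL : OrdDiv.Real (nm Y (p ^ f)) L) : Nonempty (G ≃* L) :=
  Iso.real_unique _ (real_of_card hY h hc) hL

end Cfsg.Agent.H992.TC
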