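import Mathlib
import Cfsg.Agent.H992.TC.Torus

/-!
# `dd * mm ^ 2 ≤ num`
-/

set_option autoImplicit false

namespace Cfsg.Agent.H992.TC

open Cfsg.Agent.H902 Cfsg.Agent.H902.Art

theorem pow_pred {q : ℕ} (hq : 2 ≤ q) (k : ℕ) : q ^ k ≤ q ^ (k + 1) - 1 := by
  have h1 : 1 ≤ q ^ k := Nat.one_le_pow _ _ (by omega)
  have h2 : 2 * q ^ k ≤ q ^ (k + 1) := by rw [pow_succ, mul_comm]; exact Nat.mul_le_mul_left _ hq
  omega

theorem mul_ge_right {a b c : ℕ} (ha : 1 ≤ a) (hb : c ≤ b) : c ≤ a * b := by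
  calc c = 1 * c := (one_mul c).symm
    _ ≤ a * b := Nat.mul_le_mul ha hb

theorem dd_mm {Y : Sh} (hY : Y3 Y) {q : ℕ} (hq : 2 ≤ q) : dd Y q * mm Y q ^ 2 ≤ num Y q := by
  have h1 : ∀ k, 1 ≤ q ^ (k + 1) - 1 := fun k => (Nat.one_le_pow _ _ (by omega)).trans (pow_pred hq k)
  have hm : ∀ k, 1 ≤ q ^ k := fun k => Nat.one_le_pow _ _ (by omega)
  rcases hY with rfl | rfl | rfl
  · show 1 * (q ^ 4 - q ^ 2 + 1) ^ 2 ≤ (q ^ 2 - 1) * (q ^ 6 - 1) * (q ^ 8 - 1) * (q ^ 12 - 1)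
    have h2 : q ^ 4 - q ^ 2 + 1 ≤ q ^ 4 := by
      have h3 := hm 2
      have h4 := le_pow q (a := 2) (b := 4) (by omega) (by norm_num)
      omega
    have h3 : (q ^ 4 - q ^ 2 + 1) ^ 2 ≤ q ^ 11 := by
      calc (q ^ 4 - q ^ 2 + 1) ^ 2 ≤ (q ^ 4) ^ 2 := Nat.pow_le_pow_left h2 2
        _ = q ^ 8 := by ring
        _ ≤ _ := le_pow q (by omega) (by norm_num)
    rw [one_mul]
    exact mul_ge_right (Nat.mul_pos (Nat.mul_pos (h1 1) (h1 5)) (h1 7)) (h3.trans (pow_pred hq 11))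
  · have h2 : dd .E6 q * mm .E6 q = q ^ 6 + q ^ 3 + 1 := by
      rw [mul_comm]; exact mm_mul_E6 q (by omega)
    have h3 : q ^ 6 + q ^ 3 + 1 ≤ q ^ 8 := by
      have h4 := le_pow q (a := 3) (b := 6) (by omega) (by norm_num)
      have h5 := hm 6
      have h6 : q ^ 8 = q ^ 6 * q ^ 2 := by rw [← pow_add]
      have h7 : 4 ≤ q ^ 2 := Nat.pow_le_pow_left hq 2
      have h8 : q ^ 6 * 4 ≤ q ^ 6 * q ^ 2 := Nat.mul_le_mul_left _ h7
      omega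
    have h4 : mm .E6 q ≤ q ^ 8 := by
      refine le_trans ?_ h3
      rw [← h2]
      exact Nat.le_mul_of_pos_left _ (Nat.gcd_pos_of_pos_left _ (by norm_num))
    have h5 : dd .E6 q * mm .E6 q ^ 2 ≤ q ^ 8 * q ^ 11 := by
      calc dd .E6 q * mm .E6 q ^ 2 = (dd .E6 q * mm .E6 q) * mm .E6 q := by ring
        _ ≤ q ^ 8 * q ^ 8 := Nat.mul_le_mul (h2 ▸ h3) h4
        _ ≤ _ := Nat.mul_le_mul_left _ (le_pow q (by omega) (by norm_num))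
    refine h5.trans ?_
    show _ ≤ (q ^ 2 - 1) * (q ^ 5 - 1) * (q ^ 6 - 1) * (q ^ 8 - 1) * (q ^ 9 - 1) * (q ^ 12 - 1)
    exact Nat.mul_le_mul (mul_ge_right (Nat.mul_pos (Nat.mul_pos (Nat.mul_pos (h1 1) (h1 4)) (h1 5)) (h1 7))
      (pow_pred hq 8)) (pow_pred hq 11)
  · have h2 : dd .TE6 q * mm .TE6 q = q ^ 6 - q ^ 3 + 1 := by
      rw [mul_comm]; exact mm_mul_TE6 q (by omega)
    have h3 : q ^ 6 - q ^ 3 + 1 ≤ q ^ 8 := by
      have h4 := le_pow q (a := 3) (b := 6) (by omega) (by norm_num)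
      have h5 := hm 3
      have h6 := le_pow q (a := 6) (b := 8) (by omega) (by norm_num)
      omega
    have h4 : mm .TE6 q ≤ q ^ 8 := by
      refine le_trans ?_ h3
      rw [← h2]
      exact Nat.le_mul_of_pos_left _ (Nat.gcd_pos_of_pos_left _ (by norm_num))
    have h5 : dd .TE6 q * mm .TE6 q ^ 2 ≤ q ^ 9 * q ^ 11 := by
      calc dd .TE6 q * mm .TE6 q ^ 2 = (dd .TE6 q * mm .TE6 q) * mm .TE6 q := by ring
        _ ≤ q ^ 8 * q ^ 8 := Nat.mul_le_mul (h2 ▸ h3) h4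
        _ ≤ _ := Nat.mul_le_mul (le_pow q (by omega) (by norm_num)) (le_pow q (by omega) (by norm_num))
    refine h5.trans ?_
    show _ ≤ (q ^ 2 - 1) * (q ^ 5 + 1) * (q ^ 6 - 1) * (q ^ 8 - 1) * (q ^ 9 + 1) * (q ^ 12 - 1)
    exact Nat.mul_le_mul (mul_ge_right (Nat.mul_pos (Nat.mul_pos (Nat.mul_pos (h1 1) (Nat.succ_pos _)) (h1 5)) (h1 7))
      (Nat.le_succ _)) (pow_pred hq 11)

theorem P_mul_mm {Y : Sh} (hY : Y3 Y) {p f M : ℕ} (h : Art.Real Y p f M) :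
    p ^ M.factorization p * mm Y (p ^ f) ^ 2 ≤ M := by
  have h0 := h.dd_ne
  apply Nat.le_of_mul_le_mul_left _ (Nat.pos_of_ne_zero h0)
  rw [h.eq]
  have h1 : p ^ M.factorization p = (p ^ f) ^ NN Y := h.P_self
  rw [h1]
  calc dd Y (p ^ f) * ((p ^ f) ^ NN Y * mm Y (p ^ f) ^ 2) = (p ^ f) ^ NN Y * (dd Y (p ^ f) * mm Y (p ^ f) ^ 2) := by
        ring
    _ ≤ _ := Nat.mul_le_mul_left _ (dd_mm hY h.q_ge)

theorem one_lt_mm {Y : Sh} (hY : Y3 Y) {q : ℕ} (hq : 2 ≤ q) : 1 < mm Y q := by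
  by_cases h2 : q = 2
  · subst h2
    rcases hY with rfl | rfl | rfl <;> decide
  rcases hY with rfl | hY
  · have h1 := F4_gt hq
    have h2 : 2 ^ 2 ≤ q ^ 2 := Nat.pow_le_pow_left hq 2
    have h3 : 3 ^ 2 ≤ (q ^ 2 - 1) ^ 2 := Nat.pow_le_pow_left (by omega) 2
    omega
  · have := E_three hY (q := q) (by omega)
    omega

end Cfsg.Agent.H992.TC
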