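import Mathlib
import Cfsg.Agent.H992.TC.Torus

/-!
# Prime powers dividing the orders of `F₄(q)`, `E₆(q)`, `²E₆(q)`

`no_pow`: no power `t^a` (`t ≠ p`) with `t^a ∣ M`, `mm ∣ t^a - 1` is larger than `q^8` (`F₄`), `q^11` (`E₆`, `²E₆`).
-/

set_option autoImplicit false

namespace Cfsg.Agent.H992.TC

open Cfsg.Agent.H902 Cfsg.Agent.H902.Art

/-- a prime power dividing a factored number -/
theorem pow_dvd_prod {t a : ℕ} (ht : t.Prime) (ha : a ≠ 0) : ∀ l : List (ℕ × ℕ), (∀ x ∈ l, x.1.Prime) →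
    (l.map Prod.fst).Nodup → t ^ a ∣ (l.map fun x => x.1 ^ x.2).prod → ∃ x ∈ l, x.1 = t ∧ a ≤ x.2
  | [], _, _, h => by
    rw [List.map_nil, List.prod_nil] at h
    exact absurd (Nat.dvd_one.1 ((dvd_pow_self t ha).trans h)) ht.one_lt.ne'
  | x :: l, hp, hn, h => by
    rw [List.map_cons, List.prod_cons] at h
    rw [List.map_cons, List.nodup_cons] at hn
    have hx := hp x (by simp)
    by_cases hxt : x.1 = t
    · refine ⟨x, by simp, hxt, ?_⟩
      have hc : (t ^ a).Coprime (l.map fun x => x.1 ^ x.2).prod := by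
        apply Nat.Coprime.pow_left
        rw [Nat.Prime.coprime_iff_not_dvd ht]
        intro hd
        obtain ⟨y, hy, hty⟩ := (Prime.dvd_prod_iff ht.prime).1 hd
        rw [List.mem_map] at hy
        obtain ⟨z, hz, rfl⟩ := hy
        have h1 := (Nat.prime_dvd_prime_iff_eq ht (hp z (by simp [hz]))).1 (ht.dvd_of_dvd_pow hty)
        apply hn.1
        rw [hxt, h1]
        exact List.mem_map_of_mem hz
      have h1 := hc.dvd_of_dvd_mul_right h
      rw [hxt] at h1
      exact (Nat.pow_dvd_pow_iff_le_right ht.one_lt).1 h1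
    · have hc : (t ^ a).Coprime (x.1 ^ x.2) :=
        Nat.Coprime.pow _ _ ((Nat.coprime_primes ht hx).2 (Ne.symm hxt))
      have h1 := hc.dvd_of_dvd_mul_left h
      obtain ⟨y, hy, h2⟩ := pow_dvd_prod ht ha l (fun z hz => hp z (by simp [hz])) hn.2 h1
      exact ⟨y, by simp [hy], h2⟩

/-- the lower bound for the indices of proper subgroups -/
def bb : Sh → ℕ → ℕ
  | .F4, q => q ^ 8
  | .E6, q => q ^ 11
  | .TE6, q => q ^ 11
  | _, _ => 1

theorem special_case {Y : Sh} {q : ℕ} (l : List (ℕ × ℕ)) (hl : (l.map fun x => x.1 ^ x.2).prod = num Y q)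
    (hp : ∀ x ∈ l, x.1.Prime) (hn : (l.map Prod.fst).Nodup)
    (hc : ∀ x ∈ l, ∀ a < x.2 + 1, bb Y q < x.1 ^ a → ¬ mm Y q ∣ x.1 ^ a - 1) {t a : ℕ} (ht : t.Prime)
    (hd : t ^ a ∣ num Y q) (hb : bb Y q < t ^ a) (hb1 : 1 ≤ bb Y q) (hmod : mm Y q ∣ t ^ a - 1) : False := by
  have ha : a ≠ 0 := by rintro rfl; rw [pow_zero] at hb; omega
  rw [← hl] at hd
  obtain ⟨x, hx, hxt, hxa⟩ := pow_dvd_prod ht ha l hp hn hd
  subst hxt
  exact hc x hx a (by omega) hb hmod

theorem no_pow {Y : Sh} (hY : Y3 Y) {p f M : ℕ} (h : Art.Real Y p f M) (hodd : Y = .F4 → p ≠ 2) {t a : ℕ}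
    (ht : t.Prime) (htp : t ≠ p) (hd : t ^ a ∣ M) (hb : bb Y (p ^ f) < t ^ a) (hmod : mm Y (p ^ f) ∣ t ^ a - 1) :
    False := by
  have hq := h.q_ge
  have hp := h.hp
  have hM := h.M_ne
  have htq : ¬ t ∣ p ^ f := h.not_dvd_q ht htp
  -- `t^a ∣ num`
  have hdn : t ^ a ∣ num Y (p ^ f) := by
    have h1 : t ^ a ∣ (p ^ f) ^ NN Y * num Y (p ^ f) := by
      rw [← h.eq]; exact Dvd.dvd.mul_left hd _
    have h2 : (t ^ a).Coprime ((p ^ f) ^ NN Y) := by
      rw [← pow_mul]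
      exact Nat.Coprime.pow _ _ ((Nat.coprime_primes ht hp).2 htp)
    exact h2.dvd_of_dvd_mul_left h1
  have hle : t ^ a ≤ P t (num Y (p ^ f)) := by
    apply Nat.pow_le_pow_right ht.pos
    exact (ht.pow_dvd_iff_le_factorization h.num_ne).1 hdn
  have hoddq : p ≠ 2 → Odd (p ^ f) := fun hp2 => (hp.odd_of_ne_two hp2).pow
  have heven : p = 2 → Even (p ^ f) := fun hp2 => by
    rw [hp2]; exact (Nat.even_pow.2 ⟨even_two, by have := h.hf; omega⟩)
  have ht2 : t = 2 → Odd (p ^ f) := fun ht2 => hoddq (by omega)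
  set q := p ^ f with hqdef
  clear_value q
  rcases hY with rfl | hE
  · -- F4
    have hqo := hoddq (hodd rfl)
    have hq3 : 3 ≤ q := by obtain ⟨k, hk⟩ := hqo; omega
    by_cases hq3' : q = 3
    · subst hq3'
      exact special_case (Y := .F4) (q := 3) [(2, 15), (5, 2), (7, 2), (13, 2), (41, 1), (73, 1)] (by decide +kernel)
        (by norm_num) (by decide) (by decide +kernel) ht hdn hb (by decide) hmod
    have hq5 : 5 ≤ q := by obtain ⟨k, hk⟩ := hqo; omega
    have hb' : q ^ 8 < t ^ a := hb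
    by_cases h2 : t = 2
    · subst h2
      have h1 := P_numF_two hq3 hqo
      have h3 : 12 * (q + 1) ^ 2 ≤ q ^ 4 := by
        obtain ⟨r, rfl⟩ := Nat.exists_eq_add_of_le' hq5
        nlinarith [Nat.zero_le (r ^ 4), Nat.zero_le (r ^ 3), Nat.zero_le (r ^ 2)]
      have h4 : (12 * (q + 1) ^ 2) ^ 2 ≤ (q ^ 4) ^ 2 := Nat.pow_le_pow_left h3 2
      have h5 : (q ^ 4) ^ 2 = q ^ 8 := by ring
      have h6 : (12 * (q + 1) ^ 2) ^ 2 = 144 * (q + 1) ^ 4 := by ring
      omega
    · have h8 : 25 * q ^ 6 ≤ q ^ 8 := by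
        have : q ^ 8 = q ^ 2 * q ^ 6 := by ring
        rw [this]; exact Nat.mul_le_mul_right _ (by nlinarith)
      rcases P_numF_le ht h2 hq htq with h1 | h1 | h1
      · have h3 : 12 * (q + 1) ^ 2 ≤ q ^ 4 := by
          obtain ⟨r, rfl⟩ := Nat.exists_eq_add_of_le' hq5
          nlinarith [Nat.zero_le (r ^ 4), Nat.zero_le (r ^ 3), Nat.zero_le (r ^ 2)]
        have h4 : (12 * (q + 1) ^ 2) ^ 2 ≤ (q ^ 4) ^ 2 := Nat.pow_le_pow_left h3 2
        have h5 : (q ^ 4) ^ 2 = q ^ 8 := by ring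
        have h6 : (12 * (q + 1) ^ 2) ^ 2 = 144 * (q + 1) ^ 4 := by ring
        omega
      · have h3 : 2 * (q ^ 2 + 1) ≤ q ^ 4 := by
          have h0 : 25 ≤ q ^ 2 := by nlinarith
          have : q ^ 4 = q ^ 2 * q ^ 2 := by ring
          rw [this]; nlinarith
        have h4 : (2 * (q ^ 2 + 1)) ^ 2 ≤ (q ^ 4) ^ 2 := Nat.pow_le_pow_left h3 2
        have h5 : (q ^ 4) ^ 2 = q ^ 8 := by ring
        have h6 : (2 * (q ^ 2 + 1)) ^ 2 = 4 * (q ^ 2 + 1) ^ 2 := by ring
        omega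
      · have h3 : q ^ 3 + 1 ≤ q ^ 4 := by
          have : q ^ 4 = q * q ^ 3 := by ring
          have h0 : 1 ≤ q ^ 3 := Nat.one_le_pow _ _ (by omega)
          rw [this]; nlinarith
        have h4 : (q ^ 3 + 1) ^ 2 ≤ (q ^ 4) ^ 2 := Nat.pow_le_pow_left h3 2
        have h5 : (q ^ 4) ^ 2 = q ^ 8 := by ring
        omega
  · -- E6, 2E6
    have hx : ∃ x : ℤ, (x = q ∨ x = -q) ∧ numX x = num Y q := by
      rcases hE with rfl | rfl
      · exact ⟨q, Or.inl rfl, numX_pos hq⟩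
      · exact ⟨-q, Or.inr rfl, numX_neg hq⟩
    obtain ⟨x, hx, hxn⟩ := hx
    have hbE : bb Y q = q ^ 11 := by rcases hE with rfl | rfl <;> rfl
    by_cases hq2 : q = 2
    · subst hq2
      rcases hE with rfl | rfl
      · exact special_case (Y := .E6) (q := 2) [(3, 6), (5, 2), (7, 3), (13, 1), (17, 1), (31, 1), (73, 1)]
          (by decide +kernel) (by norm_num) (by decide) (by decide +kernel) ht hdn hb (by decide) hmod
      · exact special_case (Y := .TE6) (q := 2) [(3, 10), (5, 2), (7, 2), (11, 1), (13, 1), (17, 1), (19, 1)]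
          (by decide +kernel) (by norm_num) (by decide) (by decide +kernel) ht hdn hb (by decide) hmod
    by_cases hq3 : q = 3
    · subst hq3
      rcases hE with rfl | rfl
      · exact special_case (Y := .E6) (q := 3)
          [(2, 17), (5, 2), (7, 2), (11, 2), (13, 3), (41, 1), (73, 1), (757, 1)]
          (by decide +kernel) (by norm_num) (by decide) (by decide +kernel) ht hdn hb (by decide) hmod
      · exact special_case (Y := .TE6) (q := 3)
          [(2, 19), (5, 2), (7, 3), (13, 2), (19, 1), (37, 1), (41, 1), (61, 1), (73, 1)]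
          (by decide +kernel) (by norm_num) (by decide) (by decide +kernel) ht hdn hb (by decide) hmod
    have hq4 : 4 ≤ q := by omega
    rw [hbE] at hb
    rw [← hxn] at hle
    -- `q ^ 11`
    have h11 : q ^ 11 = q ^ 2 * q ^ 9 := by ring
    have h9 : 16 * q ^ 9 ≤ q ^ 11 := by
      rw [h11]; exact Nat.mul_le_mul_right _ (by nlinarith)
    by_cases h2 : t = 2
    · have hqo := ht2 h2
      subst h2
      have hq5 : 5 ≤ q := by obtain ⟨k, hk⟩ := hqo; omega
      have h1 := P_numX_two (by omega) hqo hx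
      -- `5 (q+1) ≤ 6 q`
      have h3 : (5 * (q + 1)) ^ 6 ≤ (6 * q) ^ 6 := Nat.pow_le_pow_left (by omega) 6
      rw [mul_pow, mul_pow] at h3
      norm_num at h3
      have h4 : 3125 * q ^ 6 ≤ q ^ 11 := by
        have : q ^ 11 = q ^ 5 * q ^ 6 := by ring
        rw [this]
        apply Nat.mul_le_mul_right
        have : 5 ^ 5 ≤ q ^ 5 := Nat.pow_le_pow_left hq5 5
        norm_num at this; exact this
      omega
    · rcases P_numX_le ht h2 hq htq hx with h1 | h1 | h1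
      · have h3 : (4 * (q + 1)) ^ 6 ≤ (5 * q) ^ 6 := Nat.pow_le_pow_left (by omega) 6
        rw [mul_pow, mul_pow] at h3
        norm_num at h3
        have h4 : 1024 * q ^ 6 ≤ q ^ 11 := by
          have : q ^ 11 = q ^ 5 * q ^ 6 := by ring
          rw [this]
          apply Nat.mul_le_mul_right
          have : 4 ^ 5 ≤ q ^ 5 := Nat.pow_le_pow_left hq4 5
          norm_num at this; exact this
        omega
      · have h3 : q ^ 3 + 1 ≤ 2 * q ^ 3 := by
          have : 1 ≤ q ^ 3 := Nat.one_le_pow _ _ (by omega)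
          omega
        have h4 : (q ^ 3 + 1) ^ 3 ≤ (2 * q ^ 3) ^ 3 := Nat.pow_le_pow_left h3 3
        have h5 : (2 * q ^ 3) ^ 3 = 8 * q ^ 9 := by ring
        rw [h5] at h4
        -- 24 q^9 ≤ q^11 fails for q = 4: use q^3 + 1 ≤ (65/64) q^3
        have h6 : 64 * (q ^ 3 + 1) ≤ 65 * q ^ 3 := by
          have : 4 ^ 3 ≤ q ^ 3 := Nat.pow_le_pow_left hq4 3
          norm_num at this
          omega
        have h7 : (64 * (q ^ 3 + 1)) ^ 3 ≤ (65 * q ^ 3) ^ 3 := Nat.pow_le_pow_left h6 3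
        have h8 : (65 * q ^ 3) ^ 3 = 274625 * q ^ 9 := by ring
        have h10 : (64 * (q ^ 3 + 1)) ^ 3 = 262144 * (q ^ 3 + 1) ^ 3 := by ring
        omega
      · have : 1 ≤ q ^ 9 := Nat.one_le_pow _ _ (by omega)
        omega

end Cfsg.Agent.H992.TC
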