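import Mathlib
import Cfsg.Agent.H992.TC.Ident
import Cfsg.Agent.H992.TC.Recog
import Cfsg.Agent.H992.TC.Size
import Cfsg.Agent.H992.TC.VArith
import Cfsg.Agent.H992.TC.FromCS
import Cfsg.Agent.H992.TC.OutC
import Cfsg.Agent.H364.OutLie

/-!
# From the class sizes to the isomorphism
-/

set_option autoImplicit false

namespace Cfsg.Agent.H992.TC

open Subgroup Cfsg Cfsg.Agent.H902 Cfsg.Agent.H902.Art Cfsg.Agent.OrdDiv Cfsg.Agent.H364 Cfsg.Agent.H129.CycT

universe u v

theorem center_bot {L : Type u} [Group L] [IsSimpleGroup L] (hna : ¬ ∀ a b : L, a * b = b * a) : center L = ⊥ := by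
  rcases (inferInstance : (center L).Normal).eq_bot_or_eq_top with h | h
  · exact h
  · exfalso
    apply hna
    intro a b
    have hb : b ∈ center L := h ▸ mem_top b
    exact mem_center_iff.1 hb a

theorem final {Y : Sh} (hY : Y3 Y) {p f M : ℕ} (h : Art.Real Y p f M) (hodd : Y = .F4 → p ≠ 2)
    {L : Type u} [Group L] [Finite L] [IsSimpleGroup L] (hL : OrdDiv.Real (nm Y (p ^ f)) L) (hLc : Nat.card L = M)
    (hcyc : CycExact L (mm Y (p ^ f))) (hb : ∀ H : Subgroup L, H ≠ ⊤ → bb Y (p ^ f) ≤ H.index)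
    {G : Type v} [Group G] [Finite G] (hZ : center G = ⊥)
    (hcs : Set.range (fun g : G => (centralizer ({g} : Set G)).index) =
      Set.range (fun g : L => (centralizer ({g} : Set L)).index)) : Nonempty (G ≃* L) := by
  have hq2 := h.q_ge
  have hnaL := not_comm hY h hLc
  have hm := one_lt_mm hY hq2
  have hm6 := mm_coprime_six hY (q := p ^ f) (by omega)
  have hm2 : ¬ 2 ∣ mm Y (p ^ f) := by
    intro h2
    have h3 : 2 ∣ Nat.gcd (mm Y (p ^ f)) 6 := Nat.dvd_gcd h2 (by norm_num)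
    rw [hm6] at h3
    exact absurd h3 (by norm_num)
  have hpM : p ∣ M := by
    have h1 : P p M ∣ M := P_dvd p M
    rw [h.P_self] at h1
    refine (dvd_pow (dvd_pow_self p (by have := h.hf; omega)) ?_).trans h1
    rcases hY with rfl | rfl | rfl <;> decide
  obtain ⟨hcard, hG, K, hK, hKp, hKm, N, hN, hNs, hna, hC, -, hno⟩ :=
    struct_of_cs (center_bot hnaL) hZ hm hm2 (tt_of_cycExact hm hcyc) h.hp (by rw [hLc]; exact hpM)
      (mm_not_dvd hY h) hb (by rw [hLc]; exact P_mul_mm hY h)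
      (by
        intro t a ht htp hd hlt hmod
        rw [hLc] at hd
        exact no_pow hY h hodd ht htp hd hlt hmod) hcs
  have := Fact.mk h.hp
  obtain ⟨a, ha⟩ := IsPGroup.iff_card.1 hKp
  rw [ha] at hKm
  have hEa : EE Y * f ∣ a := exp_dvd hY h hKm
  have e : Nat.card (G ⧸ K) * p ^ a = M := by
    rw [← ha, ← Subgroup.card_eq_card_quotient_mul_card_subgroup, hcard, hLc]
  have hNM : Nat.card N = M := by
    refine ident_aux N hna hC hY h e hno ?_
    intro g X k hq4 hr hg hc hcd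
    obtain ⟨c0, h1, h2, h3⟩ := Cfsg.Agent.H364.OutLie.card_out hna hg hr hc
    refine same_out (c := N.index) (a := a) (c0 := c0) hc hY h hq4 ?_ (h1 ▸ hcd) h2 h3 hEa
    rw [card_mul_index, e]
  have hM0 := h.M_ne
  have e1 : Nat.card N * (N.index * p ^ a) = Nat.card N * 1 := by
    rw [← mul_assoc, card_mul_index, e, mul_one, hNM]
  have e2 : N.index * p ^ a = 1 := Nat.eq_of_mul_eq_mul_left Nat.card_pos e1
  have e3 := Nat.eq_one_of_mul_eq_one_right e2
  have e4 := Nat.eq_one_of_mul_eq_one_left e2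
  have hKb : K = ⊥ := Subgroup.card_eq_one.1 (ha.trans e4)
  have hNt : N = ⊤ := Subgroup.index_eq_one.1 e3
  subst hKb
  have eG : G ≃* N := (QuotientGroup.quotientBot.symm).trans
    (Subgroup.topEquiv.symm.trans (MulEquiv.subgroupCongr hNt.symm))
  have : IsSimpleGroup G := eG.isSimpleGroup
  exact iso_of_card hY h (hcard.trans hLc) hL

end Cfsg.Agent.H992.TC
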