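import Mathlib
import Cfsg.Agent.H992.TC.Final
import Cfsg.Agent.H129.CycT
import Cfsg.Agent.H129.CycRow
import Cfsg.Agent.H934.HeisF4G2
import Cfsg.Agent.H934.HeisE6
import Cfsg.Agent.H934.HeisTwE6
import Cfsg.Agent.S1054
import Cfsg.Agent.S1070
import Cfsg.Agent.S1062
import Cfsg.Agent.S1063

/-!
# The three families
-/

set_option autoImplicit false

namespace Cfsg.Agent.H992.TC

open Subgroup Cfsg Cfsg.Lie Cfsg.Agent.H902 Cfsg.Agent.H902.Art Cfsg.Agent.OrdDiv Cfsg.Agent.H364 Cfsg.Agent.H129.CycT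

universe u v

theorem cs_congr {L : Type u} {L' : Type v} [Group L] [Group L'] (e : L ≃* L') :
    Set.range (fun g : L => (centralizer ({g} : Set L)).index) =
      Set.range (fun g : L' => (centralizer ({g} : Set L')).index) := by
  have h1 : ∀ g : L, (centralizer ({g} : Set L)).index = (centralizer ({e g} : Set L')).index := by
    intro g
    have h2 : (centralizer ({e g} : Set L')).comap e.toMonoidHom = centralizer ({g} : Set L) := by
      ext x
      rw [mem_comap, mem_centralizer_singleton_iff, mem_centralizer_singleton_iff]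
      show e x * e g = e g * e x ↔ _
      rw [← map_mul, ← map_mul, e.injective.eq_iff]
    rw [← h2]
    exact index_comap_of_surjective _ e.surjective
  ext n
  constructor
  · rintro ⟨g, rfl⟩
    exact ⟨e g, (h1 g).symm⟩
  · rintro ⟨g, rfl⟩
    refine ⟨e.symm g, ?_⟩
    show (centralizer ({e.symm g} : Set L)).index = _
    rw [h1, e.apply_symm_apply]

theorem le_of_sq {a b k : ℕ} (h : a ^ (2 * k) ≤ b ^ 2) : a ^ k ≤ b := by
  rw [mul_comm, pow_mul] at h
  exact (Nat.pow_le_pow_iff_left (by norm_num)).1 h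

theorem f4_aux {F : Type} [Field F] [Fintype F] {p f : ℕ} (hp : p.Prime) (hf : 1 ≤ f) (hF : Fintype.card F = p ^ f)
    (hodd : p ≠ 2) {M : ℕ} (hMc : Nat.card (chevF4.group F) = M) (h : Art.Real .F4 p f M)
    {L : Type u} [Group L] (e : L ≃* chevF4.group F)
    {G : Type v} [Group G] [Finite G] (hZ : center G = ⊥)
    (hcs : Set.range (fun g : G => (centralizer ({g} : Set G)).index) =
      Set.range (fun g : L => (centralizer ({g} : Set L)).index)) : Nonempty (G ≃* L) := by
  have : Finite (GL chevF4.Idx F) := inferInstance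
  have hs : IsSimpleGroup (chevF4.group F) := (S1054.result (F := F) chevF4 (by simp)).1
  have h2 : (2 : F) ≠ 0 := by
    intro h0
    have h1 : (2 : ℕ) ∣ p ^ f := by
      rw [← hF]
      have : CharP F 2 := CharTwo.of_one_ne_zero_of_two_eq_zero one_ne_zero h0
      obtain ⟨n, hn, hc⟩ := FiniteField.card F 2
      rw [hc]
      exact dvd_pow_self _ n.pos.ne'
    exact hodd ((Nat.prime_dvd_prime_iff_eq Nat.prime_two hp).1 (Nat.prime_two.dvd_of_dvd_pow h1)).symm
  have hcyc : CycExact (chevF4.group F) (mm .F4 (p ^ f)) := by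
    refine exact_F4_12 hF ?_
    show ((((p ^ f) ^ 4 - (p ^ f) ^ 2 + 1 : ℕ)) : ℤ) = _
    rw [Nat.cast_add, Nat.cast_sub (le_pow _ (Nat.one_le_pow _ _ hp.pos) (by norm_num))]
    push_cast; ring
  have hb : ∀ H : Subgroup (chevF4.group F), H ≠ ⊤ → bb .F4 (p ^ f) ≤ H.index := by
    intro H hH
    have h1 := H934.HeisF4G2.sq_le_F4 h2 hs H hH
    rw [hF] at h1
    exact le_of_sq (k := 8) h1
  obtain ⟨e'⟩ := final (Or.inl rfl) h (fun _ => hodd) (L := chevF4.group F) ⟨F, inferInstance, inferInstance, hF, ⟨MulEquiv.refl _⟩⟩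
    hMc hcyc hb hZ (hcs.trans (cs_congr e))
  exact ⟨e'.trans e.symm⟩

theorem e6_aux {F : Type} [Field F] [Fintype F] {p f : ℕ} (hp : p.Prime) (hf : 1 ≤ f) (hF : Fintype.card F = p ^ f)
    {M : ℕ} (hMc : Nat.card (chevE6.group F) = M) (h : Art.Real .E6 p f M)
    {L : Type u} [Group L] (e : L ≃* chevE6.group F)
    {G : Type v} [Group G] [Finite G] (hZ : center G = ⊥)
    (hcs : Set.range (fun g : G => (centralizer ({g} : Set G)).index) =
      Set.range (fun g : L => (centralizer ({g} : Set L)).index)) : Nonempty (G ≃* L) := by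
  have : Finite (GL chevE6.Idx F) := inferInstance
  have hs : IsSimpleGroup (chevE6.group F) := (S1054.result (F := F) chevE6 (by simp)).1
  have hcyc : CycExact (chevE6.group F) (mm .E6 (p ^ f)) := by
    refine exact_E6_9 hF (N := (p ^ f) ^ 6 + (p ^ f) ^ 3 + 1) ?_
    push_cast; ring
  have hb : ∀ H : Subgroup (chevE6.group F), H ≠ ⊤ → bb .E6 (p ^ f) ≤ H.index := by
    intro H hH
    have h1 := H934.HeisE6.two_mul_le hs H hH
    rw [hF] at h1
    show (p ^ f) ^ 11 ≤ _
    omega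
  obtain ⟨e'⟩ := final (Or.inr (Or.inl rfl)) h (fun h => by cases h) (L := chevE6.group F)
    ⟨F, inferInstance, inferInstance, hF, ⟨MulEquiv.refl _⟩⟩ hMc hcyc hb hZ (hcs.trans (cs_congr e))
  exact ⟨e'.trans e.symm⟩

theorem te6_aux {F : Type} [Field F] [Fintype F] {p f : ℕ} (hp : p.Prime) (hf : 1 ≤ f)
    (hF : Fintype.card F = (p ^ f) ^ 2)
    {M : ℕ} (hMc : Nat.card (twistedE6 F (p ^ f)) = M) (h : Art.Real .TE6 p f M)
    {L : Type u} [Group L] (e : L ≃* twistedE6 F (p ^ f))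
    {G : Type v} [Group G] [Finite G] (hZ : center G = ⊥)
    (hcs : Set.range (fun g : G => (centralizer ({g} : Set G)).index) =
      Set.range (fun g : L => (centralizer ({g} : Set L)).index)) : Nonempty (G ≃* L) := by
  have : Finite (GL chevE6.Idx F) := inferInstance
  have hqp : IsPrimePow (p ^ f) := hp.isPrimePow.pow (by omega)
  have hs : IsSimpleGroup (twistedE6 F (p ^ f)) := (S1070.result hqp hF).1
  have hcyc : CycExact (twistedE6 F (p ^ f)) (mm .TE6 (p ^ f)) := by
    refine exact_tE6_18 hqp hF (N := (p ^ f) ^ 6 - (p ^ f) ^ 3 + 1) ?_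
    rw [Nat.cast_add, Nat.cast_sub (le_pow _ (Nat.one_le_pow _ _ hp.pos) (by norm_num))]
    push_cast; ring
  have hb : ∀ H : Subgroup (twistedE6 F (p ^ f)), H ≠ ⊤ → bb .TE6 (p ^ f) ≤ H.index := by
    intro H hH
    have h1 := H934.HeisTwE6.bound_2E6 hqp hF hs H hH
    exact le_of_sq (k := 11) h1
  obtain ⟨e'⟩ := final (Or.inr (Or.inr rfl)) h (fun h => by cases h) (L := twistedE6 F (p ^ f))
    ⟨F, inferInstance, inferInstance, hF, ⟨MulEquiv.refl _⟩⟩ hMc hcyc hb hZ (hcs.trans (cs_congr e))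
  exact ⟨e'.trans e.symm⟩


/-! ### the final form -/

/-- **Thompson's conjecture for `F₄(q)`, `q` odd.** -/
theorem f4_odd {L : Type u} [Group L] (hL : ∃ (F : Type) (_ : Field F) (_ : Fintype F), Odd (Fintype.card F) ∧
      Nonempty (L ≃* chevF4.group F)) {G : Type v} [Group G] [Finite G] (hZ : center G = ⊥)
    (hcs : Set.range (fun g : G => (centralizer ({g} : Set G)).index) =
      Set.range (fun g : L => (centralizer ({g} : Set L)).index)) : Nonempty (G ≃* L) := by
  obtain ⟨F, _, _, hodd, ⟨e⟩⟩ := hL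
  obtain ⟨p, f, hp, hf, hF⟩ := Names.exists_pp F
  refine f4_aux hp hf hF ?_ rfl ⟨hp, hf, trivial, ?_⟩ e hZ hcs
  · rintro rfl
    rw [hF] at hodd
    exact (Nat.not_even_iff_odd.2 hodd) ((Nat.even_pow.2 ⟨even_two, by omega⟩))
  · rw [S1062.result (F := F) hF]
    change 1 * _ = (p ^ f) ^ 24 * (_ * _ * _ * _)
    ring

/-- **Thompson's conjecture for `E₆(q)`.** -/
theorem e6 {L : Type u} [Group L] (hL : IsoChevE6 L) {G : Type v} [Group G] [Finite G] (hZ : center G = ⊥)
    (hcs : Set.range (fun g : G => (centralizer ({g} : Set G)).index) =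
      Set.range (fun g : L => (centralizer ({g} : Set L)).index)) : Nonempty (G ≃* L) := by
  obtain ⟨F, _, _, ⟨e⟩⟩ := hL
  obtain ⟨p, f, hp, hf, hF⟩ := Names.exists_pp F
  refine e6_aux hp hf hF rfl ⟨hp, hf, trivial, ?_⟩ e hZ hcs
  change Nat.gcd 3 (p ^ f - 1) * _ = (p ^ f) ^ 36 * (_ * _ * _ * _ * _ * _)
  rw [S1063.result (F := F) hF]
  ring

/-- **Thompson's conjecture for `²E₆(q)`.** -/
theorem te6 {L : Type u} [Group L] (hL : Iso2E6 L) {G : Type v} [Group G] [Finite G] (hZ : center G = ⊥)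
    (hcs : Set.range (fun g : G => (centralizer ({g} : Set G)).index) =
      Set.range (fun g : L => (centralizer ({g} : Set L)).index)) : Nonempty (G ≃* L) := by
  obtain ⟨F, _, _, q, hq, hF, ⟨e⟩⟩ := hL
  obtain ⟨p, f, hp, hf, rfl⟩ := (isPrimePow_nat_iff _).1 hq
  refine te6_aux hp hf hF rfl ⟨hp, hf, trivial, ?_⟩ e hZ hcs
  change Nat.gcd 3 (p ^ f + 1) * _ = (p ^ f) ^ 36 * (_ * _ * _ * _ * _ * _)
  rw [table.{0}.te6 F _ hq hF]
  ring

end Cfsg.Agent.H992.TC
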