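import Mathlib
import Cfsg.Agent.H992.TC.Core2
import Cfsg.Agent.H992.TC.Ident2
import Cfsg.Agent.H992.TC.Gen
import Cfsg.Agent.H992.TC.Exp
import Cfsg.Agent.H992.TC.Inst
import Cfsg.Agent.H364.OutLie
import Cfsg.Agent.H962.SameOut

/-!
# Common tools for the families
-/

set_option autoImplicit false

namespace Cfsg.Agent.H992.TC

open Subgroup Cfsg Cfsg.Agent.H902 Cfsg.Agent.H902.Art Cfsg.Agent.OrdDiv Cfsg.Agent.H364

universe u v

variable {Y : Sh} {p f M : ℕ}

theorem coprime_six_of {m : ℕ} (h2 : ¬ 2 ∣ m) (h3 : ¬ 3 ∣ m) : m.Coprime 6 := by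
  have e2 : m.Coprime 2 := ((Nat.Prime.coprime_iff_not_dvd Nat.prime_two).2 h2).symm
  have e3 : m.Coprime 3 := ((Nat.Prime.coprime_iff_not_dvd Nat.prime_three).2 h3).symm
  exact Nat.Coprime.mul_right e2 e3

/-- primitive prime divisors of `q ^ E - 1` with respect to `p` -/
theorem ppd_pow {E : ℕ} (hp : p.Prime) (hf : 1 ≤ f) (hE : 3 ≤ E) (h26 : ¬ (p = 2 ∧ E * f = 6)) :
    ∃ r, r.Prime ∧ E * f + 1 ≤ r ∧ (∀ j, r ∣ p ^ j - 1 ↔ E * f ∣ j) ∧
      (∀ k, 0 < k → k < E → ¬ r ∣ (p ^ f) ^ k - 1) ∧ r ∣ (p ^ f) ^ E - 1 := by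
  have hEf : 3 ≤ E * f := by nlinarith
  obtain ⟨r, hr, h1, h2, h4⟩ := Cfsg.Agent.Lib.Zsigmondy.exists_primitive hp.two_le (n := E * f) (by omega)
    (by omega) (by rintro ⟨h5, h6⟩; exact h26 ⟨h5, h6⟩)
  have h5 : E * f ≤ r - 1 := Nat.le_of_dvd (by have := hr.two_le; omega) h2
  refine ⟨r, hr, by omega, h1, ?_, ?_⟩
  · intro k hk0 hk hd
    rw [← pow_mul, h1, mul_comm f k] at hd
    have := Nat.dvd_of_mul_dvd_mul_right hf hd
    exact absurd (Nat.le_of_dvd hk0 this) (by omega)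
  · rw [← pow_mul, h1, mul_comm f]

/-- `a` is bounded by the exponent of `p` -/
theorem a_le (h : Art.Real Y p f M) {x a : ℕ} (e : x * p ^ a = M) : a ≤ f * NN Y := by
  have hM := h.M_ne
  have hp := h.hp
  have h1 : a ≤ M.factorization p := (hp.pow_dvd_iff_le_factorization hM).1 (e ▸ Dvd.intro_left _ rfl)
  have h2 : p ^ M.factorization p = (p ^ f) ^ NN Y := h.P_self
  rw [← pow_mul] at h2
  have h3 := Nat.pow_right_injective hp.two_le h2
  omega

/-- with a full normal subgroup `num` is left -/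
theorem full_eq (h : Art.Real Y p f M) {x a : ℕ} (e : x * p ^ a = M) (ha : a = f * NN Y) :
    dd Y (p ^ f) * x = num Y (p ^ f) ∧ ¬ p ∣ x := by
  have hp := h.hp
  have hM := h.M_ne
  constructor
  · have h1 := h.eq
    rw [← e, ha, pow_mul] at h1
    have h2 : 0 < (p ^ f) ^ NN Y := pow_pos (pow_pos hp.pos _) _
    apply Nat.eq_of_mul_eq_mul_right h2
    rw [mul_assoc, h1]; ring
  · intro hd
    obtain ⟨y, rfl⟩ := hd
    have h4 : (y * p ^ (a + 1)) = M := by rw [← e, pow_succ]; ring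
    have := a_le h h4
    omega

/-- the same characteristic is excluded by a full normal subgroup -/
theorem same_full (h : Art.Real Y p f M) {X : Sh} {k N c a : ℕ} (hX : Art.Real X p k N)
    (e : N * c * p ^ a = M) (ha : a = f * NN Y) : False := by
  refine (full_eq h e ha).2 ?_
  have h1 : P p N ∣ N := P_dvd p N
  rw [hX.P_self] at h1
  exact ((dvd_pow (dvd_pow_self p (by have := hX.hf; omega)) (by have := NN_pos hX; omega)).trans h1).mul_right c

/-- the same characteristic without normal `p`-subgroup -/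
theorem same_zero {G : Type u} [Group G] [Finite G] (N : Subgroup G) [IsSimpleGroup N]
    (hna : ¬ ∀ a b : N, a * b = b * a) (h : Art.Real Y p f M) (hE : H962.IdSame.IsExc Y)
    {g : Grp} {X : Sh} {k : ℕ} (hr : OrdDiv.Real g N) (hg : Names.IsLie g X p k)
    (hc : Art.Real X p k (Nat.card N)) (hcd : N.index ∣ Nat.card (Out N)) (e : Nat.card N * N.index = M) :
    Nat.card N = M := by
  obtain ⟨c0, h1, h2', h3⟩ := Cfsg.Agent.H364.OutLie.card_out hna hg hr hc
  obtain ⟨rfl, rfl⟩ := H962.SameOut.same_out0 hc h hE e ⟨c0, h1 ▸ hcd, h2', h3⟩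
  have h4 := hc.eq
  have h5 := h.eq
  exact Nat.eq_of_mul_eq_mul_left (Nat.pos_of_ne_zero h.dd_ne) (h4.trans h5.symm)

/-- the index is small -/
theorem pow_index {Γ : Type u} [Group Γ] [Finite Γ] (N : Subgroup Γ) [hN : N.Normal] [hNs : IsSimpleGroup N]
    (hna : ¬ ∀ a b : N, a * b = b * a) (hC : centralizer (N : Set Γ) = ⊥) : 2 ^ N.index ≤ Nat.card N ^ 3 := by
  have hk : IsKnownSimple' N := S0000.result
  have hna' : ¬ IsMulCommutative N := fun hc => hna fun x y => hc.is_comm.comm x y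
  have hcd : N.index ∣ Nat.card (Out N) := H816.OutEmb.index_dvd N (by rw [hC]; exact bot_le)
  have h1 := H934.OutAll.bd hna' hk ⊥ (bot_ne_top)
  rw [index_bot] at h1
  exact (Nat.pow_le_pow_right (by norm_num) (Nat.le_of_dvd Nat.card_pos hcd)).trans h1

/-- the characteristic is odd if the normal subgroup is full -/
theorem odd_of_full (h : Art.Real Y p f M) {S : Type u} [Group S] [Finite S] [IsSimpleGroup S]
    (hna : ¬ ∀ a b : S, a * b = b * a) {c a : ℕ} (e : Nat.card S * c * p ^ a = M) (ha : a = f * NN Y) : p ≠ 2 := by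
  rintro rfl
  exact (full_eq h e ha).2 ((two_dvd_card hna).mul_right c)

/-- `12 f ∣ a` -/
theorem ex12 (hp : p.Prime) (hf : 1 ≤ f) {a : ℕ} (hd : mm .F4 (p ^ f) ∣ p ^ a - 1) : 12 * f ∣ a := by
  have hq : 1 ≤ p ^ f := Nat.one_le_pow _ _ hp.pos
  obtain ⟨r, hr, -, h1, h2, h3⟩ := ppd_pow (E := 12) hp hf (by norm_num) (by omega)
  refine (h1 a).1 (dvd_trans ?_ hd)
  rw [twelve_sub _ hq] at h3
  rcases hr.dvd_mul.1 h3 with h6 | h6
  · rcases hr.dvd_mul.1 h6 with h7 | h7
    · exact absurd h7 (h2 6 (by norm_num) (by norm_num))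
    · exfalso
      apply h2 4 (by norm_num) (by norm_num)
      have h8 := sq_mul_add ((p ^ f) ^ 2) (Nat.one_le_pow _ _ hq)
      rw [← pow_mul] at h8
      rw [show 4 = 2 * 2 from rfl, h8]
      exact h7.mul_left _
  · exact h6

end Cfsg.Agent.H992.TC
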