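import Mathlib
import Cfsg.Agent.H992.TC.Small

/-!
# The check for small fields, for a list of exponents
-/

set_option autoImplicit false

namespace Cfsg.Agent.H992.TC

open Cfsg Cfsg.Agent.H902 Cfsg.Agent.H902.Art Cfsg.Agent.OrdDiv

universe u

/-- the check in the kernel -/
def chk2 (l : List (ℕ × ℕ)) (M p : ℕ) (al : List ℕ) : Bool :=
  (cands l M).all fun g => Nat.beq (ordN g) M ||
    al.all fun a => !(Nat.beq (M % (ordN g * p ^ a)) 0) ||
      Nat.blt (3 * (Nat.log2 (ordN g) + 1)) (M / (ordN g * p ^ a))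

theorem chk2_spec {l : List (ℕ × ℕ)} {M p : ℕ} {al : List ℕ} (h : chk2 l M p al = true) :
    ∀ g ∈ cands l M, ordN g = M ∨ ∀ a ∈ al, ordN g * p ^ a ∣ M →
      3 * (Nat.log2 (ordN g) + 1) < M / (ordN g * p ^ a) := by
  intro g hg
  have h1 := List.all_eq_true.1 h g hg
  rw [Bool.or_eq_true] at h1
  rcases h1 with h1 | h1
  · exact Or.inl (Nat.eq_of_beq_eq_true h1)
  · right
    intro a ha hd
    have h2 := List.all_eq_true.1 h1 a ha
    rw [Bool.or_eq_true] at h2
    rcases h2 with h2 | h2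
    · exfalso
      rw [Nat.mod_eq_zero_of_dvd hd] at h2
      exact absurd h2 (by decide)
    · rwa [Nat.blt_eq] at h2

theorem small_aux2 (T : OrderTable.{u}) {S : Type u} [Group S] (hk : IsKnownSimple' S)
    (hna : ¬ ∀ a b : S, a * b = b * a) {l : List (ℕ × ℕ)} {M p : ℕ} {al : List ℕ}
    (hchk : valid l M = true ∧ chk2 l M p al = true) {c a : ℕ} (ha : a ∈ al) (hc : 2 ^ c ≤ Nat.card S ^ 3)
    (e : Nat.card S * c * p ^ a = M) (hM : 0 < M) :
    Nat.card S = M := by
  obtain ⟨g, hg, hr, hcard⟩ := exists_good T hk hna hchk.1 (show Nat.card S ∣ M by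
    rw [← e, mul_assoc]; exact Dvd.intro _ rfl)
  rcases chk2_spec hchk.2 g hg with h | h
  · rw [hcard, h]
  · exfalso
    have h1 : (ordN g * p ^ a) * c = M := by rw [← hcard, ← e]; ring
    have h2 := h a ha ⟨c, h1.symm⟩
    have h3 : 0 < ordN g * p ^ a := by
      rw [Nat.pos_iff_ne_zero]; intro h0; rw [h0, zero_mul] at h1; omega
    have h4 : M / (ordN g * p ^ a) = c := Nat.div_eq_of_eq_mul_right h3 h1.symm
    have h5 : 2 ^ c ≤ 2 ^ (3 * (Nat.log2 (ordN g) + 1)) := by
      rw [hcard] at hc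
      refine hc.trans ?_
      rw [mul_comm 3, pow_mul]
      refine Nat.pow_le_pow_left (le_of_lt ?_) 3
      exact Nat.lt_log2_self
    have h6 := (Nat.pow_le_pow_iff_right (by norm_num : 1 < 2)).1 h5
    omega

end Cfsg.Agent.H992.TC
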