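import Mathlib
import Cfsg.Agent.H992.TC.Small2

/-!
# The small fields for `G₂(q)` and `³D₄(q)`
-/

set_option autoImplicit false

namespace Cfsg.Agent.H992.TC

open Cfsg Cfsg.Agent.H902 Cfsg.Agent.H902.Art Cfsg.Agent.OrdDiv

universe u

/-- the odd prime powers between 3 and 126, with the factorisations of `|G₂(q)|` -/
def tabG2 : List (ℕ × ℕ × List (ℕ × ℕ)) := [
  (3, 1, [(2, 6), (3, 6), (7, 1), (13, 1)]),
  (5, 1, [(2, 6), (3, 3), (5, 6), (7, 1), (31, 1)]),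
  (7, 1, [(2, 8), (3, 3), (7, 6), (19, 1), (43, 1)]),
  (3, 2, [(2, 8), (3, 12), (5, 2), (7, 1), (13, 1), (73, 1)]),
  (11, 1, [(2, 6), (3, 3), (5, 2), (7, 1), (11, 6), (19, 1), (37, 1)]),
  (13, 1, [(2, 6), (3, 3), (7, 2), (13, 6), (61, 1), (157, 1)]),
  (17, 1, [(2, 10), (3, 5), (7, 1), (13, 1), (17, 6), (307, 1)]),
  (19, 1, [(2, 6), (3, 5), (5, 2), (7, 3), (19, 6), (127, 1)]),
  (23, 1, [(2, 8), (3, 3), (7, 1), (11, 2), (13, 2), (23, 6), (79, 1)]),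
  (5, 2, [(2, 8), (3, 3), (5, 12), (7, 1), (13, 2), (31, 1), (601, 1)]),
  (3, 3, [(2, 6), (3, 18), (7, 2), (13, 2), (19, 1), (37, 1), (757, 1)]),
  (29, 1, [(2, 6), (3, 3), (5, 2), (7, 2), (13, 1), (29, 6), (67, 1), (271, 1)]),
  (31, 1, [(2, 12), (3, 3), (5, 2), (7, 2), (19, 1), (31, 6), (331, 1)]),
  (37, 1, [(2, 6), (3, 5), (7, 1), (19, 2), (31, 1), (37, 6), (43, 1), (67, 1)]),
  (41, 1, [(2, 8), (3, 3), (5, 2), (7, 2), (41, 6), (547, 1), (1723, 1)]),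
  (43, 1, [(2, 6), (3, 3), (7, 2), (11, 2), (13, 1), (43, 6), (139, 1), (631, 1)]),
  (47, 1, [(2, 10), (3, 3), (7, 1), (23, 2), (37, 1), (47, 6), (61, 1), (103, 1)]),
  (7, 2, [(2, 10), (3, 3), (5, 4), (7, 12), (13, 1), (19, 1), (43, 1), (181, 1)]),
  (53, 1, [(2, 6), (3, 7), (7, 1), (13, 2), (53, 6), (409, 1), (919, 1)]),
  (59, 1, [(2, 6), (3, 3), (5, 2), (7, 1), (29, 2), (59, 6), (163, 1), (3541, 1)]),
  (61, 1, [(2, 6), (3, 3), (5, 2), (7, 1), (13, 1), (31, 2), (61, 6), (97, 1), (523, 1)]),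
  (67, 1, [(2, 6), (3, 3), (7, 2), (11, 2), (17, 2), (31, 1), (67, 6), (4423, 1)]),
  (71, 1, [(2, 8), (3, 5), (5, 2), (7, 2), (71, 6), (1657, 1), (5113, 1)]),
  (73, 1, [(2, 8), (3, 5), (7, 1), (37, 2), (73, 6), (751, 1), (1801, 1)]),
  (79, 1, [(2, 10), (3, 3), (5, 2), (7, 2), (13, 2), (43, 1), (79, 6), (6163, 1)]),
  (3, 4, [(2, 10), (3, 24), (5, 2), (7, 1), (13, 1), (41, 2), (73, 1), (6481, 1)]),
  (83, 1, [(2, 6), (3, 3), (7, 2), (19, 1), (41, 2), (83, 6), (367, 1), (2269, 1)]),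
  (89, 1, [(2, 8), (3, 5), (5, 2), (7, 1), (11, 2), (89, 6), (373, 1), (8011, 1)]),
  (97, 1, [(2, 12), (3, 3), (7, 4), (67, 1), (97, 6), (139, 1), (3169, 1)]),
  (101, 1, [(2, 6), (3, 3), (5, 4), (7, 1), (13, 1), (17, 2), (37, 1), (101, 6), (10303, 1)]),
  (103, 1, [(2, 8), (3, 3), (7, 1), (13, 2), (17, 2), (19, 1), (79, 1), (103, 6), (3571, 1)]),
  (107, 1, [(2, 6), (3, 7), (7, 1), (13, 1), (19, 1), (53, 2), (107, 6), (127, 1), (199, 1)]),
  (109, 1, [(2, 6), (3, 7), (5, 2), (7, 1), (11, 2), (61, 1), (109, 6), (193, 1), (571, 1)]),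
  (113, 1, [(2, 10), (3, 3), (7, 2), (13, 1), (19, 2), (113, 6), (991, 1), (4219, 1)]),
  (11, 2, [(2, 8), (3, 3), (5, 2), (7, 1), (11, 12), (13, 1), (19, 1), (37, 1), (61, 2), (1117, 1)]),
  (5, 3, [(2, 6), (3, 5), (5, 18), (7, 2), (19, 1), (31, 2), (829, 1), (5167, 1)])]

/-- the factorisations of `|³D₄(q)|`, `q = 2, 3, 5` -/
def tabTD4 : List (ℕ × ℕ × List (ℕ × ℕ)) := [
  (2, 1, [(2, 12), (3, 4), (7, 2), (13, 1)]),
  (3, 1, [(2, 6), (3, 12), (7, 2), (13, 2), (73, 1)]),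
  (5, 1, [(2, 6), (3, 4), (5, 12), (7, 2), (31, 2), (601, 1)])]

/-- the check for one row -/
def rowX (Y : Sh) (N : ℕ) (x : ℕ × ℕ × List (ℕ × ℕ)) : Bool :=
  valid x.2.2 ((x.1 ^ x.2.1) ^ N * num Y (x.1 ^ x.2.1)) &&
    chk2 x.2.2 ((x.1 ^ x.2.1) ^ N * num Y (x.1 ^ x.2.1)) x.1 [0, x.2.1 * N]

theorem tabG2_ok : tabG2.all (rowX .G2 6) = true := by decide +kernel

theorem tabTD4_ok : tabTD4.all (rowX .TD4 12) = true := by decide +kernel

/-- the prime powers are in the list -/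
def pc (p : ℕ) : Bool := (List.range p).all fun d => Nat.ble d 1 || !(Nat.beq (p % d) 0)

theorem pc_of {p : ℕ} (hp : p.Prime) : pc p = true := by
  refine List.all_eq_true.2 fun d hd => ?_
  have h1 := List.mem_range.1 hd
  rw [Bool.or_eq_true]
  by_cases h2 : d ≤ 1
  · left; rwa [Nat.ble_eq]
  · right
    rw [Bool.not_eq_true']
    by_contra h3
    have h4 := Nat.eq_of_beq_eq_true (Bool.eq_true_of_not_eq_false h3)
    rcases (Nat.dvd_prime hp).1 (Nat.dvd_of_mod_eq_zero h4) with h5 | h5 <;> omega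

theorem tabG2_cov : ((List.range 127).all fun p => (List.range 7).all fun f => Nat.beq p 2 || (Nat.blt p 2 ||
    (Nat.beq f 0 || (!(pc p) || (Nat.ble 127 (p ^ f) ||
    (tabG2.any fun x => Nat.beq x.1 p && Nat.beq x.2.1 f)))))) = true := by decide +kernel

theorem mem_tabG2 {p f : ℕ} (hp : p.Prime) (hf : 1 ≤ f) (hp2 : p ≠ 2) (hq : p ^ f < 127) :
    ∃ l, (p, f, l) ∈ tabG2 := by
  have hp2' := hp.two_le
  have h1 : p < 127 := (Nat.le_self_pow (by omega) p).trans_lt hq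
  have h2 : f < 7 := by
    by_contra hcon
    have h3 : 2 ^ 7 ≤ p ^ f := (Nat.pow_le_pow_left hp2' 7).trans (Nat.pow_le_pow_right (by omega) (by omega))
    omega
  have h3 := List.all_eq_true.1 (List.all_eq_true.1 tabG2_cov p (List.mem_range.2 h1)) f (List.mem_range.2 h2)
  have b1 : Nat.beq p 2 = false := Bool.eq_false_of_not_eq_true fun h => hp2 (Nat.eq_of_beq_eq_true h)
  have b2 : Nat.blt p 2 = false := Bool.eq_false_of_not_eq_true fun h => by rw [Nat.blt_eq] at h; omega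
  have b3 : Nat.beq f 0 = false := Bool.eq_false_of_not_eq_true fun h => by
    have := Nat.eq_of_beq_eq_true h; omega
  have b4 : Nat.ble 127 (p ^ f) = false := Bool.eq_false_of_not_eq_true fun h => by rw [Nat.ble_eq] at h; omega
  rw [b1, b2, b3, b4, pc_of hp, Bool.not_true, Bool.false_or, Bool.false_or, Bool.false_or, Bool.false_or,
    Bool.false_or] at h3
  obtain ⟨x, hx, h4⟩ := List.any_eq_true.1 h3
  rw [Bool.and_eq_true] at h4
  have h5 := Nat.eq_of_beq_eq_true h4.1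
  have h6 := Nat.eq_of_beq_eq_true h4.2
  refine ⟨x.2.2, ?_⟩
  rw [← h5, ← h6]
  exact hx

/-- **`G₂(q)`, `q < 127` odd.** -/
theorem small_G2 (T : OrderTable.{u}) {S : Type u} [Group S] (hk : IsKnownSimple' S)
    (hna : ¬ ∀ a b : S, a * b = b * a) {p f M : ℕ} (h : Art.Real .G2 p f M) (hp2 : p ≠ 2) (hq : p ^ f < 127)
    {c a : ℕ} (ha : a = 0 ∨ a = f * 6) (hc : 2 ^ c ≤ Nat.card S ^ 3) (e : Nat.card S * c * p ^ a = M) :
    Nat.card S = M := by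
  obtain ⟨l, hl⟩ := mem_tabG2 h.hp h.hf hp2 hq
  have h1 := List.all_eq_true.1 tabG2_ok _ hl
  rw [rowX, Bool.and_eq_true] at h1
  have hM : M = (p ^ f) ^ 6 * num .G2 (p ^ f) := by
    have h3 : dd .G2 (p ^ f) * M = M := one_mul _
    rw [← h3]; exact h.eq
  have hM0 := h.M_ne
  rw [← hM] at h1
  exact small_aux2 T hk hna h1 (by rcases ha with rfl | rfl <;> simp) hc e (by omega)

/-- **`³D₄(q)`, `q = 2, 3, 5`.** -/
theorem small_TD4 (T : OrderTable.{u}) {S : Type u} [Group S] (hk : IsKnownSimple' S)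
    (hna : ¬ ∀ a b : S, a * b = b * a) {p f M : ℕ} (h : Art.Real .TD4 p f M)
    (hq : p ^ f = 2 ∨ p ^ f = 3 ∨ p ^ f = 5)
    {c a : ℕ} (ha : a = 0 ∨ a = f * 12) (hc : 2 ^ c ≤ Nat.card S ^ 3) (e : Nat.card S * c * p ^ a = M) :
    Nat.card S = M := by
  have hp := h.hp
  have hf := h.hf
  have hqp : (p ^ f).Prime := by rcases hq with h1 | h1 | h1 <;> rw [h1] <;> norm_num
  have hf1 : f = 1 := by
    by_contra hcon
    exact Nat.Prime.not_prime_pow (show 2 ≤ f by omega) hqp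
  subst hf1
  rw [pow_one] at hq
  have hl : ∃ l, (p, 1, l) ∈ tabTD4 := by
    rcases hq with rfl | rfl | rfl
    · exact ⟨_, List.mem_cons_self⟩
    · exact ⟨_, List.mem_cons_of_mem _ List.mem_cons_self⟩
    · exact ⟨_, List.mem_cons_of_mem _ (List.mem_cons_of_mem _ List.mem_cons_self)⟩
  obtain ⟨l, hl⟩ := hl
  have h1 := List.all_eq_true.1 tabTD4_ok _ hl
  rw [rowX, Bool.and_eq_true] at h1
  have hM : M = (p ^ 1) ^ 12 * num .TD4 (p ^ 1) := by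
    have h3 : dd .TD4 (p ^ 1) * M = M := one_mul _
    rw [← h3]; exact h.eq
  have hM0 := h.M_ne
  rw [← hM] at h1
  exact small_aux2 T hk hna h1 (by rcases ha with rfl | rfl <;> simp) hc e (by omega)

end Cfsg.Agent.H992.TC
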