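import Mathlib
import Cfsg.Agent.H992.TC.PBound

/-!
# The `t`-parts of the orders of `G₂(q)`, `³D₄(q)`, `E₈(q)`
-/

set_option autoImplicit false

namespace Cfsg.Agent.H992.TC

open Cfsg.Agent.H902.Art Cfsg.Agent.H902.Lte

section

variable {t q : ℕ}

/-- `q ^ 4 + q ^ 2 + 1` -/
def E3 (q : ℕ) : ℕ := q ^ 4 + q ^ 2 + 1

theorem le_pow' (q : ℕ) {a b : ℕ} (hq : 1 ≤ q) (hab : a ≤ b) : q ^ a ≤ q ^ b := Nat.pow_le_pow_right hq hab

theorem six_eq (hq : 1 ≤ q) : q ^ 6 - 1 = (q ^ 2 - 1) * E3 q := by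
  have h1 : 1 ≤ q ^ 2 := Nat.one_le_pow _ _ hq
  obtain ⟨y, hy⟩ := Nat.exists_eq_add_of_le' h1
  have e6 : q ^ 6 = (y + 1) ^ 3 := by rw [← hy]; ring
  have e4 : q ^ 4 = (y + 1) ^ 2 := by rw [← hy]; ring
  rw [E3, e6, e4, hy, Nat.add_sub_cancel]
  have : (y + 1) ^ 3 = y * ((y + 1) ^ 2 + (y + 1) + 1) + 1 := by ring
  rw [this, Nat.add_sub_cancel]

theorem eight_eq (hq : 1 ≤ q) : q ^ 8 + q ^ 4 + 1 = E3 q * (q ^ 4 - q ^ 2 + 1) := by
  have h1 : 1 ≤ q ^ 2 := Nat.one_le_pow _ _ hq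
  obtain ⟨y, hy⟩ := Nat.exists_eq_add_of_le' h1
  have e8 : q ^ 8 = (y + 1) ^ 4 := by rw [← hy]; ring
  have e4 : q ^ 4 = y * (y + 1) + (y + 1) := by
    have : q ^ 4 = (q ^ 2) ^ 2 := by ring
    rw [this, hy]; ring
  rw [E3, e8, e4, hy, Nat.add_sub_cancel]
  ring

theorem E3_eq (hq : 1 ≤ q) : E3 q = (q ^ 2 + q + 1) * (q ^ 2 - q + 1) := by
  obtain ⟨y, rfl⟩ := Nat.exists_eq_add_of_le' hq
  have h1 : (y + 1) ^ 2 - (y + 1) = y * (y + 1) := by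
    have : (y + 1) ^ 2 = y * (y + 1) + (y + 1) := by ring
    rw [this, Nat.add_sub_cancel]
  rw [E3, h1]
  ring

theorem E3_pos : 0 < E3 q := Nat.succ_pos _

/-- a common divisor of `E3` and `q ^ 2 - 1` divides `3` -/
theorem E3_dvd (hq : 2 ≤ q) (h1 : t ∣ q ^ 2 - 1) (h2 : t ∣ E3 q) : t ∣ 3 := by
  have h3 : 1 ≤ q ^ 2 := Nat.one_le_pow _ _ (by omega)
  obtain ⟨y, hy⟩ := Nat.exists_eq_add_of_le' h3
  have e4 : q ^ 4 = (y + 1) ^ 2 := by rw [← hy]; ring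
  rw [E3, e4, hy] at h2
  rw [hy, Nat.add_sub_cancel] at h1
  have h4 : (y + 1) ^ 2 + (y + 1) + 1 = y * (y + 3) + 3 := by ring
  rw [h4] at h2
  exact (Nat.dvd_add_right (h1.mul_right _)).1 h2

/-- `t`-part of `E3` -/
theorem P_E3 (ht : t.Prime) (hq : 2 ≤ q) (htq : ¬ t ∣ q) :
    (t ∣ q ^ 2 - 1 → P t (E3 q) ≤ 3 ∧ (t ≠ 3 → P t (E3 q) = 1)) ∧ P t (E3 q) ≤ q ^ 2 + q + 1 ∧
      (t ∣ E3 q → t ≠ 2 ∧ ¬ t ∣ q ^ 4 - q ^ 2 + 1) := by
  have hodd : ¬ 2 ∣ E3 q := by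
    rw [E3_eq (by omega)]
    intro h
    have h1 : ¬ 2 ∣ q ^ 2 + q + 1 := by
      have h2 : q ^ 2 + q = q * (q + 1) := by ring
      have h3 := Nat.even_mul_succ_self q
      rw [h2]
      obtain ⟨k, hk⟩ := h3
      rw [hk]; omega
    rcases Nat.prime_two.dvd_mul.1 h with h | h
    · exact h1 h
    · apply h1
      have h2 : q ≤ q ^ 2 := Nat.le_self_pow (by norm_num) q
      have h3 : q ^ 2 + q + 1 = (q ^ 2 - q + 1) + 2 * q := by omega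
      rw [h3]
      exact (Nat.dvd_add_right h).2 ⟨q, rfl⟩
  refine ⟨fun h1 => ?_, ?_, fun h1 => ⟨by rintro rfl; exact hodd h1, fun h2 => ?_⟩⟩
  · have h2 : t ≠ 3 → P t (E3 q) = 1 := fun h3 => P_eq_one fun h4 =>
      h3 ((Nat.prime_dvd_prime_iff_eq ht Nat.prime_three).1 (E3_dvd hq h1 h4))
    refine ⟨?_, h2⟩
    by_cases h3 : t = 3
    · subst h3
      -- `9 ∤ E3`
      have h9 : ¬ 9 ∣ E3 q := by
        have h4 : 1 ≤ q ^ 2 := Nat.one_le_pow _ _ (by omega)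
        obtain ⟨y, hy⟩ := Nat.exists_eq_add_of_le' h4
        have e4 : q ^ 4 = (y + 1) ^ 2 := by rw [← hy]; ring
        rw [hy, Nat.add_sub_cancel] at h1
        obtain ⟨k, rfl⟩ := h1
        rw [E3, e4, hy]
        have : (3 * k + 1) ^ 2 + (3 * k + 1) + 1 = 9 * (k ^ 2 + k) + 3 := by ring
        rw [this]
        omega
      have h4 : (E3 q).factorization 3 ≤ 1 := by
        by_contra hcon
        apply h9
        have := (Nat.prime_three.pow_dvd_iff_le_factorization (k := 2) (n := E3 q) E3_pos.ne').2 (by omega)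
        simpa using this
      calc P 3 (E3 q) ≤ 3 ^ 1 := Nat.pow_le_pow_right (by norm_num) h4
        _ = 3 := by norm_num
    · rw [h2 h3]; norm_num
  · rw [E3_eq (by omega), P_mul (Nat.succ_ne_zero _) (Nat.succ_ne_zero _)]
    by_cases h1 : t ∣ q ^ 2 + q + 1
    · have h2 : ¬ t ∣ q ^ 2 - q + 1 := by
        intro h2
        have h3 : q ≤ q ^ 2 := Nat.le_self_pow (by norm_num) q
        have h4 : q ^ 2 + q + 1 = (q ^ 2 - q + 1) + 2 * q := by omega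
        rw [h4] at h1
        rcases ht.dvd_mul.1 ((Nat.dvd_add_right h2).1 h1) with h5 | h5
        · have h6 := (Nat.prime_dvd_prime_iff_eq ht Nat.prime_two).1 h5
          subst h6
          apply hodd
          rw [E3_eq (by omega)]
          exact h2.mul_left _
        · exact htq h5
      rw [P_eq_one h2, mul_one]
      exact P_le (Nat.succ_ne_zero _)
    · rw [P_eq_one h1, one_mul]
      refine (P_le (Nat.succ_ne_zero _)).trans ?_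
      omega
  · have h3 : 1 ≤ q ^ 2 := Nat.one_le_pow _ _ (by omega)
    have h4 := le_pow' q (a := 2) (b := 4) (by omega) (by norm_num)
    have h5 : E3 q = (q ^ 4 - q ^ 2 + 1) + 2 * q ^ 2 := by rw [E3]; omega
    rw [h5] at h1
    rcases ht.dvd_mul.1 ((Nat.dvd_add_right h2).1 h1) with h6 | h6
    · have h6 := (Nat.prime_dvd_prime_iff_eq ht Nat.prime_two).1 h6
      subst h6
      apply hodd
      rw [h5]
      exact h1
    · exact htq (ht.dvd_of_dvd_pow h6)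

/-! ### `G₂`, `³D₄` -/

theorem num_G2_eq (hq : 1 ≤ q) : num .G2 q = (q ^ 2 - 1) * (q ^ 2 - 1) * E3 q := by
  show (q ^ 2 - 1) * (q ^ 6 - 1) = _
  rw [six_eq hq]; ring

theorem num_TD4_eq (hq : 1 ≤ q) : num .TD4 q = (q ^ 2 - 1) * (q ^ 2 - 1) * (E3 q * E3 q) * (q ^ 4 - q ^ 2 + 1) := by
  show (q ^ 2 - 1) * (q ^ 6 - 1) * (q ^ 8 + q ^ 4 + 1) = _
  rw [six_eq hq, eight_eq hq]; ring

theorem sub_ne (hq : 2 ≤ q) : q ^ 2 - 1 ≠ 0 := by
  have : 2 ^ 2 ≤ q ^ 2 := Nat.pow_le_pow_left hq 2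
  omega

theorem P_G2 (ht : t.Prime) (hq : 2 ≤ q) : P t (num .G2 q) = P t (q ^ 2 - 1) ^ 2 * P t (E3 q) := by
  have h := sub_ne hq
  rw [num_G2_eq (by omega), P_mul (mul_ne_zero h h) E3_pos.ne', P_mul h h]
  ring

theorem P_TD4 (ht : t.Prime) (hq : 2 ≤ q) : P t (num .TD4 q) =
    P t (q ^ 2 - 1) ^ 2 * P t (E3 q) ^ 2 * P t (q ^ 4 - q ^ 2 + 1) := by
  have h := sub_ne hq
  have h3 : E3 q ≠ 0 := E3_pos.ne'
  have h4 : q ^ 4 - q ^ 2 + 1 ≠ 0 := by omega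
  rw [num_TD4_eq (by omega), P_mul (mul_ne_zero (mul_ne_zero h h) (mul_ne_zero h3 h3)) h4,
    P_mul (mul_ne_zero h h) (mul_ne_zero h3 h3), P_mul h h, P_mul h3 h3]
  ring

/-- the first factor -/
theorem P_one (ht : t.Prime) (hq : 2 ≤ q) (htq : ¬ t ∣ q) : P t (q ^ 2 - 1) ≤ 2 * (q + 1) ∧
    (t ≠ 2 → P t (q ^ 2 - 1) ≤ q + 1) := by
  have h1 : t ≠ 2 → P t (q ^ 2 - 1) ≤ q + 1 := fun h2 => by
    have := P_sq_sub_one_le ht h2 hq (j := 1) le_rfl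
    simpa using this
  refine ⟨?_, h1⟩
  by_cases h2 : t = 2
  · subst h2
    have hodd : Odd q := Nat.not_even_iff_odd.1 fun h => htq (even_iff_two_dvd.1 h)
    have h3 : 3 ≤ q := by
      obtain ⟨k, hk⟩ := hodd
      omega
    exact P_two_sq_sub_one_le h3 hodd
  · exact (h1 h2).trans (by omega)

/-- the `t`-part of the order of `G₂(q)` -/
theorem P_G2_le (ht : t.Prime) (hq : 2 ≤ q) (htq : ¬ t ∣ q) : P t (num .G2 q) ≤ 4 * (q + 1) ^ 2 ∧
    (5 ≤ t → P t (num .G2 q) ≤ (q + 1) ^ 2) ∧ (t = 3 → P t (num .G2 q) ≤ 3 * (q + 1) ^ 2) := by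
  obtain ⟨h1, h2⟩ := P_one ht hq htq
  obtain ⟨h3, h4, h5⟩ := P_E3 ht hq htq
  have h5' : 5 ≤ t → P t (num .G2 q) ≤ (q + 1) ^ 2 := by
    intro ht5
    rw [P_G2 ht hq]
    by_cases hd : t ∣ q ^ 2 - 1
    · rw [(h3 hd).2 (by omega), mul_one]
      exact Nat.pow_le_pow_left (h2 (by omega)) 2
    · rw [P_eq_one hd, one_pow, one_mul]
      refine h4.trans ?_
      nlinarith
  have h3' : t = 3 → P t (num .G2 q) ≤ 3 * (q + 1) ^ 2 := by
    rintro rfl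
    rw [P_G2 ht hq]
    by_cases hd : 3 ∣ q ^ 2 - 1
    · have := Nat.mul_le_mul (Nat.pow_le_pow_left (h2 (by omega)) 2) (h3 hd).1
      omega
    · exfalso
      apply hd
      have h8 : q ^ 2 % 3 = (q % 3) ^ 2 % 3 := Nat.pow_mod q 2 3
      have h9 : q % 3 = 1 ∨ q % 3 = 2 := by omega
      rcases h9 with h | h <;> rw [h] at h8 <;> norm_num at h8 <;> omega
  refine ⟨?_, h5', h3'⟩
  by_cases ht2 : t = 2
  · rw [P_G2 ht hq, P_eq_one (a := E3 q) (fun h => (h5 h).1 ht2), mul_one]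
    calc P t (q ^ 2 - 1) ^ 2 ≤ (2 * (q + 1)) ^ 2 := Nat.pow_le_pow_left h1 2
      _ = _ := by ring
  · by_cases ht3 : t = 3
    · have := h3' ht3
      omega
    · have ht4 : t ≠ 4 := by rintro rfl; norm_num at ht
      have := h5' (by have := ht.two_le; omega)
      omega

/-- the `t`-part of the order of `³D₄(q)` -/
theorem P_TD4_le (ht : t.Prime) (hq : 2 ≤ q) (htq : ¬ t ∣ q) :
    P t (num .TD4 q) ≤ 9 * (q + 1) ^ 2 ∨ P t (num .TD4 q) ≤ (q ^ 2 + q + 1) ^ 2 := by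
  obtain ⟨h1, h2⟩ := P_one ht hq htq
  obtain ⟨h3, h4, h5⟩ := P_E3 ht hq htq
  rw [P_TD4 ht hq]
  have h12 : t ∣ q ^ 2 - 1 → P t (q ^ 4 - q ^ 2 + 1) = 1 := by
    intro hd
    apply P_eq_one
    intro h6
    have h7 : 1 ≤ q ^ 2 := Nat.one_le_pow _ _ (by omega)
    obtain ⟨y, hy⟩ := Nat.exists_eq_add_of_le' h7
    have e4 : q ^ 4 = y * (y + 1) + (y + 1) := by
      have : q ^ 4 = (q ^ 2) ^ 2 := by ring
      rw [this, hy]; ring
    rw [e4, hy, Nat.add_sub_cancel] at h6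
    rw [hy, Nat.add_sub_cancel] at hd
    exact ht.one_lt.ne' (Nat.dvd_one.1 ((Nat.dvd_add_right (hd.mul_right _)).1 h6))
  by_cases hd : t ∣ q ^ 2 - 1
  · left
    rw [h12 hd, mul_one]
    by_cases ht2 : t = 2
    · rw [P_eq_one (a := E3 q) (fun h => (h5 h).1 ht2), one_pow, mul_one]
      calc P t (q ^ 2 - 1) ^ 2 ≤ (2 * (q + 1)) ^ 2 := Nat.pow_le_pow_left h1 2
        _ = 4 * (q + 1) ^ 2 := by ring
        _ ≤ _ := Nat.mul_le_mul_right _ (by norm_num)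
    · calc P t (q ^ 2 - 1) ^ 2 * P t (E3 q) ^ 2 ≤ (q + 1) ^ 2 * 3 ^ 2 :=
          Nat.mul_le_mul (Nat.pow_le_pow_left (h2 ht2) 2) (Nat.pow_le_pow_left (h3 hd).1 2)
        _ = _ := by ring
  · right
    rw [P_eq_one hd, one_pow, one_mul]
    by_cases h6 : t ∣ E3 q
    · rw [P_eq_one (h5 h6).2, mul_one]
      exact Nat.pow_le_pow_left h4 2
    · rw [P_eq_one h6, one_pow, one_mul]
      refine (P_le (Nat.succ_ne_zero _)).trans ?_
      have h7 : q ^ 4 - q ^ 2 + 1 ≤ q ^ 4 := by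
        have h8 := le_pow' q (a := 2) (b := 4) (by omega) (by norm_num)
        have h9 : 1 ≤ q ^ 2 := Nat.one_le_pow _ _ (by omega)
        omega
      refine h7.trans ?_
      calc q ^ 4 = (q ^ 2) ^ 2 := by ring
        _ ≤ _ := Nat.pow_le_pow_left (by omega) 2

end

end Cfsg.Agent.H992.TC
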