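import Mathlib
import Cfsg.Agent.H992.TC.Spor

/-!
# Sporadic groups: `|x| c` is not a value of the order polynomials
-/

set_option autoImplicit false

namespace Cfsg.Agent.H992.TC

open Cfsg.Agent.H902 Cfsg.Agent.H902.Art Cfsg.Agent.OrdDiv

/-- bisection -/
def brk (F : ℕ → ℕ) (v : ℕ) : ℕ → ℕ → ℕ → ℕ
  | 0, lo, _ => lo
  | n + 1, lo, hi => if Nat.blt (F ((lo + hi) / 2)) v then brk F v n ((lo + hi) / 2) hi else brk F v n lo ((lo + hi) / 2)

/-- the check -/
def brkChk (F : ℕ → ℕ) (B v : ℕ) : Bool :=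
  Nat.blt (F (brk F v 40 0 B)) v && Nat.blt v (F (brk F v 40 0 B + 1))

theorem brkChk_spec {F : ℕ → ℕ} (hF : Monotone F) {B v : ℕ} (h : brkChk F B v = true) (q : ℕ) : v ≠ F q := by
  rw [brkChk, Bool.and_eq_true, Nat.blt_eq, Nat.blt_eq] at h
  rintro rfl
  by_cases hq : q ≤ brk F (F q) 40 0 B
  · have := hF hq
    omega
  · have := hF (show brk F (F q) 40 0 B + 1 ≤ q by omega)
    omega

def sporB (F : ℕ → ℕ) (B : ℕ) : Bool := spor.all fun x => brkChk F B x.2 && brkChk F B (x.2 * 2)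

theorem sporB_spec {F : ℕ → ℕ} (hF : Monotone F) {B : ℕ} (h : sporB F B = true) {x : Grp × ℕ} (hx : x ∈ spor) {c : ℕ}
    (hc : c ≤ 2) (hc0 : c ≠ 0) (q : ℕ) : x.2 * c ≠ F q := by
  have h1 := List.all_eq_true.1 h x hx
  rw [Bool.and_eq_true] at h1
  have hc' : c = 1 ∨ c = 2 := by omega
  rcases hc' with rfl | rfl
  · rw [mul_one]; exact brkChk_spec hF h1.1 q
  · exact brkChk_spec hF h1.2 q

theorem sub_mono (k : ℕ) : Monotone fun q : ℕ => q ^ k - 1 := fun _ _ h => Nat.sub_le_sub_right (Nat.pow_le_pow_left h k) 1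

theorem mono_G2 : Monotone (num .G2) := fun a b h => Nat.mul_le_mul (sub_mono 2 h) (sub_mono 6 h)

theorem mono_TD4 : Monotone (num .TD4) := fun a b h => Nat.mul_le_mul (Nat.mul_le_mul (sub_mono 2 h) (sub_mono 6 h))
  (Nat.add_le_add_right (Nat.add_le_add (Nat.pow_le_pow_left h 8) (Nat.pow_le_pow_left h 4)) 1)

theorem mono_mul {F : ℕ → ℕ} (hF : Monotone F) (k : ℕ) : Monotone fun q => q ^ k * F q :=
  fun _ _ h => Nat.mul_le_mul (Nat.pow_le_pow_left h k) (hF h)

theorem spor_G2 : sporB (num .G2) 10000000 = true := by decide +kernel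

theorem spor_G2' : sporB (fun q => q ^ 6 * num .G2 q) 10000000 = true := by decide +kernel

theorem spor_TD4 : sporB (num .TD4) 10000000 = true := by decide +kernel

theorem spor_TD4' : sporB (fun q => q ^ 12 * num .TD4 q) 10000000 = true := by decide +kernel

end Cfsg.Agent.H992.TC
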