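import Mathlib
import Cfsg.Agent.H992.TC.Fam
import Cfsg.Agent.H992.TC.PB2
import Cfsg.Agent.H992.TC.G2Tab
import Cfsg.Agent.H992.TC.SporB
import Cfsg.Agent.H129.CycT
import Cfsg.Agent.H934.HeisF4G2
import Cfsg.Agent.H430.CfG2Three
import Cfsg.Agent.H599.IdxG2
import Cfsg.Agent.S1055

/-!
# Thompson's conjecture for `G₂(q)`
-/

set_option autoImplicit false

namespace Cfsg.Agent.H992.TC

open Subgroup Cfsg Cfsg.Lie Cfsg.Agent.H902 Cfsg.Agent.H902.Art Cfsg.Agent.OrdDiv Cfsg.Agent.H364 Cfsg.Agent.H129.CycT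

universe u v

namespace G2

variable {p f M : ℕ}

/-- `Φ₆` -/
def m6 (q : ℕ) : ℕ := q ^ 2 - q + 1

/-- `Φ₃` -/
def m3 (q : ℕ) : ℕ := q ^ 2 + q + 1

theorem m6_cast {q : ℕ} (hq : 1 ≤ q) : ((m6 q : ℕ) : ℤ) = 1 - (q : ℤ) + (q : ℤ) ^ 2 := by
  have h1 : q ≤ q ^ 2 := Nat.le_self_pow (by norm_num) q
  rw [m6, Nat.cast_add, Nat.cast_sub h1]
  push_cast; ring

theorem m3_cast (q : ℕ) : ((m3 q : ℕ) : ℤ) = 1 + (q : ℤ) + (q : ℤ) ^ 2 := by
  rw [m3]; push_cast; ring

theorem m6_six {q : ℕ} (hq : 1 ≤ q) (h : q % 3 ≠ 2) : (m6 q).Coprime 6 := by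
  have h1 : q ≤ q ^ 2 := Nat.le_self_pow (by norm_num) q
  have e : m6 q + q = q ^ 2 + 1 := by rw [m6]; omega
  have h2 : q ^ 2 % 6 = (q % 6) ^ 2 % 6 := Nat.pow_mod q 2 6
  have h6 : q % 6 < 6 := Nat.mod_lt _ (by norm_num)
  have h3 : q % 3 = (q % 6) % 3 := by omega
  generalize hr : q % 6 = r at *
  refine coprime_six ?_ ?_
  · interval_cases r <;> norm_num at h2 <;> omega
  · interval_cases r <;> norm_num at h2 <;> omega

theorem m3_six {q : ℕ} (h : q % 3 ≠ 1) : (m3 q).Coprime 6 := by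
  have e : m3 q = q ^ 2 + q + 1 := rfl
  have h2 : q ^ 2 % 6 = (q % 6) ^ 2 % 6 := Nat.pow_mod q 2 6
  have h6 : q % 6 < 6 := Nat.mod_lt _ (by norm_num)
  generalize hr : q % 6 = r at *
  refine coprime_six ?_ ?_
  · interval_cases r <;> norm_num at h2 <;> omega
  · interval_cases r <;> norm_num at h2 <;> omega

theorem not_dvd6 {q : ℕ} (hp : p.Prime) (hf : 1 ≤ f) (hq : q = p ^ f) : ¬ p ∣ m6 q := by
  intro hd
  have h1 : p ∣ q := hq ▸ dvd_pow_self p (by omega)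
  have h4 : q ≤ q ^ 2 := Nat.le_self_pow (by norm_num) q
  have h3 : m6 q + q = q ^ 2 + 1 := by rw [m6]; omega
  have h5 : p ∣ q ^ 2 + 1 := h3 ▸ dvd_add hd h1
  have h6 : p ∣ 1 := (Nat.dvd_add_right (dvd_pow h1 (by norm_num))).1 h5
  exact hp.one_lt.ne' (Nat.dvd_one.1 h6)

theorem not_dvd3 {q : ℕ} (hp : p.Prime) (hf : 1 ≤ f) (hq : q = p ^ f) : ¬ p ∣ m3 q := by
  intro hd
  have h1 : p ∣ q := hq ▸ dvd_pow_self p (by omega)
  have h6 : p ∣ 1 := (Nat.dvd_add_right (dvd_add (dvd_pow h1 (by norm_num)) h1)).1 hd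
  exact hp.one_lt.ne' (Nat.dvd_one.1 h6)

theorem three_sub {q : ℕ} (hq : 1 ≤ q) : q ^ 3 - 1 = (q - 1) * m3 q := by
  have h2 : ((q ^ 3 - 1 : ℕ) : ℤ) = (((q - 1) * m3 q : ℕ) : ℤ) := by
    rw [Nat.cast_mul, m3_cast, Nat.cast_sub (Nat.one_le_pow _ _ hq), Nat.cast_sub hq]
    push_cast; ring
  exact_mod_cast h2

theorem three_add {q : ℕ} (hq : 1 ≤ q) : q ^ 3 + 1 = (q + 1) * m6 q := by
  have h2 : ((q ^ 3 + 1 : ℕ) : ℤ) = (((q + 1) * m6 q : ℕ) : ℤ) := by
    rw [Nat.cast_mul, m6_cast hq]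
    push_cast; ring
  exact_mod_cast h2

theorem six_sub {q : ℕ} (hq : 1 ≤ q) : q ^ 6 - 1 = (q ^ 3 - 1) * (q ^ 3 + 1) := by
  have h1 := sq_mul_add (q ^ 3) (Nat.one_le_pow _ _ hq)
  rw [← pow_mul] at h1
  exact h1

theorem ex6 (hp : p.Prime) (hf : 1 ≤ f) (hq3 : 3 ≤ p ^ f) {a : ℕ} (hd : m6 (p ^ f) ∣ p ^ a - 1) : 6 * f ∣ a := by
  have hq : 1 ≤ p ^ f := Nat.one_le_pow _ _ hp.pos
  obtain ⟨r, hr, -, h1, h2, h3⟩ := ppd_pow (E := 6) hp hf (by norm_num) (by
    rintro ⟨rfl, h6⟩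
    have : f = 1 := by omega
    subst this
    norm_num at hq3)
  refine (h1 a).1 (dvd_trans ?_ hd)
  rw [six_sub hq, three_add hq] at h3
  rcases hr.dvd_mul.1 h3 with h4 | h4
  · exact absurd h4 (h2 3 (by norm_num) (by norm_num))
  rcases hr.dvd_mul.1 h4 with h5 | h5
  · exfalso
    apply h2 2 (by norm_num) (by norm_num)
    rw [sq_mul_add (p ^ f) hq]
    exact h5.mul_left _
  · exact h5

theorem ex3 (hp : p.Prime) (hf : 1 ≤ f) (hq4 : p ^ f ≠ 4) {a : ℕ} (hd : m3 (p ^ f) ∣ p ^ a - 1) : 3 * f ∣ a := by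
  have hq : 1 ≤ p ^ f := Nat.one_le_pow _ _ hp.pos
  obtain ⟨r, hr, -, h1, h2, h3⟩ := ppd_pow (E := 3) hp hf (by norm_num) (by
    rintro ⟨rfl, h6⟩
    have : f = 2 := by omega
    subst this
    norm_num at hq4)
  refine (h1 a).1 (dvd_trans ?_ hd)
  rw [three_sub hq] at h3
  rcases hr.dvd_mul.1 h3 with h4 | h4
  · have := h2 1 (by norm_num) (by norm_num)
    rw [pow_one] at this
    exact absurd h4 this
  · exact h4

theorem num_eq {q : ℕ} (hq : 1 ≤ q) : num .G2 q = (q ^ 2 - 1) * ((q - 1) * m3 q * ((q + 1) * m6 q)) := by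
  show (q ^ 2 - 1) * (q ^ 6 - 1) = _
  rw [six_sub hq, three_sub hq, three_add hq]

theorem m6_dvd (h : Art.Real .G2 p f M) : m6 (p ^ f) ∣ M := by
  have hq : 1 ≤ p ^ f := Nat.one_le_pow _ _ h.hp.pos
  have h3 : dd .G2 (p ^ f) * M = M := one_mul _
  rw [← h3, h.eq, num_eq hq]
  exact (((dvd_mul_left _ _).mul_left _).mul_left _).mul_left _

theorem m3_dvd (h : Art.Real .G2 p f M) : m3 (p ^ f) ∣ M := by
  have hq : 1 ≤ p ^ f := Nat.one_le_pow _ _ h.hp.pos
  have h3 : dd .G2 (p ^ f) * M = M := one_mul _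
  rw [← h3, h.eq, num_eq hq]
  exact (((dvd_mul_left _ _).mul_right _).mul_left _).mul_left _

theorem P_le (h : Art.Real .G2 p f M) {t : ℕ} (ht : t.Prime) (htp : t ≠ p) :
    P t (num .G2 (p ^ f)) ≤ 4 * (p ^ f + 1) ^ 2 :=
  (P_G2_le ht h.q_ge fun hd => htp ((Nat.prime_dvd_prime_iff_eq ht h.hp).1 (ht.dvd_of_dvd_pow hd))).1

theorem n_ge {q n m : ℕ} (hq : 2 ≤ q) (hm : m6 q ≤ m) (h : m ≤ n * (n - 2)) : q + 1 ≤ n := by
  obtain ⟨x, rfl⟩ := Nat.exists_eq_add_of_le' hq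
  have h4 : (x + 2) ≤ (x + 2) ^ 2 := Nat.le_self_pow (by norm_num) _
  have h3 : m6 (x + 2) + (x + 2) = (x + 2) ^ 2 + 1 := by rw [m6]; omega
  by_contra hcon
  have h2 : n ≤ x + 2 := by omega
  have h5 : n * (n - 2) ≤ (x + 2) * x := Nat.mul_le_mul h2 (by omega)
  nlinarith

theorem c_le {q c : ℕ} (h : 2 ^ c ≤ (4 * (q + 1) ^ 2) ^ 9) : c ≤ 18 * (q + 1) := by
  have h1 : 2 * (q + 1) ≤ 2 ^ (q + 1) := by
    have : q + 1 ≤ 2 ^ q := (Nat.lt_two_pow_self)
    rw [pow_succ]; omega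
  have h2 : 2 ^ c ≤ 2 ^ (18 * (q + 1)) := by
    calc 2 ^ c ≤ _ := h
      _ = (2 * (q + 1)) ^ 18 := by ring
      _ ≤ (2 ^ (q + 1)) ^ 18 := Nat.pow_le_pow_left h1 18
      _ = _ := by rw [← pow_mul]; congr 1; ring
  exact (Nat.pow_le_pow_iff_right (by norm_num : 1 < 2)).1 h2

theorem eight_pow {y : ℕ} (hy : 8 ≤ y) : 8 * (y + 1) ≤ 2 ^ y := by
  induction y, hy using Nat.le_induction with
  | base => norm_num
  | succ n hn ih => rw [pow_succ]; omega

theorem c_le' {q c : ℕ} (hq : 127 ≤ q) (h : 2 ^ c ≤ (4 * (q + 1) ^ 2) ^ 9) : 16 * c ≤ 18 * (q + 33) := by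
  have hy : 8 ≤ (q + 1) / 16 := by omega
  have h0 := eight_pow hy
  have h1 : 2 * (q + 1) ≤ 2 ^ ((q + 1) / 16 + 2) := by
    have : q + 1 < 16 * ((q + 1) / 16 + 1) := by omega
    rw [pow_add]
    omega
  have h2 : 2 ^ c ≤ 2 ^ (18 * ((q + 1) / 16 + 2)) := by
    calc 2 ^ c ≤ _ := h
      _ = (2 * (q + 1)) ^ 18 := by ring
      _ ≤ (2 ^ ((q + 1) / 16 + 2)) ^ 18 := Nat.pow_le_pow_left h1 18
      _ = _ := by rw [← pow_mul]; congr 1; ring
  have h3 := (Nat.pow_le_pow_iff_right (by norm_num : 1 < 2)).1 h2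
  omega

theorem big0 {q : ℕ} (hq : 4 ≤ q) : (4 * (q + 1) ^ 2) ^ 3 * (18 * (q + 1)) < q ^ 6 * num .G2 q := by
  show _ < q ^ 6 * ((q ^ 2 - 1) * (q ^ 6 - 1))
  obtain ⟨x, rfl⟩ := Nat.exists_eq_add_of_le' hq
  have e1 : (x + 4) ^ 2 - 1 = x ^ 2 + 8 * x + 15 := by
    have : (x + 4) ^ 2 = x ^ 2 + 8 * x + 15 + 1 := by ring
    omega
  have e2 : (x + 4) ^ 6 - 1 = x ^ 6 + 24 * x ^ 5 + 240 * x ^ 4 + 1280 * x ^ 3 + 3840 * x ^ 2 + 6144 * x + 4095 := by
    have : (x + 4) ^ 6 = x ^ 6 + 24 * x ^ 5 + 240 * x ^ 4 + 1280 * x ^ 3 + 3840 * x ^ 2 + 6144 * x + 4095 + 1 := by ring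
    omega
  rw [e1, e2]
  have key : (x + 4) ^ 6 * ((x ^ 2 + 8 * x + 15) * (x ^ 6 + 24 * x ^ 5 + 240 * x ^ 4 + 1280 * x ^ 3 + 3840 * x ^ 2 +
      6144 * x + 4095)) = (4 * (x + 4 + 1) ^ 2) ^ 3 * (18 * (x + 4 + 1)) + (1 * x ^ 14 + 56 * x ^ 13 + 1455 * x ^ 12 +
      23248 * x ^ 11 + 255200 * x ^ 10 + 2035968 * x ^ 9 + 12173567 * x ^ 8 + 55417696 * x ^ 7 + 192979137 * x ^ 6 +
      511227800 * x ^ 5 + 1012126576 * x ^ 4 + 1443798912 * x ^ 3 + 1381809792 * x ^ 2 + 763067520 * x + 161596800) := by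
    ring
  rw [key]
  exact Nat.lt_add_of_pos_right (by positivity)

theorem big {q : ℕ} (hq : 127 ≤ q) : 72 * ((q + 1) ^ 6 * (q + 33)) < num .G2 q := by
  show _ < ((q ^ 2 - 1) * (q ^ 6 - 1))
  obtain ⟨x, rfl⟩ := Nat.exists_eq_add_of_le' hq
  have e1 : (x + 127) ^ 2 - 1 = x ^ 2 + 254 * x + 16128 := by
    have : (x + 127) ^ 2 = x ^ 2 + 254 * x + 16128 + 1 := by ring
    omega
  have e2 : (x + 127) ^ 6 - 1 = x ^ 6 + 762 * x ^ 5 + 241935 * x ^ 4 + 40967660 * x ^ 3 + 3902169615 * x ^ 2 +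
      198230216442 * x + 4195872914688 := by
    have : (x + 127) ^ 6 = x ^ 6 + 762 * x ^ 5 + 241935 * x ^ 4 + 40967660 * x ^ 3 + 3902169615 * x ^ 2 +
      198230216442 * x + 4195872914688 + 1 := by ring
    omega
  rw [e1, e2]
  have key : (x ^ 2 + 254 * x + 16128) * (x ^ 6 + 762 * x ^ 5 + 241935 * x ^ 4 + 40967660 * x ^ 3 + 3902169615 * x ^ 2 +
      198230216442 * x + 4195872914688) = 72 * ((x + 127 + 1) ^ 6 * (x + 127 + 33)) + (1 * x ^ 8 + 944 * x ^ 7 +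
      384795 * x ^ 6 + 88166606 * x ^ 5 + 12358828855 * x ^ 4 + 1077013605852 * x ^ 3 + 56251485669900 * x ^ 2 +
      1571204186311680 * x + 17005542560169984) := by
    ring
  rw [key]
  exact Nat.lt_add_of_pos_right (by positivity)

theorem pow_two_cases (hf : 1 ≤ f) (h3 : 3 ≤ 2 ^ f) : 2 ^ f = 4 ∨ 2 ^ f = 8 ∨ 2 ^ f = 16 ∨ 32 ≤ 2 ^ f := by
  by_cases h5 : 5 ≤ f
  · have : 2 ^ 5 ≤ 2 ^ f := Nat.pow_le_pow_right (by norm_num) h5
    omega
  · interval_cases f <;> revert h3 <;> decide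

/-- **The identification for `G₂`.** -/
theorem ident (h : Art.Real .G2 p f M) {Γ : Type u} [Group Γ] [Finite Γ] (N : Subgroup Γ) [hN : N.Normal]
    [hNs : IsSimpleGroup N] (hna : ¬ ∀ a b : N, a * b = b * a) (hC : centralizer (N : Set Γ) = ⊥) {a m : ℕ}
    (e : Nat.card Γ * p ^ a = M) (ha : a = 0 ∨ a = f * 6) (hm : m = m6 (p ^ f) ∨ m = m3 (p ^ f)) (hm6 : m.Coprime 6)
    (hno : ∀ r s : ℕ, r.Prime → s.Prime → r ∣ m → ¬ s ∣ m → NoEdge Γ r s) :
    Nat.card N = M := by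
  have hq := h.q_ge
  have hq3 : 3 ≤ p ^ f := h.ok
  have hp := h.hp
  have hf := h.hf
  have hd1 : dd .G2 (p ^ f) = 1 := rfl
  have hfull : a = f * 6 → p ≠ 2 := fun ha => odd_of_full h hna (c := N.index) (by rw [card_mul_index, e]) ha
  by_cases hsm : p ≠ 2 ∧ p ^ f < 127
  · exact small_G2 table S0000.result hna h hsm.1 hsm.2 ha (pow_index N hna hC) (by rw [card_mul_index, e])
  have hcase : p = 2 ∨ 127 ≤ p ^ f := by
    by_cases hp2 : p = 2
    · exact Or.inl hp2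
    · right; by_contra hcon; exact hsm ⟨hp2, by omega⟩
  have hq4 : 4 ≤ p ^ f := by
    rcases hcase with rfl | h1
    · have := pow_two_cases hf hq3; omega
    · omega
  have hpm : ¬ p ∣ m := by
    rcases hm with rfl | rfl
    · exact not_dvd6 hp hf rfl
    · exact not_dvd3 hp hf rfl
  have hmM : m ∣ M := by
    rcases hm with rfl | rfl
    · exact m6_dvd h
    · exact m3_dvd h
  have hmge : m6 (p ^ f) ≤ m := by
    rcases hm with rfl | rfl
    · exact le_rfl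
    · show (p ^ f) ^ 2 - p ^ f + 1 ≤ (p ^ f) ^ 2 + p ^ f + 1
      omega
  have hnum : 61425 ≤ num .G2 (p ^ f) := mono_G2 hq4
  have hM0 := h.M_ne
  have heq : M = (p ^ f) ^ 6 * num .G2 (p ^ f) := by
    have h3 : dd .G2 (p ^ f) * M = M := one_mul _
    rw [← h3]; exact h.eq
  refine ident_gen N hna hC hp e hm6 hno ?_ ?_ ?_ ?_ ?_
  · intro n c hn hc e1 iso
    obtain ⟨h1, h2, h3, h4⟩ := alt_core h hm6 hmM hpm hc hn e1 iso
    have hn1 := n_ge hq hmge h1
    by_cases hp2 : p = 2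
    · have h5 := h4 hp2
      have h6 := P_le h Nat.prime_three (by rw [hp2]; norm_num)
      have hP : P 3 (num .G2 (p ^ f)) ≤ 4 * n ^ 2 :=
        h6.trans (Nat.mul_le_mul_left _ (Nat.pow_le_pow_left hn1 2))
      have h7 : 22 ≤ n ∨ (p ^ f = 4 ∧ 13 ≤ n ∧ n ≤ 15) := by
        subst hp2
        rcases pow_two_cases hf hq3 with h10 | h10 | h10 | h10
        · right
          have hm13 : m = 13 := by
            rw [h10] at hm
            rcases hm with hm | hm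
            · rw [hm]; decide
            · exfalso
              rw [hm] at hm6
              revert hm6; decide
          have h11 := h2 13 (by norm_num) (hm13 ▸ dvd_refl _)
          have h12 := iso 13 (by norm_num) (hm13 ▸ dvd_refl _)
          exact ⟨h10, h11, h12⟩
        · left
          have hm73 : m = 73 := by
            rw [h10] at hm
            rcases hm with hm | hm
            · exfalso
              rw [hm] at hm6
              revert hm6; decide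
            · rw [hm]; decide
          have h11 := h2 73 (by norm_num) (hm73 ▸ dvd_refl _)
          omega
        · left
          have hm241 : m = 241 := by
            rw [h10] at hm
            rcases hm with hm | hm
            · rw [hm]; decide
            · exfalso
              rw [hm] at hm6
              revert hm6; decide
          have h11 := h2 241 (by norm_num) (hm241 ▸ dvd_refl _)
          omega
        · left; omega
      rcases h7 with h7 | ⟨h10, h11, h12⟩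
      · have h8 : P 3 (num .G2 (p ^ f)) ^ 2 ≤ (4 * n ^ 2) ^ 2 := Nat.pow_le_pow_left hP 2
        have h9 : 144 * n ^ 6 < 3 ^ n := growth (n0 := 22) (by norm_num) (by norm_num) (by norm_num) h7
        have h10 : 9 * n ^ 2 * P 3 (num .G2 (p ^ f)) ^ 2 ≤ 9 * n ^ 2 * (4 * n ^ 2) ^ 2 := Nat.mul_le_mul_left _ h8
        have h11 : 9 * n ^ 2 * (4 * n ^ 2) ^ 2 = 144 * n ^ 6 := by ring
        omega
      · rw [heq, h10] at e1
        have h13 : 11 ∣ n.factorial := (Nat.Prime.dvd_factorial (by norm_num)).2 (by omega)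
        have h14 : 11 ∣ 2 * (4 ^ 6 * num .G2 4) := e1 ▸ (h13.mul_right c).mul_right _
        revert h14
        decide
    · have h5 := h3 hp2
      have hq127 := hcase.resolve_left hp2
      have h6 := P_le h Nat.prime_two (Ne.symm hp2)
      have hP : P 2 (num .G2 (p ^ f)) ≤ 4 * n ^ 2 :=
        h6.trans (Nat.mul_le_mul_left _ (Nat.pow_le_pow_left hn1 2))
      have h9 : 16 * n ^ 3 < 2 ^ n := growth (n0 := 17) (by norm_num) (by norm_num) (by norm_num) (by omega)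
      have h10 : 4 * n * P 2 (num .G2 (p ^ f)) ≤ 4 * n * (4 * n ^ 2) := Nat.mul_le_mul_left _ hP
      have h11 : 4 * n * (4 * n ^ 2) = 16 * n ^ 3 := by ring
      omega
  · intro c hc e1
    have h1 := num_le' (N := 360) h e1
    rw [hd1] at h1
    omega
  · intro x hx c hc e1
    have hc0 : c ≠ 0 := by
      rintro rfl
      rw [mul_zero, zero_mul] at e1
      exact hM0 e1.symm
    rcases ha with rfl | rfl
    · rw [pow_zero, mul_one, heq] at e1
      exact sporB_spec (mono_mul mono_G2 6) spor_G2' hx hc hc0 (p ^ f) e1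
    · have h1 := (full_eq h e1 rfl).1
      rw [hd1, one_mul] at h1
      exact sporB_spec mono_G2 spor_G2 hx hc hc0 (p ^ f) h1
  · intro X t g N' c hX htp hc e1
    rcases ha with rfl | rfl
    · rw [pow_zero, mul_one] at e1
      obtain ⟨h2, h3⟩ := cross_core0 h hX htp hc e1 (P_le h hX.hp htp)
      rw [hd1, one_mul] at h3
      exact absurd (h3.trans (Nat.mul_le_mul_left _ (c_le h2))) (not_le.2 (big0 hq4))
    · have hp2 := hfull rfl
      have hq127 := hcase.resolve_left hp2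
      obtain ⟨h1, h2, h3⟩ := cross_core h hX htp hc e1 (P_le h hX.hp htp)
      rw [hd1, one_mul] at h3
      have h4 := c_le' hq127 h2
      have h5 := big hq127
      have h6 : 16 * num .G2 (p ^ f) ≤ 16 * (72 * ((p ^ f + 1) ^ 6 * (p ^ f + 33))) := by
        calc 16 * num .G2 (p ^ f) ≤ 16 * ((4 * (p ^ f + 1) ^ 2) ^ 3 * c) := Nat.mul_le_mul_left _ h3
          _ = (4 * (p ^ f + 1) ^ 2) ^ 3 * (16 * c) := by ring
          _ ≤ (4 * (p ^ f + 1) ^ 2) ^ 3 * (18 * (p ^ f + 33)) := Nat.mul_le_mul_left _ h4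
          _ = _ := by ring
      omega
  · intro g X k hr hg hc hcd e1
    rcases ha with rfl | rfl
    · rw [pow_zero, mul_one] at e1
      exact same_zero N hna h .G2 hr hg hc hcd e1
    · exact (same_full h hc e1 rfl).elim

theorem a_cases6 (h : Art.Real .G2 p f M) {x a : ℕ} (e : x * p ^ a = M) (h6 : 6 * f ∣ a) :
    a = 0 ∨ a = f * 6 := by
  have h1 := a_le h e
  have h2 : NN .G2 = 6 := rfl
  rw [h2] at h1
  obtain ⟨j, rfl⟩ := h6
  have hf := h.hf
  have h5 : j ≤ 1 := by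
    by_contra hcon
    have : 6 * f * 2 ≤ 6 * f * j := Nat.mul_le_mul_left _ (by omega)
    omega
  interval_cases j
  · left; rfl
  · right; ring

theorem a_cases3 (h : Art.Real .G2 p f M) {x a : ℕ} (e : x * p ^ a = M) (h3 : 3 * f ∣ a)
    (hb : a = 0 ∨ (p ^ f) ^ 3 < p ^ a) : a = 0 ∨ a = f * 6 := by
  have h1 := a_le h e
  have h2 : NN .G2 = 6 := rfl
  rw [h2] at h1
  obtain ⟨j, rfl⟩ := h3
  have hf := h.hf
  have h5 : j ≤ 2 := by
    by_contra hcon
    have : 3 * f * 3 ≤ 3 * f * j := Nat.mul_le_mul_left _ (by omega)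
    omega
  interval_cases j
  · left; rfl
  · exfalso
    rcases hb with hb | hb
    · omega
    · rw [← pow_mul, mul_one, mul_comm f 3] at hb
      exact lt_irrefl _ hb
  · right; ring

theorem pp_split {t a A B : ℕ} (ht : t.Prime) (ha : a ≠ 0) (hc : Nat.Coprime A B) (h : t ^ a ∣ A * B) :
    t ^ a ∣ A ∨ t ^ a ∣ B := (Nat.Coprime.isPrimePow_dvd_mul hc (ht.isPrimePow.pow ha)).1 h

theorem pos_of_lt {t a b : ℕ} (hb : 1 ≤ b) (h : b < t ^ a) : a ≠ 0 := by
  rintro rfl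
  rw [pow_zero] at h
  omega

/-- `q = 4` -/
theorem har4 {t a : ℕ} (ht : t.Prime) (htp : t ≠ 2) (hd : t ^ a ∣ 4 ^ 6 * num .G2 4) (hlt : 64 < t ^ a) : False := by
  have e1 : 4 ^ 6 * num .G2 4 = 2 ^ 12 * (3 ^ 3 * (5 ^ 2 * (7 * 13))) := by decide
  rw [e1] at hd
  have ha := pos_of_lt (by norm_num) hlt
  rcases pp_split ht ha (by decide) hd with h1 | h1
  · exact htp ((Nat.prime_dvd_prime_iff_eq ht Nat.prime_two).1 (ht.dvd_of_dvd_pow ((dvd_pow_self t ha).trans h1)))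
  rcases pp_split ht ha (by decide) h1 with h1 | h1
  · have := Nat.le_of_dvd (by norm_num) h1; omega
  rcases pp_split ht ha (by decide) h1 with h1 | h1
  · have := Nat.le_of_dvd (by norm_num) h1; omega
  rcases pp_split ht ha (by decide) h1 with h1 | h1
  · have := Nat.le_of_dvd (by norm_num) h1; omega
  · have := Nat.le_of_dvd (by norm_num) h1; omega

/-- `q = 5` -/
theorem har5 {t a : ℕ} (ht : t.Prime) (htp : t ≠ 5) (hd : t ^ a ∣ 5 ^ 6 * num .G2 5) (hlt : 125 < t ^ a) : False := by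
  have e1 : 5 ^ 6 * num .G2 5 = 5 ^ 6 * (2 ^ 6 * (3 ^ 3 * (7 * 31))) := by decide
  rw [e1] at hd
  have ha := pos_of_lt (by norm_num) hlt
  rcases pp_split ht ha (by decide) hd with h1 | h1
  · exact htp ((Nat.prime_dvd_prime_iff_eq ht (by norm_num)).1 (ht.dvd_of_dvd_pow ((dvd_pow_self t ha).trans h1)))
  rcases pp_split ht ha (by decide) h1 with h1 | h1
  · have := Nat.le_of_dvd (by norm_num) h1; omega
  rcases pp_split ht ha (by decide) h1 with h1 | h1
  · have := Nat.le_of_dvd (by norm_num) h1; omega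
  rcases pp_split ht ha (by decide) h1 with h1 | h1
  · have := Nat.le_of_dvd (by norm_num) h1; omega
  · have := Nat.le_of_dvd (by norm_num) h1; omega

/-- `q = 3` -/
theorem har3 {t a : ℕ} (ht : t.Prime) (htp : t ≠ 3) (hd : t ^ a ∣ 3 ^ 6 * num .G2 3) (hlt : 9 < t ^ a)
    (hm : 13 ∣ t ^ a - 1) : False := by
  have e1 : 3 ^ 6 * num .G2 3 = 3 ^ 6 * (2 ^ 6 * (7 * 13)) := by decide
  rw [e1] at hd
  have ha := pos_of_lt (by norm_num) hlt
  rcases pp_split ht ha (by decide) hd with h1 | h1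
  · exact htp ((Nat.prime_dvd_prime_iff_eq ht (by norm_num)).1 (ht.dvd_of_dvd_pow ((dvd_pow_self t ha).trans h1)))
  rcases pp_split ht ha (by decide) h1 with h1 | h1
  · obtain ⟨k, hk, h2⟩ := (Nat.dvd_prime_pow Nat.prime_two).1 h1
    rw [h2] at hlt hm
    interval_cases k <;> revert hlt hm <;> decide
  rcases pp_split ht ha (by decide) h1 with h1 | h1
  · have := Nat.le_of_dvd (by norm_num) h1; omega
  · have h2 := Nat.le_of_dvd (by norm_num) h1
    generalize t ^ a = y at *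
    interval_cases y <;> revert hm <;> decide

theorem cube_ge {q : ℕ} (hq : 7 ≤ q) : 4 * (q + 1) ^ 2 ≤ q ^ 3 := by
  obtain ⟨x, rfl⟩ := Nat.exists_eq_add_of_le' hq
  have : (x + 7) ^ 3 = 4 * (x + 7 + 1) ^ 2 + (x ^ 3 + 17 * x ^ 2 + 83 * x + 87) := by ring
  omega

/-- the index bound -/
def bnd (q : ℕ) : ℕ := if q = 3 then 9 else q ^ 3

theorem char_three {F : Type} [Field F] [Fintype F] (hp : p.Prime) (hf : 1 ≤ f) (hF : Fintype.card F = p ^ f) :
    (3 : F) = 0 ↔ p = 3 := by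
  constructor
  · intro h0
    have h1 : (3 : ℕ) ∣ p ^ f := by
      have h2 : ringChar F ∣ 3 := ringChar.dvd (by exact_mod_cast h0)
      have h3 : (ringChar F).Prime := CharP.char_is_prime F (ringChar F)
      have h4 : ringChar F = 3 := (Nat.prime_dvd_prime_iff_eq h3 Nat.prime_three).1 h2
      have : CharP F 3 := h4 ▸ ringChar.charP F
      obtain ⟨n, hn, hc⟩ := FiniteField.card F 3
      rw [← hF, hc]
      exact dvd_pow_self _ n.pos.ne'
    exact ((Nat.prime_dvd_prime_iff_eq Nat.prime_three hp).1 (Nat.prime_three.dvd_of_dvd_pow h1)).symm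
  · rintro rfl
    have h1 : ((Fintype.card F : ℕ) : F) = 0 := FiniteField.cast_card_eq_zero F
    rw [hF] at h1
    push_cast at h1
    exact eq_zero_of_pow_eq_zero h1

theorem index_ge {F : Type} [Field F] [Fintype F] (hp : p.Prime) (hf : 1 ≤ f) (hF : Fintype.card F = p ^ f)
    (hs : IsSimpleGroup ↥(chevG2.group F)) (H : Subgroup ↥(chevG2.group F)) (hH : H ≠ ⊤) :
    bnd (p ^ f) ≤ H.index := by
  rw [bnd]
  split_ifs with h3
  · have h1 := H599.IdxG2.sq_le hs H hH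
    rw [hF, h3] at h1
    exact h1
  by_cases hp3 : p = 3
  · have h30 := (char_three hp hf hF).2 hp3
    have h9 : 9 ≤ p ^ f := by
      subst hp3
      have hf2 : 2 ≤ f := by
        by_contra hcon
        have : f = 1 := by omega
        subst this
        exact h3 (by norm_num)
      exact Nat.pow_le_pow_right (by norm_num : 3 > 0) hf2
    have h1 := H430.CfG2Three.main h30 (by rw [Nat.card_eq_fintype_card, hF]; exact h9) hs H hH
    rw [Nat.card_eq_fintype_card, hF] at h1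
    refine le_trans ?_ h1
    have h2 : (p ^ f) ≤ (p ^ f) ^ 2 - 1 := by
      have : p ^ f + 1 ≤ (p ^ f) ^ 2 := by nlinarith
      omega
    calc (p ^ f) ^ 3 = (p ^ f) ^ 2 * p ^ f := by ring
      _ ≤ _ := Nat.mul_le_mul_left _ h2
  · have h30 : (3 : F) ≠ 0 := fun h0 => hp3 ((char_three hp hf hF).1 h0)
    have h1 := H934.HeisF4G2.sq_le_G2 h30 hs H hH
    rw [hF] at h1
    exact le_of_sq (k := 3) h1

/-- no large prime powers -/
theorem har (h : Art.Real .G2 p f M) {t a m : ℕ} (hm : p ^ f = 3 → m = 13) (ht : t.Prime) (htp : t ≠ p)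
    (hd : t ^ a ∣ M) (hlt : bnd (p ^ f) < t ^ a) (hmd : m ∣ t ^ a - 1) : False := by
  have hp := h.hp
  have hf := h.hf
  have hq3 : 3 ≤ p ^ f := h.ok
  have heq : M = (p ^ f) ^ 6 * num .G2 (p ^ f) := by
    have h3 : dd .G2 (p ^ f) * M = M := one_mul _
    rw [← h3]; exact h.eq
  rw [bnd] at hlt
  split_ifs at hlt with h3
  · have hp3 : p = 3 := by
      have h4 : p ∣ 3 := h3 ▸ dvd_pow_self p (by omega)
      exact (Nat.prime_dvd_prime_iff_eq hp Nat.prime_three).1 h4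
    rw [heq, h3] at hd
    rw [hm h3] at hmd
    exact har3 ht (hp3 ▸ htp) hd hlt hmd
  by_cases h7 : 7 ≤ p ^ f
  · have h1 := ((Nat.pow_le_pow_right ht.pos ((ht.pow_dvd_iff_le_factorization h.M_ne).1 hd) : t ^ a ≤ P t M)).trans
      ((h.P_other_le ht htp).trans ((P_le h ht htp).trans (cube_ge h7)))
    omega
  have h456 : p ^ f = 4 ∨ p ^ f = 5 ∨ p ^ f = 6 := by omega
  rcases h456 with h4 | h4 | h4
  · have hp2 : p = 2 := by
      have h5 : p ∣ 2 ^ 2 := by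
        rw [show 2 ^ 2 = 4 from rfl, ← h4]; exact dvd_pow_self p (by omega)
      exact (Nat.prime_dvd_prime_iff_eq hp Nat.prime_two).1 (hp.dvd_of_dvd_pow h5)
    rw [heq, h4] at hd
    rw [h4] at hlt
    exact har4 ht (hp2 ▸ htp) hd hlt
  · have hp5 : p = 5 := by
      have h5 : p ∣ 5 := h4 ▸ dvd_pow_self p (by omega)
      exact (Nat.prime_dvd_prime_iff_eq hp (by norm_num)).1 h5
    rw [heq, h4] at hd
    rw [h4] at hlt
    exact har5 ht (hp5 ▸ htp) hd hlt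
  · have h2 : 2 ∣ p ^ f := by rw [h4]; norm_num
    have h3' : 3 ∣ p ^ f := by rw [h4]; norm_num
    have e2 := (Nat.prime_dvd_prime_iff_eq Nat.prime_two hp).1 (Nat.prime_two.dvd_of_dvd_pow h2)
    have e3 := (Nat.prime_dvd_prime_iff_eq Nat.prime_three hp).1 (Nat.prime_three.dvd_of_dvd_pow h3')
    omega

theorem m_sq {q m : ℕ} (hq : 3 ≤ q) (hm : m = m6 q ∨ m = m3 q) : m ^ 2 ≤ num .G2 q := by
  have h1 : m ≤ m3 q := by
    rcases hm with rfl | rfl
    · rw [m6, m3]; omega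
    · exact le_rfl
  have h2 : m3 q ≤ (q - 1) * (q ^ 2 - 1) := by
    obtain ⟨x, rfl⟩ := Nat.exists_eq_add_of_le' hq
    have e1 : (x + 3) ^ 2 - 1 = x ^ 2 + 6 * x + 8 := by
      have : (x + 3) ^ 2 = x ^ 2 + 6 * x + 8 + 1 := by ring
      omega
    have e2 : x + 3 - 1 = x + 2 := by omega
    rw [e1, e2, m3]
    nlinarith [Nat.zero_le (x ^ 3), Nat.zero_le (x ^ 2), Nat.zero_le x]
  have h3 : 1 ≤ (q + 1) * m6 q := Nat.mul_pos (by omega) (by rw [m6]; omega)
  rw [num_eq (by omega)]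
  calc m ^ 2 = m * m := sq m
    _ ≤ m3 q * m3 q := Nat.mul_le_mul h1 h1
    _ ≤ ((q - 1) * (q ^ 2 - 1)) * m3 q := Nat.mul_le_mul_right _ h2
    _ = (q ^ 2 - 1) * ((q - 1) * m3 q * 1) := by ring
    _ ≤ _ := Nat.mul_le_mul_left _ (Nat.mul_le_mul_left _ h3)

theorem aux {F : Type} [Field F] [Fintype F] (hp : p.Prime) (hf : 1 ≤ f) (hF : Fintype.card F = p ^ f)
    {M : ℕ} (hMc : Nat.card (chevG2.group F) = M) (h : Art.Real .G2 p f M)
    {L : Type u} [Group L] (eL : L ≃* chevG2.group F)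
    {G : Type v} [Group G] [Finite G] (hZ : center G = ⊥)
    (hcs : Set.range (fun g : G => (centralizer ({g} : Set G)).index) =
      Set.range (fun g : L => (centralizer ({g} : Set L)).index)) : Nonempty (G ≃* L) := by
  have : Finite (GL chevG2.Idx F) := inferInstance
  have hq := h.q_ge
  have hq3 : 3 ≤ p ^ f := h.ok
  have hex : ∃ a : F, a ≠ 0 ∧ a ≠ 1 := by
    classical
    by_contra hcon
    push Not at hcon
    have h1 : (Finset.univ : Finset F) ⊆ {0, 1} := by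
      intro x _
      by_cases hx : x = 0
      · simp [hx]
      · simp [hcon x hx]
    have h2 := Finset.card_le_card h1
    have h3 : ({0, 1} : Finset F).card ≤ 2 := Finset.card_le_two
    rw [Finset.card_univ, hF] at h2
    omega
  obtain ⟨hs, hnc⟩ := S1055.result (F := F) hex
  have heq : M = (p ^ f) ^ 6 * num .G2 (p ^ f) := by
    have h3 : dd .G2 (p ^ f) * M = M := one_mul _
    rw [← h3]; exact h.eq
  have hM : 25920 < M := by
    have h1 : 3 ^ 6 * 5824 ≤ (p ^ f) ^ 6 * num .G2 (p ^ f) :=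
      Nat.mul_le_mul (Nat.pow_le_pow_left hq3 6) (mono_G2 hq3)
    rw [heq]
    norm_num at h1
    omega
  have c6 : p ^ f % 3 ≠ 2 → CycExact (chevG2.group F) (m6 (p ^ f)) := fun h3 =>
    exact_G2_6 hF (m6_cast (by omega)) (fun hd => by
      have h4 := m6_six (q := p ^ f) (by omega) h3
      have h5 : (3 : ℕ) ∣ Nat.gcd (m6 (p ^ f)) 6 := Nat.dvd_gcd hd (by norm_num)
      rw [h4] at h5
      exact absurd h5 (by norm_num))
  have c3 : p ^ f % 3 ≠ 1 → CycExact (chevG2.group F) (m3 (p ^ f)) := fun h3 =>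
    exact_G2_3 hF (m3_cast _) (fun hd => by
      have h4 := m3_six (q := p ^ f) h3
      have h5 : (3 : ℕ) ∣ Nat.gcd (m3 (p ^ f)) 6 := Nat.dvd_gcd hd (by norm_num)
      rw [h4] at h5
      exact absurd h5 (by norm_num))
  have hodd : ∀ m : ℕ, m.Coprime 6 → ¬ 2 ∣ m := by
    intro m hm6 h2
    have h3 : 2 ∣ Nat.gcd m 6 := Nat.dvd_gcd h2 (by norm_num)
    rw [hm6] at h3
    exact absurd h3 (by norm_num)
  have hone6 : 1 < m6 (p ^ f) := by
    have : p ^ f < (p ^ f) ^ 2 := by nlinarith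
    rw [m6]; omega
  have hone3 : 1 < m3 (p ^ f) := by rw [m3]; omega
  have hPM : ∀ m, (m = m6 (p ^ f) ∨ m = m3 (p ^ f)) → P p M * m ^ 2 ≤ M := fun m hm => by
    have h1 : P p M = (p ^ f) ^ 6 := h.P_self
    rw [h1]
    conv_rhs => rw [heq]
    exact Nat.mul_le_mul_left _ (m_sq hq3 hm)
  have hb := index_ge hp hf hF hs
  by_cases h1 : p ^ f % 3 = 1
  · -- `Φ₆`
    obtain ⟨e'⟩ := final_gen (L := chevG2.group F) (fun n hn => by cases hn) h hM (m := m6 (p ^ f))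
      (b := bnd (p ^ f)) hnc hMc hone6 (hodd _ (m6_six (by omega) (by omega))) (not_dvd6 hp hf rfl) (c6 (by omega)) hb
      (hPM _ (Or.inl rfl)) (fun t a ht htp hd hlt hmd => har h (fun h3 => by omega) ht htp hd hlt hmd)
      hZ (hcs.trans (cs_congr eL)) (by
        intro Γ _ _ N hN hNs a hna hC e hma _ _ hno
        exact ident h N hna hC e (a_cases6 h e (ex6 hp hf hq3 hma)) (Or.inl rfl) (m6_six (by omega) (by omega)) hno)
    exact ⟨e'.trans eL.symm⟩
  · -- `Φ₃`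
    have h4 : p ^ f ≠ 4 := fun h4 => h1 (by rw [h4])
    obtain ⟨e'⟩ := final_gen (L := chevG2.group F) (fun n hn => by cases hn) h hM (m := m3 (p ^ f))
      (b := bnd (p ^ f)) hnc hMc hone3 (hodd _ (m3_six h1)) (not_dvd3 hp hf rfl) (c3 h1) hb
      (hPM _ (Or.inr rfl)) (fun t a ht htp hd hlt hmd => har h (fun h3 => by rw [h3]; decide) ht htp hd hlt hmd)
      hZ (hcs.trans (cs_congr eL)) (by
        intro Γ _ _ N hN hNs a hna hC e hma hma' hba hno
        refine ident h N hna hC e ?_ (Or.inr rfl) (m3_six h1) hno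
        by_cases h2 : p ^ f % 3 = 2
        · refine a_cases3 h e (ex3 hp hf h4 hma) ?_
          have h3 : bnd (p ^ f) = (p ^ f) ^ 3 := by
            rw [bnd, if_neg (fun h3 => by omega)]
          rwa [h3] at hba
        · exact a_cases6 h e (ex6 hp hf hq3 (hma' _ hone6 (not_dvd6 hp hf rfl) (c6 h2))))
    exact ⟨e'.trans eL.symm⟩

end G2

/-- **Thompson's conjecture for `G₂(q)`.** -/
theorem g2 {L : Type u} [Group L] (hL : IsoChevG2 L) {G : Type v} [Group G] [Finite G] (hZ : center G = ⊥)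
    (hcs : Set.range (fun g : G => (centralizer ({g} : Set G)).index) =
      Set.range (fun g : L => (centralizer ({g} : Set L)).index)) : Nonempty (G ≃* L) := by
  obtain ⟨F, _, _, hF3, ⟨e⟩⟩ := hL
  obtain ⟨p, f, hp, hf, hF⟩ := Names.exists_pp F
  refine G2.aux hp hf hF rfl ⟨hp, hf, (show 3 ≤ p ^ f by rw [← hF]; exact hF3), ?_⟩ e hZ hcs
  rw [table.{0}.g2 F, hF]
  change 1 * _ = (p ^ f) ^ 6 * (_ * _)
  ring

end Cfsg.Agent.H992.TC
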