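import Mathlib
import Cfsg.Agent.H992.TC.Fam
import Cfsg.Agent.H992.TC.G2
import Cfsg.Agent.H129.CycT2
import Cfsg.Agent.H934.HeisE7
import Cfsg.Agent.S1054
import Cfsg.Agent.S1064

/-!
# Thompson's conjecture for `E₇(2)`, `E₇(3)`
-/

set_option autoImplicit false

namespace Cfsg.Agent.H992.TC

open Subgroup Cfsg Cfsg.Lie Cfsg.Agent.H902 Cfsg.Agent.H902.Art Cfsg.Agent.OrdDiv Cfsg.Agent.H364 Cfsg.Agent.H129.CycT

universe u v

namespace E7s

/-- the factorisation of `|E₇(2)|` -/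
def l2 : List (ℕ × ℕ) := [(2, 63), (3, 11), (5, 2), (7, 3), (11, 1), (13, 1), (17, 1), (19, 1), (31, 1), (43, 1),
  (73, 1), (127, 1)]

/-- the factorisation of `|E₇(3)|` -/
def l3 : List (ℕ × ℕ) := [(2, 23), (3, 63), (5, 2), (7, 3), (11, 2), (13, 3), (19, 1), (37, 1), (41, 1), (61, 1),
  (73, 1), (547, 1), (757, 1), (1093, 1)]

theorem ok2 : valid l2 (2 ^ 63 * num .E7 2) = true ∧ chk2 l2 (2 ^ 63 * num .E7 2) 2 [0, 63] = true := by
  decide +kernel

theorem ok3 : valid l3 (3 ^ 63 * num .E7 3 / 2) = true ∧ chk2 l3 (3 ^ 63 * num .E7 3 / 2) 3 [0, 63] = true := by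
  decide +kernel

theorem pp_le {t a : ℕ} (ht : t.Prime) (l : List (ℕ × ℕ)) {B : ℕ} (h : t ^ a ∣ (l.map fun x => x.1 ^ x.2).prod)
    (hl : ∀ x ∈ l, x.1.Prime) (hnd : (l.map Prod.fst).Nodup) {p : ℕ} (htp : t ≠ p)
    (hB : ∀ x ∈ l, x.1 = p ∨ x.1 ^ x.2 ≤ B) (hB1 : 1 ≤ B) : t ^ a ≤ B := by
  induction l with
  | nil =>
    simp only [List.map_nil, List.prod_nil] at h
    rw [Nat.dvd_one.1 h]
    exact hB1
  | cons x l ih =>
    rw [List.map_cons, List.prod_cons] at h
    by_cases ha : a = 0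
    · subst ha; rw [pow_zero]; exact hB1
    have hx := hl x List.mem_cons_self
    rw [List.map_cons, List.nodup_cons] at hnd
    have hc : Nat.Coprime (x.1 ^ x.2) (l.map fun x => x.1 ^ x.2).prod := by
      apply Nat.Coprime.pow_left
      rw [Nat.coprime_list_prod_right_iff]
      intro n hn
      obtain ⟨y, hy, rfl⟩ := List.mem_map.1 hn
      apply Nat.Coprime.pow_right
      refine (Nat.coprime_primes hx (hl y (List.mem_cons_of_mem _ hy))).2 ?_
      intro h1
      exact hnd.1 (h1 ▸ List.mem_map_of_mem hy)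
    rcases G2.pp_split ht ha hc h with h1 | h1
    · rcases hB x List.mem_cons_self with h2 | h2
      · exfalso
        have h3 := ht.dvd_of_dvd_pow ((dvd_pow_self t ha).trans h1)
        exact htp (((Nat.prime_dvd_prime_iff_eq ht hx).1 h3).trans h2)
      · exact (Nat.le_of_dvd (pow_pos hx.pos _) h1).trans h2
    · exact ih h1 (fun y hy => hl y (List.mem_cons_of_mem _ hy)) hnd.2 (fun y hy => hB y (List.mem_cons_of_mem _ hy))

theorem har2 {t a : ℕ} (ht : t.Prime) (htp : t ≠ 2) (hd : t ^ a ∣ 2 ^ 63 * num .E7 2) : t ^ a ≤ 2 * 2 ^ 17 := by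
  refine pp_le ht l2 (p := 2) ?_ ?_ ?_ htp ?_ (by norm_num)
  · have : (l2.map fun x => x.1 ^ x.2).prod = 2 ^ 63 * num .E7 2 := by decide +kernel
    rw [this]; exact hd
  · intro x hx
    simp only [l2, List.mem_cons, List.not_mem_nil, or_false] at hx
    rcases hx with rfl | rfl | rfl | rfl | rfl | rfl | rfl | rfl | rfl | rfl | rfl | rfl <;> norm_num
  · decide
  · decide +kernel

theorem har3 {t a : ℕ} (ht : t.Prime) (htp : t ≠ 3) (hd : t ^ a ∣ 3 ^ 63 * num .E7 3 / 2) : t ^ a ≤ 2 * 3 ^ 17 := by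
  refine pp_le ht l3 (p := 3) ?_ ?_ ?_ htp ?_ (by norm_num)
  · have : (l3.map fun x => x.1 ^ x.2).prod = 3 ^ 63 * num .E7 3 / 2 := by decide +kernel
    rw [this]; exact hd
  · intro x hx
    simp only [l3, List.mem_cons, List.not_mem_nil, or_false] at hx
    rcases hx with rfl | rfl | rfl | rfl | rfl | rfl | rfl | rfl | rfl | rfl | rfl | rfl | rfl | rfl <;> norm_num
  · decide
  · decide +kernel

/-- the orders modulo the prime tori -/
theorem ord_dvd {r p k a : ℕ} (hr : r.Prime) (hk : k.Prime) (j : ℕ) (h1 : p ^ (k ^ (j + 1)) % r = 1)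
    (h2 : p ^ (k ^ j) % r ≠ 1) (hp : 1 ≤ p) (hd : r ∣ p ^ a - 1) : k ^ (j + 1) ∣ a := by
  have := Fact.mk hk
  have := Fact.mk hr
  have e : ∀ n, p ^ n % r = 1 ↔ (p : ZMod r) ^ n = 1 := fun n => by
    have h3 : ((p ^ n : ℕ) : ZMod r) = ((1 : ℕ) : ZMod r) ↔ p ^ n % r = 1 % r := ZMod.natCast_eq_natCast_iff' _ _ _
    rw [Nat.mod_eq_of_lt hr.one_lt] at h3
    push_cast at h3
    exact h3.symm
  have h3 : orderOf (p : ZMod r) = k ^ (j + 1) := by
    apply orderOf_eq_prime_pow
    · intro h; exact h2 ((e _).2 h)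
    · exact (e _).1 h1
  rw [← h3]
  apply orderOf_dvd_of_pow_eq_one
  rw [← e]
  have h4 : 1 ≤ p ^ a := Nat.one_le_pow _ _ hp
  obtain ⟨w, hw⟩ := hd
  have h5 : p ^ a = 1 + r * w := by omega
  rw [h5, Nat.add_mul_mod_self_left, Nat.mod_eq_of_lt hr.one_lt]

theorem a63 {p a : ℕ} (h : a ≤ 63) (h7 : 7 ∣ a) (h9 : 9 ∣ a) : a = 0 ∨ a = 63 := by
  omega

theorem aux {F : Type} [Field F] [Fintype F] {q m7 m9 M : ℕ} (hq : q = 2 ∨ q = 3) (hF : Fintype.card F = q)
    (hMc : Nat.card (chevE7.group F) = M) (h : Art.Real .E7 q 1 M)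
    (e7 : m7 = 1 + q + q ^ 2 + q ^ 3 + q ^ 4 + q ^ 5 + q ^ 6) (e9 : m9 = 1 + q ^ 3 + q ^ 6)
    (p7 : m7.Prime) (p9 : m9.Prime) (hne7 : m7 ≠ 2) (hq7 : ¬ q ∣ m7) (hq9 : ¬ q ∣ m9)
    (d7 : ∀ a, m7 ∣ q ^ a - 1 → 7 ∣ a) (d9 : ∀ a, m9 ∣ q ^ a - 1 → 9 ∣ a)
    (hM : 25920 < M) (hN : P q M * m7 ^ 2 ≤ M)
    (har : ∀ t a : ℕ, t.Prime → t ≠ q → t ^ a ∣ M → t ^ a ≤ 2 * q ^ 17)
    (hsm : ∀ (S : Type v) [Group S] [Finite S] (c a : ℕ), (¬ ∀ a b : S, a * b = b * a) → IsKnownSimple' S →
      (a = 0 ∨ a = 63) → 2 ^ c ≤ Nat.card S ^ 3 → Nat.card S * c * q ^ a = M → Nat.card S = M)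
    {L : Type u} [Group L] (eL : L ≃* chevE7.group F)
    {G : Type v} [Group G] [Finite G] (hZ : center G = ⊥)
    (hcs : Set.range (fun g : G => (centralizer ({g} : Set G)).index) =
      Set.range (fun g : L => (centralizer ({g} : Set L)).index)) : Nonempty (G ≃* L) := by
  have : Finite (GL chevE7.Idx F) := inferInstance
  obtain ⟨hs, hnc⟩ := (S1054.result (F := F) chevE7 (by simp))
  have c7 : CycExact (chevE7.group F) m7 := exact_E7_7 hF (by omega) (by rw [e7]; push_cast; ring)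
  have c9 : CycExact (chevE7.group F) m9 := exact_E7_9 hF (by omega) (by rw [e9]; push_cast; ring)
  obtain ⟨e'⟩ := final_gen (L := chevE7.group F) (fun n hn => by cases hn) h hM (m := m7) (b := 2 * q ^ 17) hnc hMc
    p7.one_lt (fun h2 => hne7 ((Nat.prime_dvd_prime_iff_eq Nat.prime_two p7).1 h2).symm) hq7 c7 (by
      intro H hH
      have h1 := H934.HeisE7.two_mul_le hs H hH
      rwa [hF] at h1) hN (by
      intro t a ht htp hd hlt _
      have := har t a ht htp hd
      omega) hZ (hcs.trans (cs_congr eL)) (by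
      intro Γ _ _ N hN hNs a hna hC e hma hma' _ _
      have h7 := d7 a hma
      have h9 := d9 a (hma' m9 p9.one_lt hq9 c9)
      have hle := a_le h e
      have hNN : NN .E7 = 63 := rfl
      rw [hNN, one_mul] at hle
      exact hsm N N.index a hna S0000.result (a63 (p := q) hle h7 h9) (pow_index N hna hC) (by rw [card_mul_index, e]))
  exact ⟨e'.trans eL.symm⟩

end E7s

/-- **Thompson's conjecture for `E₇(2)` and `E₇(3)`.** -/
theorem e7_small {L : Type u} [Group L] (hL : ∃ (F : Type) (_ : Field F) (_ : Fintype F), Fintype.card F ≤ 3 ∧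
      Nonempty (L ≃* chevE7.group F)) {G : Type v} [Group G] [Finite G] (hZ : center G = ⊥)
    (hcs : Set.range (fun g : G => (centralizer ({g} : Set G)).index) =
      Set.range (fun g : L => (centralizer ({g} : Set L)).index)) : Nonempty (G ≃* L) := by
  obtain ⟨F, _, _, h3, ⟨e⟩⟩ := hL
  have h1 : 1 < Fintype.card F := Fintype.one_lt_card
  have h2 : Fintype.card F = 2 ∨ Fintype.card F = 3 := by omega
  rcases h2 with hF | hF
  · have hM : Nat.card (chevE7.group F) = 2 ^ 63 * num .E7 2 := by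
      have h4 := S1064.result (F := F) hF
      rw [show Nat.gcd 2 (2 - 1) = 1 by decide, one_mul] at h4
      rw [h4]
      change _ = 2 ^ 63 * (_ * _ * _ * _ * _ * _ * _)
      ring
    have hR : Art.Real .E7 2 1 (2 ^ 63 * num .E7 2) := ⟨Nat.prime_two, le_rfl, trivial, by
      rw [pow_one, show dd .E7 2 = 1 by decide, one_mul]; rfl⟩
    refine E7s.aux (m7 := 127) (m9 := 73) (Or.inl rfl) hF hM hR (by norm_num) (by norm_num) (by norm_num)
      (by norm_num) (by norm_num) (by norm_num) (by norm_num) ?_ ?_ ?_ ?_ ?_ ?_ e hZ hcs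
    · intro a ha
      have := E7s.ord_dvd (r := 127) (p := 2) (k := 7) (by norm_num) (by norm_num) 0 (by norm_num) (by norm_num)
        (by norm_num) ha
      simpa using this
    · intro a ha
      have := E7s.ord_dvd (r := 73) (p := 2) (k := 3) (by norm_num) (by norm_num) 1 (by norm_num) (by norm_num)
        (by norm_num) ha
      simpa using this
    · decide +kernel
    · have h4 : P 2 (2 ^ 63 * num .E7 2) = (2 ^ 1) ^ 63 := hR.P_self
      rw [h4]
      decide +kernel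
    · intro t a ht htp hd
      exact E7s.har2 ht htp hd
    · intro S _ _ c a hna hk ha hc e1
      exact small_aux2 table hk hna E7s.ok2 (by rcases ha with rfl | rfl <;> simp) hc e1 (by decide +kernel)
  · have hM : Nat.card (chevE7.group F) = 3 ^ 63 * num .E7 3 / 2 := by
      have h4 := S1064.result (F := F) hF
      rw [show Nat.gcd 2 (3 - 1) = 2 by decide] at h4
      refine (Nat.div_eq_of_eq_mul_right (by norm_num : 0 < 2) ?_).symm
      rw [h4]
      change 3 ^ 63 * (_ * _ * _ * _ * _ * _ * _) = _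
      ring
    have hR : Art.Real .E7 3 1 (3 ^ 63 * num .E7 3 / 2) := ⟨Nat.prime_three, le_rfl, trivial, by
      rw [pow_one, show dd .E7 3 = 2 by decide]
      decide +kernel⟩
    refine E7s.aux (m7 := 1093) (m9 := 757) (Or.inr rfl) hF hM hR (by norm_num) (by norm_num) (by norm_num)
      (by norm_num) (by norm_num) (by norm_num) (by norm_num) ?_ ?_ ?_ ?_ ?_ ?_ e hZ hcs
    · intro a ha
      have := E7s.ord_dvd (r := 1093) (p := 3) (k := 7) (by norm_num) (by norm_num) 0 (by norm_num) (by norm_num)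
        (by norm_num) ha
      simpa using this
    · intro a ha
      have := E7s.ord_dvd (r := 757) (p := 3) (k := 3) (by norm_num) (by norm_num) 1 (by norm_num) (by norm_num)
        (by norm_num) ha
      simpa using this
    · decide +kernel
    · have h4 : P 3 (3 ^ 63 * num .E7 3 / 2) = (3 ^ 1) ^ 63 := hR.P_self
      rw [h4]
      decide +kernel
    · intro t a ht htp hd
      exact E7s.har3 ht htp hd
    · intro S _ _ c a hna hk ha hc e1
      exact small_aux2 table hk hna E7s.ok3 (by rcases ha with rfl | rfl <;> simp) hc e1 (by decide +kernel)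

end Cfsg.Agent.H992.TC
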