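import Mathlib
import Cfsg.Agent.H992.TC.PBound

/-!
# The `t`-parts of the order of `E₈(q)`
-/

set_option autoImplicit false

namespace Cfsg.Agent.H992.TC

open Cfsg.Agent.H902.Art Cfsg.Agent.H902.Lte

section

variable {t q : ℕ}

theorem P_numE8 (ht : t.Prime) (hq : 2 ≤ q) :
    P t (num .E8 q) = P t (q ^ 2 - 1) * P t (q ^ 8 - 1) * P t (q ^ 12 - 1) * P t (q ^ 14 - 1) * P t (q ^ 18 - 1) *
      P t (q ^ 20 - 1) * P t (q ^ 24 - 1) * P t (q ^ 30 - 1) := by
  have h : ∀ k : ℕ, k ≠ 0 → q ^ k - 1 ≠ 0 := fun k hk => by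
    have := Nat.one_lt_pow hk (by omega : 1 < q)
    omega
  have h2 := h 2 (by norm_num)
  have h8 := h 8 (by norm_num)
  have h12 := h 12 (by norm_num)
  have h14 := h 14 (by norm_num)
  have h18 := h 18 (by norm_num)
  have h20 := h 20 (by norm_num)
  have h24 := h 24 (by norm_num)
  have h30 := h 30 (by norm_num)
  show P t ((q ^ 2 - 1) * (q ^ 8 - 1) * (q ^ 12 - 1) * (q ^ 14 - 1) * (q ^ 18 - 1) * (q ^ 20 - 1) * (q ^ 24 - 1) *
      (q ^ 30 - 1)) = _
  have a1 := mul_ne_zero h2 h8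
  have a2 := mul_ne_zero a1 h12
  have a3 := mul_ne_zero a2 h14
  have a4 := mul_ne_zero a3 h18
  have a5 := mul_ne_zero a4 h20
  have a6 := mul_ne_zero a5 h24
  rw [P_mul a6 h30, P_mul a5 h24, P_mul a4 h20, P_mul a3 h18, P_mul a2 h14, P_mul a1 h12, P_mul h2 h8]

theorem le_aux {q : ℕ} (hq : 2 ≤ q) {k : ℕ} : q ^ k + 1 ≤ q ^ (k + 1) := by
  have h1 : 1 ≤ q ^ k := Nat.one_le_pow _ _ (by omega)
  have h2 : q ^ k * 2 ≤ q ^ (k + 1) := by rw [pow_succ]; exact Nat.mul_le_mul_left _ hq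
  omega

theorem pow_const {q : ℕ} (hq : 2 ≤ q) {c k j : ℕ} (hc : c ≤ 2 ^ j) (hkj : k + j ≤ 29) : c * q ^ k ≤ q ^ 29 := by
  calc c * q ^ k ≤ 2 ^ j * q ^ k := Nat.mul_le_mul_right _ hc
    _ ≤ q ^ j * q ^ k := Nat.mul_le_mul_right _ (Nat.pow_le_pow_left hq j)
    _ = q ^ (k + j) := by rw [← pow_add, add_comm]
    _ ≤ _ := Nat.pow_le_pow_right (by omega) hkj

/-- **The `t`-part of the order of `E₈(q)`.** -/
theorem P_E8_le (ht : t.Prime) (hq : 2 ≤ q) (htq : ¬ t ∣ q) : P t (num .E8 q) ≤ q ^ 29 := by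
  have hq1 : 1 ≤ q := by omega
  by_cases ht2 : t = 2
  · -- `t = 2`
    subst ht2
    have hodd : Odd q := Nat.not_even_iff_odd.1 fun h => htq (even_iff_two_dvd.1 h)
    have hq3 : 3 ≤ q := by
      obtain ⟨k, hk⟩ := hodd
      omega
    have hxa := abs_ge hq (x := (q : ℤ)) (Or.inl rfl)
    have hxt := not_dvd_x (t := 2) htq (x := (q : ℤ)) (Or.inl rfl)
    have H := fun (k : ℕ) (hk : k ≠ 0) => P_two hxa hxt hk
    have H8 := H 8 (by norm_num)
    have H12 := H 12 (by norm_num)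
    have H14 := H 14 (by norm_num)
    have H18 := H 18 (by norm_num)
    have H20 := H 20 (by norm_num)
    have H24 := H 24 (by norm_num)
    have H30 := H 30 (by norm_num)
    rw [if_pos (by decide), natAbs_even hq (Or.inl rfl) (by decide), natAbs_even hq (Or.inl rfl) (by decide)]
      at H8 H12 H14 H18 H20 H24 H30
    have hA : P 2 (q ^ 2 - 1) ≤ 2 * (q + 1) := P_two_sq_sub_one_le hq3 hodd
    rw [P_numE8 Nat.prime_two hq, H8, H12, H14, H18, H20, H24, H30]
    norm_num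
    have p3 : ∀ k, ¬ 2 ∣ k → P 2 k = 1 := fun k hk => P_eq_one hk
    have p4 : P 2 4 = 4 := by
      have := P_pow_self (r := 2) (k := 2) (a := 1) Nat.prime_two (by norm_num)
      simpa using this
    have p6 : P 2 6 = 2 := by
      have := P_pow_self (r := 2) (k := 1) (a := 3) Nat.prime_two (by norm_num)
      simpa using this
    have p10 : P 2 10 = 2 := by
      have := P_pow_self (r := 2) (k := 1) (a := 5) Nat.prime_two (by norm_num)
      simpa using this
    have p12 : P 2 12 = 4 := by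
      have := P_pow_self (r := 2) (k := 2) (a := 3) Nat.prime_two (by norm_num)
      simpa using this
    rw [p4, p6, p10, p12, p3 7 (by norm_num), p3 9 (by norm_num), p3 15 (by norm_num)]
    set A := P 2 (q ^ 2 - 1)
    calc A * (A * 4) * (A * 2) * (A * 1) * (A * 1) * (A * 2) * (A * 4) * (A * 1) = 64 * A ^ 8 := by ring
      _ ≤ 64 * (2 * (q + 1)) ^ 8 := Nat.mul_le_mul_left _ (Nat.pow_le_pow_left hA 8)
      _ ≤ 64 * (q ^ 2) ^ 8 := Nat.mul_le_mul_left _ (Nat.pow_le_pow_left (by nlinarith) 8)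
      _ = 64 * q ^ 16 := by ring
      _ ≤ _ := pow_const hq (j := 6) (by norm_num) (by norm_num)
  obtain ⟨e1, e2, e4, e8, e6, e12, e9, e3, e5⟩ := P_small ht ht2
  have hxa : (2 : ℤ) ≤ |(q : ℤ) ^ 2| := by
    rw [abs_pow, Nat.abs_cast]
    have : (2 : ℤ) ≤ q := by exact_mod_cast hq
    nlinarith
  have hxt : ¬ (t : ℤ) ∣ (q : ℤ) ^ 2 := fun h =>
    htq (Int.natCast_dvd_natCast.1 ((Nat.prime_iff_prime_int.1 ht).dvd_of_dvd_pow h))
  have H := fun (k : ℕ) (hk : k ≠ 0) => P_odd ht ht2 hxa hxt hk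
  have H1 := H 1 (by norm_num)
  have H4 := H 4 (by norm_num)
  have H6 := H 6 (by norm_num)
  have H7 := H 7 (by norm_num)
  have H9 := H 9 (by norm_num)
  have H10 := H 10 (by norm_num)
  have H12 := H 12 (by norm_num)
  have H15 := H 15 (by norm_num)
  simp only [natAbs_sq hq] at H1 H4 H6 H7 H9 H10 H12 H15
  norm_num only at H1 H4 H6 H7 H9 H10 H12 H15
  rw [P_numE8 ht hq, H1, H4, H6, H7, H9, H10, H12, H15]
  have hd : 1 ≤ orderOf (((q : ℤ) ^ 2 : ℤ) : ZMod t) := by
    have hf : Fact t.Prime := ⟨ht⟩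
    have h0 : (((q : ℤ) ^ 2 : ℤ) : ZMod t) ≠ 0 := by rwa [Ne, ZMod.intCast_zmod_eq_zero_iff_dvd]
    exact Nat.pos_of_ne_zero ((isOfFinOrder_iff_isUnit.2 (isUnit_iff_ne_zero.2 h0)).orderOf_pos.ne')
  have hd1 : orderOf (((q : ℤ) ^ 2 : ℤ) : ZMod t) ≠ 1 → t ≠ 3 := by
    intro h1 h3
    subst h3
    have h0 : ((q : ℤ) : ZMod 3) ≠ 0 := by
      intro h
      exact htq (Int.natCast_dvd_natCast.1 ((ZMod.intCast_zmod_eq_zero_iff_dvd _ 3).1 h))
    have h4 : ∀ y : ZMod 3, y ≠ 0 → y ^ 2 = 1 := by decide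
    rw [Int.cast_pow, h4 _ h0, orderOf_one] at h1
    exact h1 rfl
  set d := orderOf (((q : ℤ) ^ 2 : ℤ) : ZMod t) with hdd
  clear_value d
  have hAe : ∀ j, 1 ≤ j → P t (q ^ (2 * j) - 1) ≤ q ^ (j + 1) := fun j hj =>
    (P_sq_sub_one_le ht ht2 hq hj).trans (le_aux hq)
  have hP : ∀ k, k ≠ 0 → P t k ≤ k := fun k hk => P_le hk
  have hq29 : 1 ≤ q ^ 29 := Nat.one_le_pow _ _ (by omega)
  by_cases hd15 : 15 < d
  · have h : ∀ k, 1 ≤ k → k ≤ 15 → ¬ d ∣ k := fun k h1 h2 h3 => by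
      have := Nat.le_of_dvd h1 h3; omega
    rw [if_neg (h _ (by norm_num) (by norm_num)), if_neg (h _ (by norm_num) (by norm_num)),
      if_neg (h _ (by norm_num) (by norm_num)), if_neg (h _ (by norm_num) (by norm_num)),
      if_neg (h _ (by norm_num) (by norm_num)), if_neg (h _ (by norm_num) (by norm_num)),
      if_neg (h _ (by norm_num) (by norm_num)), if_neg (h _ (by norm_num) (by norm_num))]
    simpa using hq29
  push Not at hd15
  have h29 : ∀ k, k ≤ 29 → q ^ k ≤ q ^ 29 := fun k hk => Nat.pow_le_pow_right hq1 hk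
  interval_cases d
  · -- 1
    norm_num
    have h1 := P_sq_sub_one_le ht ht2 hq (j := 1) le_rfl
    rw [mul_one, pow_one] at h1
    rw [e1, e4, e6, e9, e12]
    have h7 := hP 7 (by norm_num)
    have h10 := hP 10 (by norm_num)
    have h15 := hP 15 (by norm_num)
    set A := P t (q ^ 2 - 1)
    have hA8 : A ^ 8 ≤ (q + 1) ^ 8 := Nat.pow_le_pow_left h1 8
    have hc : P t 3 * P t 7 * P t 3 ^ 2 * P t 10 * P t 3 * P t 15 ≤ 243 := by
      by_cases h3 : t = 3
      · subst h3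
        have a7 : P 3 7 = 1 := P_eq_one (by norm_num)
        have a10 : P 3 10 = 1 := P_eq_one (by norm_num)
        have a3 : P 3 3 = 3 := by
          have := P_pow_self (r := 3) (k := 1) (a := 1) Nat.prime_three (by norm_num)
          simpa using this
        have a15 : P 3 15 = 3 := by
          have := P_pow_self (r := 3) (k := 1) (a := 5) Nat.prime_three (by norm_num)
          simpa using this
        rw [a7, a10, a3, a15]
        norm_num
      · have a3 : P t 3 = 1 := P_eq_one fun h => h3 ((Nat.prime_dvd_prime_iff_eq ht Nat.prime_three).1 h)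
        have a15 : P t 15 = P t 5 := by
          rw [show 15 = 3 * 5 from rfl, P_mul (by norm_num) (by norm_num), a3, one_mul]
        have a10 : P t 10 = P t 5 := by
          rw [show 10 = 2 * 5 from rfl, P_mul (by norm_num) (by norm_num), e2, one_mul]
        have h5 := hP 5 (by norm_num)
        rw [a3, a15, a10]
        calc 1 * P t 7 * 1 ^ 2 * P t 5 * 1 * P t 5 = P t 7 * (P t 5 * P t 5) := by ring
          _ ≤ 7 * (5 * 5) := Nat.mul_le_mul h7 (Nat.mul_le_mul h5 h5)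
          _ ≤ _ := by norm_num
    have e := Nat.mul_le_mul hc hA8
    calc A * 1 * (A * 1) * (A * P t 3) * (A * P t 7) * (A * P t 3 ^ 2) * (A * P t 10) * (A * P t 3) * (A * P t 15)
        = (P t 3 * P t 7 * P t 3 ^ 2 * P t 10 * P t 3 * P t 15) * A ^ 8 := by ring
      _ ≤ 243 * (q + 1) ^ 8 := e
      _ ≤ 243 * (q ^ 2) ^ 8 := Nat.mul_le_mul_left _ (Nat.pow_le_pow_left (by nlinarith) 8)
      _ = 243 * q ^ 16 := by ring
      _ ≤ _ := pow_const hq (j := 8) (by norm_num) (by norm_num)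
  · -- 2
    norm_num
    have h1 := hAe 2 (by norm_num)
    norm_num at h1
    have h3 : P t 3 = 1 := P_eq_one fun h => hd1 (by norm_num) ((Nat.prime_dvd_prime_iff_eq ht Nat.prime_three).1 h)
    have h5 := hP 5 (by norm_num)
    rw [e2, e6, h3]
    set A := P t (q ^ 4 - 1)
    calc A * 1 * (A * 1) * (A * P t 5) * (A * 1) = P t 5 * A ^ 4 := by ring
      _ ≤ 5 * (q ^ 3) ^ 4 := Nat.mul_le_mul h5 (Nat.pow_le_pow_left h1 4)
      _ = 5 * q ^ 12 := by ring
      _ ≤ _ := pow_const hq (j := 3) (by norm_num) (by norm_num)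
  · -- 3
    norm_num
    have h1 := hAe 3 (by norm_num)
    norm_num at h1
    have h3 : P t 3 = 1 := P_eq_one fun h => hd1 (by norm_num) ((Nat.prime_dvd_prime_iff_eq ht Nat.prime_three).1 h)
    have h5 := hP 5 (by norm_num)
    rw [e2, e4, h3]
    set A := P t (q ^ 6 - 1)
    calc A * 1 * (A * 1) * (A * 1) * (A * P t 5) = P t 5 * A ^ 4 := by ring
      _ ≤ 5 * (q ^ 4) ^ 4 := Nat.mul_le_mul h5 (Nat.pow_le_pow_left h1 4)
      _ = 5 * q ^ 16 := by ring
      _ ≤ _ := pow_const hq (j := 3) (by norm_num) (by norm_num)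
  · -- 4
    norm_num
    have h1 := hAe 4 (by norm_num)
    norm_num at h1
    rw [e1]
    set A := P t (q ^ 8 - 1)
    calc A * 1 * (A * P t 3) = P t 3 * A ^ 2 := by ring
      _ ≤ 3 * (q ^ 5) ^ 2 := Nat.mul_le_mul e3 (Nat.pow_le_pow_left h1 2)
      _ = 3 * q ^ 10 := by ring
      _ ≤ _ := pow_const hq (j := 2) (by norm_num) (by norm_num)
  · -- 5
    norm_num
    have h1 := hAe 5 (by norm_num)
    norm_num at h1
    rw [e2]
    set A := P t (q ^ 10 - 1)
    calc A * 1 * (A * P t 3) = P t 3 * A ^ 2 := by ring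
      _ ≤ 3 * (q ^ 6) ^ 2 := Nat.mul_le_mul e3 (Nat.pow_le_pow_left h1 2)
      _ = 3 * q ^ 12 := by ring
      _ ≤ _ := pow_const hq (j := 2) (by norm_num) (by norm_num)
  · -- 6
    norm_num
    have h1 := hAe 6 (by norm_num)
    norm_num at h1
    rw [e1, e2]
    set A := P t (q ^ 12 - 1)
    calc A * 1 * (A * 1) = A ^ 2 := by ring
      _ ≤ (q ^ 7) ^ 2 := Nat.pow_le_pow_left h1 2
      _ = q ^ 14 := by ring
      _ ≤ _ := h29 _ (by norm_num)
  · -- 7
    norm_num
    have h1 := hAe 7 (by norm_num)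
    norm_num at h1
    rw [e1, mul_one]
    exact h1.trans (h29 _ (by norm_num))
  · norm_num; exact hq29
  · -- 9
    norm_num
    have h1 := hAe 9 (by norm_num)
    norm_num at h1
    rw [e1, mul_one]
    exact h1.trans (h29 _ (by norm_num))
  · -- 10
    norm_num
    have h1 := hAe 10 (by norm_num)
    norm_num at h1
    rw [e1, mul_one]
    exact h1.trans (h29 _ (by norm_num))
  · norm_num; exact hq29
  · -- 12
    norm_num
    have h1 := hAe 12 (by norm_num)
    norm_num at h1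
    rw [e1, mul_one]
    exact h1.trans (h29 _ (by norm_num))
  · norm_num; exact hq29
  · norm_num; exact hq29
  · -- 15
    norm_num
    have h1 := hAe 15 (by norm_num)
    norm_num at h1
    rw [e1, mul_one]
    exact h1.trans (h29 _ (by norm_num))

end

end Cfsg.Agent.H992.TC
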