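import Mathlib
import Cfsg.Agent.H992.TC.Fam
import Cfsg.Agent.H992.TC.PB3
import Cfsg.Agent.H129.CycT2
import Cfsg.Agent.H934.HeisE8
import Cfsg.Agent.S1054
import Cfsg.Agent.S1065

/-!
# Thompson's conjecture for `E₈(q)`
-/

set_option autoImplicit false

namespace Cfsg.Agent.H992.TC

open Subgroup Cfsg Cfsg.Lie Cfsg.Agent.H902 Cfsg.Agent.H902.Art Cfsg.Agent.OrdDiv Cfsg.Agent.H364 Cfsg.Agent.H129.CycT

universe u v

namespace E8

variable {p f M : ℕ}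

/-- `Φ₂₄` -/
def m24 (q : ℕ) : ℕ := q ^ 8 - q ^ 4 + 1

/-- `Φ₁₅` -/
def m15 (q : ℕ) : ℕ := q ^ 8 + q ^ 5 + q ^ 3 + 1 - (q ^ 7 + q ^ 4 + q)

theorem m24_cast {q : ℕ} (hq : 1 ≤ q) : ((m24 q : ℕ) : ℤ) = 1 - (q : ℤ) ^ 4 + (q : ℤ) ^ 8 := by
  rw [m24, Nat.cast_add, Nat.cast_sub (le_pow _ hq (by norm_num))]
  push_cast; ring

theorem m15_le {q : ℕ} (hq : 2 ≤ q) : q ^ 7 + q ^ 4 + q ≤ q ^ 8 + q ^ 5 + q ^ 3 + 1 := by
  have h1 : q ^ 7 ≤ q ^ 8 := le_pow q (by omega) (by norm_num)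
  have h2 : q ^ 4 ≤ q ^ 5 := le_pow q (by omega) (by norm_num)
  have h3 : q ^ 1 ≤ q ^ 3 := le_pow q (by omega) (by norm_num)
  rw [pow_one] at h3
  omega

theorem m15_cast {q : ℕ} (hq : 2 ≤ q) : ((m15 q : ℕ) : ℤ) =
    1 - (q : ℤ) + (q : ℤ) ^ 3 - (q : ℤ) ^ 4 + (q : ℤ) ^ 5 - (q : ℤ) ^ 7 + (q : ℤ) ^ 8 := by
  rw [m15, Nat.cast_sub (m15_le hq)]
  push_cast; ring

theorem m24_lt {q : ℕ} (hq : 2 ≤ q) : (q ^ 4 - 1) ^ 2 + 1 < m24 q := by
  have h1 : 2 ^ 4 ≤ q ^ 4 := Nat.pow_le_pow_left hq 4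
  obtain ⟨x, hx⟩ := Nat.exists_eq_add_of_le h1
  have h2 : m24 q = (q ^ 4) ^ 2 - q ^ 4 + 1 := by rw [m24]; ring_nf
  rw [h2, hx]
  have h3 : (2 ^ 4 + x - 1) = x + 15 := by omega
  rw [h3]
  have h4 : (2 ^ 4 + x) ^ 2 - (2 ^ 4 + x) = x ^ 2 + 31 * x + 240 := by
    have : (2 ^ 4 + x) ^ 2 = (x ^ 2 + 31 * x + 240) + (2 ^ 4 + x) := by ring
    omega
  rw [h4]
  nlinarith

theorem n_ge {q n : ℕ} (hq : 2 ≤ q) (h : m24 q ≤ n * (n - 2)) : q ^ 4 + 1 ≤ n := by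
  have h1 := m24_lt hq
  have h0 : 2 ^ 4 ≤ q ^ 4 := Nat.pow_le_pow_left hq 4
  by_contra hcon
  have h2 : n ≤ q ^ 4 := by omega
  have h3 : n * (n - 2) ≤ q ^ 4 * (q ^ 4 - 2) := Nat.mul_le_mul h2 (by omega)
  have h4 : q ^ 4 * (q ^ 4 - 2) + 1 = (q ^ 4 - 1) ^ 2 := by
    obtain ⟨x, hx⟩ := Nat.exists_eq_add_of_le h0
    rw [hx]
    have e1 : 2 ^ 4 + x - 2 = x + 14 := by omega
    have e2 : 2 ^ 4 + x - 1 = x + 15 := by omega
    rw [e1, e2]; ring
  omega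

theorem m24_coprime_six {q : ℕ} (hq : 1 ≤ q) : (m24 q).Coprime 6 := by
  refine coprime_six_of ?_ ?_
  · intro hd
    have h1 := Cfsg.Agent.H129.RealT.zmod_of_dvd (m24_cast hq) hd
    push_cast at h1
    revert h1
    generalize (q : ZMod 2) = x
    revert x
    decide
  · intro hd
    have h1 := Cfsg.Agent.H129.RealT.zmod_of_dvd (m24_cast hq) hd
    push_cast at h1
    revert h1
    generalize (q : ZMod 3) = x
    revert x
    decide

theorem coprime_q {q : ℕ} (hq : 1 ≤ q) : (m24 q).Coprime q := by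
  have := Cfsg.Agent.H129.UntwData.coprime_of_eq (q := q) (N := m24 q) (a := -(q : ℤ) ^ 3 + (q : ℤ) ^ 7) (by rw [m24_cast hq]; ring)
  exact this.symm

theorem coprime_q' {q : ℕ} (hq : 2 ≤ q) : (m15 q).Coprime q := by
  have := Cfsg.Agent.H129.UntwData.coprime_of_eq (q := q) (N := m15 q)
    (a := -1 + (q : ℤ) ^ 2 - (q : ℤ) ^ 3 + (q : ℤ) ^ 4 - (q : ℤ) ^ 6 + (q : ℤ) ^ 7) (by rw [m15_cast hq]; ring)
  exact this.symm

theorem not_dvd {m : ℕ} (hp : p.Prime) (hf : 1 ≤ f) (h : m.Coprime (p ^ f)) : ¬ p ∣ m := by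
  intro hd
  have h1 : p ∣ Nat.gcd m (p ^ f) := Nat.dvd_gcd hd (dvd_pow_self p (by omega))
  rw [h] at h1
  exact hp.one_lt.ne' (Nat.dvd_one.1 h1)

/-- the factorisations -/
theorem sub24 {q : ℕ} (hq : 1 ≤ q) : (q ^ 24 - 1) * 1 = (q ^ 12 - 1) * ((q ^ 4 + 1) * m24 q) := by
  have h1 := sq_mul_add (q ^ 12) (Nat.one_le_pow _ _ hq)
  rw [← pow_mul] at h1
  rw [mul_one, show 24 = 12 * 2 from rfl, h1]
  congr 1
  have h2 : ((q ^ 12 + 1 : ℕ) : ℤ) = (((q ^ 4 + 1) * m24 q : ℕ) : ℤ) := by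
    rw [Nat.cast_mul, m24_cast hq]; push_cast; ring
  exact_mod_cast h2

theorem sub15 {q : ℕ} (hq : 2 ≤ q) : q ^ 15 - 1 = (q ^ 5 - 1) * ((q ^ 2 + q + 1) * m15 q) := by
  have h2 : ((q ^ 15 - 1 : ℕ) : ℤ) = (((q ^ 5 - 1) * ((q ^ 2 + q + 1) * m15 q) : ℕ) : ℤ) := by
    rw [Nat.cast_mul, Nat.cast_mul, m15_cast hq, Nat.cast_sub (Nat.one_le_pow _ _ (by omega)),
      Nat.cast_sub (Nat.one_le_pow _ _ (by omega))]
    push_cast; ring
  exact_mod_cast h2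

theorem ex24 (hp : p.Prime) (hf : 1 ≤ f) {a : ℕ} (hd : m24 (p ^ f) ∣ p ^ a - 1) : 24 * f ∣ a := by
  have hq : 1 ≤ p ^ f := Nat.one_le_pow _ _ hp.pos
  obtain ⟨r, hr, -, h1, h2, h3⟩ := ppd_pow (E := 24) hp hf (by norm_num) (by omega)
  refine (h1 a).1 (dvd_trans ?_ hd)
  rw [← mul_one ((p ^ f) ^ 24 - 1), sub24 hq] at h3
  rcases hr.dvd_mul.1 h3 with h4 | h4
  · exact absurd h4 (h2 12 (by norm_num) (by norm_num))
  rcases hr.dvd_mul.1 h4 with h5 | h5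
  · exfalso
    apply h2 8 (by norm_num) (by norm_num)
    have h8 := sq_mul_add ((p ^ f) ^ 4) (Nat.one_le_pow _ _ hq)
    rw [← pow_mul] at h8
    rw [show 8 = 4 * 2 from rfl, h8]
    exact h5.mul_left _
  · exact h5

theorem ex15 (hp : p.Prime) (hf : 1 ≤ f) {a : ℕ} (hd : m15 (p ^ f) ∣ p ^ a - 1) : 15 * f ∣ a := by
  have hq : 2 ≤ p ^ f := hp.two_le.trans (Nat.le_self_pow (by omega) p)
  obtain ⟨r, hr, -, h1, h2, h3⟩ := ppd_pow (E := 15) hp hf (by norm_num) (by omega)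
  refine (h1 a).1 (dvd_trans ?_ hd)
  rw [sub15 hq] at h3
  rcases hr.dvd_mul.1 h3 with h4 | h4
  · exact absurd h4 (h2 5 (by norm_num) (by norm_num))
  rcases hr.dvd_mul.1 h4 with h5 | h5
  · exfalso
    apply h2 3 (by norm_num) (by norm_num)
    have h8 : (p ^ f) ^ 3 - 1 = (p ^ f - 1) * ((p ^ f) ^ 2 + p ^ f + 1) := by
      zify [Nat.one_le_pow 3 (p ^ f) (by omega), (by omega : 1 ≤ p ^ f)]
      ring
    rw [h8]
    exact h5.mul_left _
  · exact h5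

theorem num_ge {q : ℕ} (hq : 2 ≤ q) : q ^ 120 ≤ num .E8 q := by
  have e : q ^ 120 = q ^ 1 * q ^ 7 * q ^ 11 * q ^ 13 * q ^ 17 * q ^ 19 * q ^ 23 * q ^ 29 := by
    rw [← pow_add, ← pow_add, ← pow_add, ← pow_add, ← pow_add, ← pow_add, ← pow_add]
  rw [e]
  exact Nat.mul_le_mul (Nat.mul_le_mul (Nat.mul_le_mul (Nat.mul_le_mul (Nat.mul_le_mul (Nat.mul_le_mul
    (Nat.mul_le_mul (pow_pred hq 1) (pow_pred hq 7)) (pow_pred hq 11)) (pow_pred hq 13)) (pow_pred hq 17))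
    (pow_pred hq 19)) (pow_pred hq 23)) (pow_pred hq 29)

theorem P_le (h : Art.Real .E8 p f M) {t : ℕ} (ht : t.Prime) (htp : t ≠ p) : P t (num .E8 (p ^ f)) ≤ (p ^ f) ^ 29 :=
  P_E8_le ht h.q_ge fun hd => htp ((Nat.prime_dvd_prime_iff_eq ht h.hp).1 (ht.dvd_of_dvd_pow hd))

theorem spor_check : ∀ x ∈ spor, ¬ 241 ∣ x.2 := by decide +kernel

theorem m24_dvd (h : Art.Real .E8 p f M) : m24 (p ^ f) ∣ M := by
  have hq : 1 ≤ p ^ f := Nat.one_le_pow _ _ h.hp.pos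
  have h1 := h.eq
  have h2 : m24 (p ^ f) ∣ (p ^ f) ^ 24 - 1 := by
    rw [← mul_one ((p ^ f) ^ 24 - 1), sub24 hq]
    exact (dvd_mul_left _ _).mul_left _
  have h3 : dd .E8 (p ^ f) * M = M := one_mul _
  rw [← h3, h1]
  exact ((h2.mul_left _).mul_right _).mul_left _

/-- **The identification for `E₈`.** -/
theorem ident (h : Art.Real .E8 p f M) {Γ : Type u} [Group Γ] [Finite Γ] (N : Subgroup Γ) [hN : N.Normal]
    [hNs : IsSimpleGroup N] (hna : ¬ ∀ a b : N, a * b = b * a) (hC : centralizer (N : Set Γ) = ⊥) {a : ℕ}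
    (e : Nat.card Γ * p ^ a = M) (ha : a = 0 ∨ a = f * 120)
    (hno : ∀ r s : ℕ, r.Prime → s.Prime → r ∣ m24 (p ^ f) → ¬ s ∣ m24 (p ^ f) → NoEdge Γ r s) :
    Nat.card N = M := by
  have hq := h.q_ge
  have hp := h.hp
  have hf := h.hf
  have hd1 : dd .E8 (p ^ f) = 1 := rfl
  have hm6 := m24_coprime_six (q := p ^ f) (by omega)
  have hpm : ¬ p ∣ m24 (p ^ f) := not_dvd hp hf (coprime_q (by omega))
  have hnum := num_ge hq
  have h120 : 2 ^ 120 ≤ (p ^ f) ^ 120 := Nat.pow_le_pow_left hq 120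
  refine ident_gen N hna hC hp e hm6 hno ?_ ?_ ?_ ?_ ?_
  · intro n c hn hc e1 iso
    obtain ⟨h1, h2, h3, h4⟩ := alt_core h hm6 (m24_dvd h) hpm hc hn e1 iso
    have hn1 := n_ge hq h1
    have hA : ∀ k, (p ^ f) ^ (4 * k) ≤ n ^ k := fun k => by
      rw [pow_mul]; exact Nat.pow_le_pow_left (by omega) k
    by_cases hp2 : p = 2
    · have h5 := h4 hp2
      have h6 := P_le h Nat.prime_three (by rw [hp2]; norm_num)
      have h7 : 81 ≤ n := by
        by_cases hq3 : p ^ f = 2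
        · have h8 : (241 : ℕ) ∣ m24 (p ^ f) := by rw [hq3]; decide
          have := h2 241 (by norm_num) h8
          omega
        · have : 3 ^ 4 ≤ (p ^ f) ^ 4 := Nat.pow_le_pow_left (by omega) 4
          omega
      have h8 : P 3 (num .E8 (p ^ f)) ^ 2 ≤ n ^ 16 := by
        calc P 3 (num .E8 (p ^ f)) ^ 2 ≤ ((p ^ f) ^ 29) ^ 2 := Nat.pow_le_pow_left h6 2
          _ = (p ^ f) ^ 58 := by rw [← pow_mul]
          _ ≤ (p ^ f) ^ (4 * 16) := le_pow _ (by omega) (by norm_num)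
          _ ≤ _ := hA 16
      have h9 : 9 * n ^ 18 < 3 ^ n := growth (n0 := 81) (by norm_num) (by norm_num) (by norm_num) h7
      have h10 : 9 * n ^ 2 * P 3 (num .E8 (p ^ f)) ^ 2 ≤ 9 * n ^ 2 * n ^ 16 := Nat.mul_le_mul_left _ h8
      have h11 : 9 * n ^ 2 * n ^ 16 = 9 * n ^ 18 := by ring
      omega
    · have h5 := h3 hp2
      have h6 := P_le h Nat.prime_two (Ne.symm hp2)
      have hq3 : 3 ≤ p ^ f := by
        have : p ≤ p ^ f := Nat.le_self_pow (by omega) p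
        have := hp.two_le
        omega
      have h7 : 64 ≤ n := by
        have : 3 ^ 4 ≤ (p ^ f) ^ 4 := Nat.pow_le_pow_left (by omega) 4
        omega
      have h8 : P 2 (num .E8 (p ^ f)) ≤ n ^ 8 := by
        calc P 2 (num .E8 (p ^ f)) ≤ (p ^ f) ^ 29 := h6
          _ ≤ (p ^ f) ^ (4 * 8) := le_pow _ (by omega) (by norm_num)
          _ ≤ _ := hA 8
      have h9 : 4 * n ^ 9 < 2 ^ n := growth (n0 := 64) (by norm_num) (by norm_num) (by norm_num) h7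
      have h10 : 4 * n * P 2 (num .E8 (p ^ f)) ≤ 4 * n * n ^ 8 := Nat.mul_le_mul_left _ h8
      have h11 : 4 * n * n ^ 8 = 4 * n ^ 9 := by ring
      omega
  · intro c hc e1
    have h1 := num_le' (N := 360) h e1
    rw [hd1] at h1
    have : (2 : ℕ) ^ 120 ≤ 1 * (360 * c) := h120.trans (hnum.trans h1)
    omega
  · intro x hx c hc e1
    by_cases hq2 : p ^ f = 2
    · have h1 : 241 ∣ M := by
        refine dvd_trans ?_ (m24_dvd h)
        rw [hq2]; decide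
      have hp2 : p = 2 := by
        have h3 : p ∣ 2 := hq2 ▸ dvd_pow_self p (by omega)
        exact (Nat.prime_dvd_prime_iff_eq hp Nat.prime_two).1 h3
      have h241 : Nat.Prime 241 := by norm_num
      rw [← e1] at h1
      rcases h241.dvd_mul.1 h1 with h2 | h2
      · rcases h241.dvd_mul.1 h2 with h3 | h3
        · exact spor_check x hx h3
        · by_cases hc0 : c = 0
          · rw [hc0, mul_zero, zero_mul] at e1
            exact h.M_ne e1.symm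
          · have := Nat.le_of_dvd (by omega) h3
            omega
      · have h3 := h241.dvd_of_dvd_pow h2
        rw [hp2] at h3
        exact absurd h3 (by norm_num)
    · have h1 := num_le' (N := x.2) h e1
      rw [hd1] at h1
      have h2 : 3 ^ 120 ≤ (p ^ f) ^ 120 := Nat.pow_le_pow_left (by omega) 120
      have h3 := spor_small x hx
      have h4 : x.2 * c ≤ 2 ^ 180 * 2 := Nat.mul_le_mul h3 hc
      have h5 : (3 : ℕ) ^ 120 ≤ 1 * (2 ^ 180 * 2) := (h2.trans (hnum.trans h1)).trans (Nat.mul_le_mul_left _ h4)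
      norm_num at h5
  · intro X t g N c hX htp hc e1
    obtain ⟨h1, h2, h3⟩ := cross_core h hX htp hc e1 (P_le h hX.hp htp)
    rw [← pow_mul] at h2
    have h4 := c_lin h2
    rw [hd1, one_mul] at h3
    have h5 : (p ^ f) ^ 120 ≤ (p ^ f) ^ 88 * 261 := by
      calc (p ^ f) ^ 120 ≤ _ := hnum
        _ ≤ _ := h3
        _ ≤ ((p ^ f) ^ 29) ^ 3 * (29 * 9 * p ^ f) := Nat.mul_le_mul_left _ h4
        _ = _ := by ring
    have h6 : (p ^ f) ^ 120 = (p ^ f) ^ 88 * (p ^ f) ^ 32 := by rw [← pow_add]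
    rw [h6] at h5
    have h7 := Nat.le_of_mul_le_mul_left h5 (pow_pos (by omega) _)
    have h8 : 2 ^ 32 ≤ (p ^ f) ^ 32 := Nat.pow_le_pow_left hq 32
    omega
  · intro g X k hr hg hc hcd e1
    rcases ha with rfl | rfl
    · rw [pow_zero, mul_one] at e1
      exact same_zero N hna h .E8 hr hg hc hcd e1
    · exact (same_full h hc e1 rfl).elim

theorem a_cases (h : Art.Real .E8 p f M) {x a : ℕ} (e : x * p ^ a = M) (h24 : 24 * f ∣ a) (h15 : 15 * f ∣ a) :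
    a = 0 ∨ a = f * 120 := by
  have h1 := a_le h e
  have h2 : NN .E8 = 120 := rfl
  rw [h2] at h1
  have h3 : Nat.lcm (24 * f) (15 * f) ∣ a := Nat.lcm_dvd h24 h15
  rw [Nat.lcm_mul_right] at h3
  have h4 : Nat.lcm 24 15 = 120 := rfl
  rw [h4] at h3
  obtain ⟨j, rfl⟩ := h3
  have hf := h.hf
  have h5 : j ≤ 1 := by
    by_contra hcon
    have : 120 * f * 2 ≤ 120 * f * j := Nat.mul_le_mul_left _ (by omega)
    omega
  interval_cases j
  · left; rfl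
  · right; ring

theorem aux {F : Type} [Field F] [Fintype F] (hp : p.Prime) (hf : 1 ≤ f) (hF : Fintype.card F = p ^ f)
    {M : ℕ} (hMc : Nat.card (chevE8.group F) = M) (h : Art.Real .E8 p f M)
    {L : Type u} [Group L] (eL : L ≃* chevE8.group F)
    {G : Type v} [Group G] [Finite G] (hZ : center G = ⊥)
    (hcs : Set.range (fun g : G => (centralizer ({g} : Set G)).index) =
      Set.range (fun g : L => (centralizer ({g} : Set L)).index)) : Nonempty (G ≃* L) := by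
  have : Finite (GL chevE8.Idx F) := inferInstance
  obtain ⟨hs, hnc⟩ := (S1054.result (F := F) chevE8 (by simp))
  have hq := h.q_ge
  have hpm : ¬ p ∣ m24 (p ^ f) := not_dvd hp hf (coprime_q (by omega))
  have hpm' : ¬ p ∣ m15 (p ^ f) := not_dvd hp hf (coprime_q' (by omega))
  have hm24 : CycExact (chevE8.group F) (m24 (p ^ f)) := exact_E8_24 hF (m24_cast (by omega))
  have hm15 : CycExact (chevE8.group F) (m15 (p ^ f)) := exact_E8_15 hF (m15_cast (by omega))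
  have hb : ∀ H : Subgroup (chevE8.group F), H ≠ ⊤ → 2 * (p ^ f) ^ 29 ≤ H.index := by
    intro H hH
    have h1 := H934.HeisE8.two_mul_le hs H hH
    rwa [hF] at h1
  have hlt := m24_lt hq
  have hm1 : 1 < m24 (p ^ f) := by
    have : 1 ≤ ((p ^ f) ^ 4 - 1) ^ 2 + 1 := Nat.succ_pos _
    omega
  have hm1' : 1 < m15 (p ^ f) := by
    have h0 := m15_le (q := p ^ f) (by omega)
    have h1 : 2 * (p ^ f) ^ 7 ≤ (p ^ f) ^ 8 := by rw [pow_succ, mul_comm]; exact Nat.mul_le_mul_left _ hq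
    have h2 : (p ^ f) ^ 4 ≤ (p ^ f) ^ 5 := le_pow _ (by omega) (by norm_num)
    have h3 : (p ^ f) ^ 1 ≤ (p ^ f) ^ 3 := le_pow _ (by omega) (by norm_num)
    rw [pow_one] at h3
    have h4 : 2 ^ 7 ≤ (p ^ f) ^ 7 := Nat.pow_le_pow_left hq 7
    rw [m15]
    omega
  have hm6 := m24_coprime_six (q := p ^ f) (by omega)
  have hm2 : ¬ 2 ∣ m24 (p ^ f) := by
    intro h2
    have h3 : 2 ∣ Nat.gcd (m24 (p ^ f)) 6 := Nat.dvd_gcd h2 (by norm_num)
    rw [hm6] at h3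
    exact absurd h3 (by norm_num)
  have hnum := num_ge hq
  have hM : (p ^ f) ^ 120 * (p ^ f) ^ 120 ≤ M := by
    have h1 := h.eq
    have h3 : dd .E8 (p ^ f) * M = M := one_mul _
    rw [h3] at h1
    rw [h1]
    exact Nat.mul_le_mul_left _ hnum
  obtain ⟨e'⟩ := final_gen (L := chevE8.group F) (fun n hn => by cases hn) h (m := m24 (p ^ f)) (b := 2 * (p ^ f) ^ 29) (by
      have h1 : 2 ^ 120 ≤ (p ^ f) ^ 120 := Nat.pow_le_pow_left hq 120
      have h2 : 2 ^ 120 * 2 ^ 120 ≤ (p ^ f) ^ 120 * (p ^ f) ^ 120 := Nat.mul_le_mul h1 h1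
      norm_num at h2
      omega) hnc hMc hm1 hm2 hpm hm24 hb (by
      have h1 : P p M = (p ^ f) ^ 120 := h.P_self
      rw [h1]
      refine le_trans (Nat.mul_le_mul_left _ ?_) hM
      have h2 : m24 (p ^ f) ≤ (p ^ f) ^ 8 := by
        have h3 : 1 ≤ (p ^ f) ^ 4 := Nat.one_le_pow _ _ (by omega)
        have h4 : (p ^ f) ^ 4 ≤ (p ^ f) ^ 8 := le_pow _ (by omega) (by norm_num)
        rw [m24]; omega
      calc m24 (p ^ f) ^ 2 ≤ ((p ^ f) ^ 8) ^ 2 := Nat.pow_le_pow_left h2 2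
        _ = (p ^ f) ^ 16 := by rw [← pow_mul]
        _ ≤ _ := le_pow _ (by omega) (by norm_num)) (by
      intro t a ht htp hd hlt _
      have h1 := (Nat.pow_le_pow_right ht.pos ((ht.pow_dvd_iff_le_factorization h.M_ne).1 hd) : t ^ a ≤ P t M).trans ((h.P_other_le ht htp).trans (P_le h ht htp))
      have h2 : 1 ≤ (p ^ f) ^ 29 := Nat.one_le_pow _ _ (by omega)
      omega) hZ (hcs.trans (cs_congr eL)) (by
      intro Γ _ _ N hN hNs a hna hC e h24 hm' _ hno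
      have h1 := ex24 hp hf h24
      have h2 := ex15 hp hf (hm' _ hm1' hpm' hm15)
      exact ident h N hna hC e (a_cases h e h1 h2) hno)
  exact ⟨e'.trans eL.symm⟩

end E8

/-- **Thompson's conjecture for `E₈(q)`.** -/
theorem e8 {L : Type u} [Group L] (hL : IsoE8 L) {G : Type v} [Group G] [Finite G] (hZ : center G = ⊥)
    (hcs : Set.range (fun g : G => (centralizer ({g} : Set G)).index) =
      Set.range (fun g : L => (centralizer ({g} : Set L)).index)) : Nonempty (G ≃* L) := by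
  obtain ⟨F, _, _, ⟨e⟩⟩ := hL
  obtain ⟨p, f, hp, hf, hF⟩ := Names.exists_pp F
  refine E8.aux hp hf hF rfl ⟨hp, hf, trivial, ?_⟩ e hZ hcs
  rw [S1065.result (F := F) hF]
  change 1 * _ = (p ^ f) ^ 120 * (_ * _ * _ * _ * _ * _ * _ * _)
  ring

end Cfsg.Agent.H992.TC
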