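import Mathlib
import Cfsg.Agent.H992.TC.Fam
import Cfsg.Agent.H992.TC.Inst
import Cfsg.Agent.H992.TC.OutC
import Cfsg.Agent.H934.HeisF4Even
import Cfsg.Agent.S1054
import Cfsg.Agent.S1062

/-!
# Thompson's conjecture for `F₄(q)`, `q` even
-/

set_option autoImplicit false

namespace Cfsg.Agent.H992.TC

open Subgroup Cfsg Cfsg.Lie Cfsg.Agent.H902 Cfsg.Agent.H902.Art Cfsg.Agent.OrdDiv Cfsg.Agent.H364 Cfsg.Agent.H129.CycT

universe u v

namespace F4e

variable {p f M : ℕ}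

/-- the index bound -/
def bnd (q : ℕ) : ℕ := if q = 2 then 896 else q ^ 8

theorem le1 {q : ℕ} (hq : 3 ≤ q) : 9 * (q + 1) ^ 4 ≤ q ^ 8 := by
  have h1 : 3 * (q + 1) ^ 2 ≤ q ^ 4 := by
    obtain ⟨x, rfl⟩ := Nat.exists_eq_add_of_le' hq
    have : (x + 3) ^ 4 = 3 * (x + 3 + 1) ^ 2 + (x ^ 4 + 12 * x ^ 3 + 51 * x ^ 2 + 84 * x + 33) := by ring
    omega
  calc 9 * (q + 1) ^ 4 = (3 * (q + 1) ^ 2) ^ 2 := by ring
    _ ≤ (q ^ 4) ^ 2 := Nat.pow_le_pow_left h1 2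
    _ = _ := by rw [← pow_mul]

theorem le2 {q : ℕ} (hq : 3 ≤ q) : 3 * (q ^ 2 + 1) ^ 2 ≤ q ^ 8 := by
  have h1 : 2 * (q ^ 2 + 1) ≤ q ^ 4 := by
    have : 3 ^ 2 ≤ q ^ 2 := Nat.pow_le_pow_left hq 2
    have e : q ^ 4 = q ^ 2 * q ^ 2 := by rw [← pow_add]
    rw [e]
    nlinarith
  calc 3 * (q ^ 2 + 1) ^ 2 ≤ (2 * (q ^ 2 + 1)) ^ 2 := by nlinarith
    _ ≤ (q ^ 4) ^ 2 := Nat.pow_le_pow_left h1 2
    _ = _ := by rw [← pow_mul]

theorem le3 {q : ℕ} (hq : 3 ≤ q) : (q ^ 3 + 1) ^ 2 ≤ q ^ 8 := by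
  have h1 : q ^ 3 + 1 ≤ q ^ 4 := by
    have : 3 ^ 3 ≤ q ^ 3 := Nat.pow_le_pow_left hq 3
    have e : q ^ 4 = q ^ 3 * q := by rw [← pow_succ]
    rw [e]
    nlinarith
  calc (q ^ 3 + 1) ^ 2 ≤ (q ^ 4) ^ 2 := Nat.pow_le_pow_left h1 2
    _ = _ := by rw [← pow_mul]

theorem P_lt {q : ℕ} (hq : 2 ≤ q) {t : ℕ} (ht : t.Prime) (ht2 : t ≠ 2) (htq : ¬ t ∣ q) :
    P t (num .F4 q) ≤ bnd q := by
  rw [bnd]
  split_ifs with h2
  · subst h2
    rcases P_numF_le ht ht2 hq htq with h1 | h1 | h1 <;> norm_num at h1 <;> omega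
  · rcases P_numF_le ht ht2 hq htq with h1 | h1 | h1
    · exact h1.trans (le1 (by omega))
    · exact h1.trans (le2 (by omega))
    · exact h1.trans (le3 (by omega))

theorem index_ge {F : Type} [Field F] [Fintype F] (hf : 1 ≤ f) (hF : Fintype.card F = 2 ^ f)
    (hs : IsSimpleGroup ↥(chevF4.group F)) (H : Subgroup ↥(chevF4.group F)) (hH : H ≠ ⊤) :
    bnd (2 ^ f) ≤ H.index := by
  have h20 : (2 : F) = 0 := by
    have h1 : ((Fintype.card F : ℕ) : F) = 0 := FiniteField.cast_card_eq_zero F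
    rw [hF] at h1
    push_cast at h1
    exact eq_zero_of_pow_eq_zero h1
  have hch : CharP F 2 := CharTwo.of_one_ne_zero_of_two_eq_zero one_ne_zero h20
  have h1 := H934.HeisF4Even.main hs H hH
  rw [hF] at h1
  have hq2 : 2 ≤ 2 ^ f := Nat.le_self_pow (by omega) 2
  rw [bnd]
  generalize 2 ^ f = q at *
  split_ifs with h2
  · subst h2
    norm_num at h1
    omega
  · have h3 : 3 ^ 3 ≤ q ^ 3 := Nat.pow_le_pow_left (by omega) 3
    have h4 : q ^ 8 * 2 ≤ q ^ 8 * (q ^ 3 - 1) := Nat.mul_le_mul_left _ (by omega)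
    omega

theorem aux {F : Type} [Field F] [Fintype F] (hf : 1 ≤ f) (hF : Fintype.card F = 2 ^ f)
    {M : ℕ} (hMc : Nat.card (chevF4.group F) = M) (h : Art.Real .F4 2 f M)
    {L : Type u} [Group L] (eL : L ≃* chevF4.group F)
    {G : Type v} [Group G] [Finite G] (hZ : center G = ⊥)
    (hcs : Set.range (fun g : G => (centralizer ({g} : Set G)).index) =
      Set.range (fun g : L => (centralizer ({g} : Set L)).index)) : Nonempty (G ≃* L) := by
  have : Finite (GL chevF4.Idx F) := inferInstance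
  have hq := h.q_ge
  obtain ⟨hs, hnc⟩ := (S1054.result (F := F) chevF4 (by simp))
  have hY : Y3 .F4 := Or.inl rfl
  have hm1 : 1 < mm .F4 (2 ^ f) := one_lt_mm hY hq
  have hm6 := mm_coprime_six hY (q := 2 ^ f) (by omega)
  have hm2 : ¬ 2 ∣ mm .F4 (2 ^ f) := by
    intro h2
    have h3 : 2 ∣ Nat.gcd (mm .F4 (2 ^ f)) 6 := Nat.dvd_gcd h2 (by norm_num)
    rw [hm6] at h3
    exact absurd h3 (by norm_num)
  have hcyc : CycExact (chevF4.group F) (mm .F4 (2 ^ f)) := by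
    refine exact_F4_12 hF ?_
    show ((((2 ^ f) ^ 4 - (2 ^ f) ^ 2 + 1 : ℕ)) : ℤ) = _
    rw [Nat.cast_add, Nat.cast_sub (le_pow _ (Nat.one_le_pow _ _ (by norm_num)) (by norm_num))]
    push_cast; ring
  obtain ⟨e'⟩ := final_gen (L := chevF4.group F) (fun n hn => by cases hn) h (m := mm .F4 (2 ^ f))
    (b := bnd (2 ^ f)) (by
      have h1 : P 2 M = (2 ^ f) ^ 24 := h.P_self
      have h2 : 2 ^ 24 ≤ (2 ^ f) ^ 24 := Nat.pow_le_pow_left hq 24
      have h3 : P 2 M ≤ M := P_le h.M_ne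
      norm_num at h2
      omega) hnc hMc hm1 hm2 (mm_not_dvd hY h) hcyc (index_ge hf hF hs) (P_mul_mm hY h) (by
      intro t a ht htp hd hlt _
      have h1 := ((Nat.pow_le_pow_right ht.pos ((ht.pow_dvd_iff_le_factorization h.M_ne).1 hd) : t ^ a ≤ P t M)).trans
        ((h.P_other_le ht htp).trans (P_lt hq ht htp
          (fun hd => htp ((Nat.prime_dvd_prime_iff_eq ht h.hp).1 (ht.dvd_of_dvd_pow hd)))))
      omega) hZ (hcs.trans (cs_congr eL)) (by
      intro Γ _ _ N hN hNs a hna hC e hma _ _ hno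
      refine ident_aux N hna hC hY h e hno ?_
      intro g X k hq4 hr hg hc hcd
      obtain ⟨c0, h1, h2, h3⟩ := Cfsg.Agent.H364.OutLie.card_out hna hg hr hc
      refine same_out (c := N.index) (a := a) (c0 := c0) hc hY h hq4 ?_ (h1 ▸ hcd) h2 h3 (exp_dvd hY h hma)
      rw [card_mul_index, e])
  exact ⟨e'.trans eL.symm⟩

end F4e

/-- **Thompson's conjecture for `F₄(q)`, `q` even.** -/
theorem f4_even {L : Type u} [Group L] (hL : ∃ (F : Type) (_ : Field F) (_ : Fintype F), Even (Fintype.card F) ∧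
      Nonempty (L ≃* chevF4.group F)) {G : Type v} [Group G] [Finite G] (hZ : center G = ⊥)
    (hcs : Set.range (fun g : G => (centralizer ({g} : Set G)).index) =
      Set.range (fun g : L => (centralizer ({g} : Set L)).index)) : Nonempty (G ≃* L) := by
  obtain ⟨F, _, _, heven, ⟨e⟩⟩ := hL
  obtain ⟨p, f, hp, hf, hF⟩ := Names.exists_pp F
  have hp2 : p = 2 := by
    rw [hF] at heven
    exact ((Nat.prime_dvd_prime_iff_eq Nat.prime_two hp).1 (Nat.prime_two.dvd_of_dvd_pow heven.two_dvd)).symm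
  subst hp2
  refine F4e.aux hf hF rfl ⟨hp, hf, trivial, ?_⟩ e hZ hcs
  rw [S1062.result (F := F) hF]
  change 1 * _ = (2 ^ f) ^ 24 * (_ * _ * _ * _)
  ring

/-- **Thompson's conjecture for `F₄(q)`.** -/
theorem f4 {L : Type u} [Group L] (hL : IsoF4 L) {G : Type v} [Group G] [Finite G] (hZ : center G = ⊥)
    (hcs : Set.range (fun g : G => (centralizer ({g} : Set G)).index) =
      Set.range (fun g : L => (centralizer ({g} : Set L)).index)) : Nonempty (G ≃* L) := by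
  obtain ⟨F, i1, i2, he⟩ := hL
  rcases Nat.even_or_odd (Fintype.card F) with h | h
  · exact f4_even ⟨F, i1, i2, h, he⟩ hZ hcs
  · exact f4_odd ⟨F, i1, i2, h, he⟩ hZ hcs

end Cfsg.Agent.H992.TC
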