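import Mathlib
import Cfsg.Agent.H992.TC.Fam
import Cfsg.Agent.H992.TC.PB2
import Cfsg.Agent.H992.TC.G2Tab
import Cfsg.Agent.H992.TC.SporB
import Cfsg.Agent.H129.CycT2
import Cfsg.Agent.H934.HeisTwD4
import Cfsg.Agent.S1071

/-!
# Thompson's conjecture for `³D₄(q)`
-/

set_option autoImplicit false

namespace Cfsg.Agent.H992.TC

open Subgroup Cfsg Cfsg.Lie Cfsg.Agent.H902 Cfsg.Agent.H902.Art Cfsg.Agent.OrdDiv Cfsg.Agent.H364 Cfsg.Agent.H129.CycT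

universe u v

namespace TD4

variable {p f M : ℕ}

theorem num_ge {q : ℕ} (hq : 2 ≤ q) : q ^ 14 ≤ num .TD4 q := by
  have e : q ^ 14 = q ^ 1 * q ^ 5 * q ^ 8 := by rw [← pow_add, ← pow_add]
  rw [e]
  exact Nat.mul_le_mul (Nat.mul_le_mul (pow_pred hq 1) (pow_pred hq 5)) (by
    show q ^ 8 ≤ q ^ 8 + q ^ 4 + 1
    omega)

theorem P_le (h : Art.Real .TD4 p f M) {t : ℕ} (ht : t.Prime) (htp : t ≠ p) :
    P t (num .TD4 (p ^ f)) ≤ 9 * (p ^ f + 1) ^ 2 ∨ P t (num .TD4 (p ^ f)) ≤ ((p ^ f) ^ 2 + p ^ f + 1) ^ 2 :=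
  P_TD4_le ht h.q_ge fun hd => htp ((Nat.prime_dvd_prime_iff_eq ht h.hp).1 (ht.dvd_of_dvd_pow hd))

theorem nine_le {q : ℕ} (hq : 3 ≤ q) : 9 * (q + 1) ^ 2 ≤ (q ^ 2 + q + 1) ^ 2 := by
  have h1 : 3 * (q + 1) ≤ q ^ 2 + q + 1 := by nlinarith
  calc 9 * (q + 1) ^ 2 = (3 * (q + 1)) ^ 2 := by ring
    _ ≤ _ := Nat.pow_le_pow_left h1 2

theorem sq_le5 {q : ℕ} (hq : 3 ≤ q) : (q ^ 2 + q + 1) ^ 2 ≤ q ^ 5 := by
  obtain ⟨x, rfl⟩ := Nat.exists_eq_add_of_le' hq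
  have : (x + 3) ^ 5 = ((x + 3) ^ 2 + (x + 3) + 1) ^ 2 + (x ^ 5 + 14 * x ^ 4 + 76 * x ^ 3 + 195 * x ^ 2 + 223 * x + 74) := by
    ring
  omega

theorem P_le' (h : Art.Real .TD4 p f M) (hq3 : 3 ≤ p ^ f) {t : ℕ} (ht : t.Prime) (htp : t ≠ p) :
    P t (num .TD4 (p ^ f)) ≤ ((p ^ f) ^ 2 + p ^ f + 1) ^ 2 := by
  rcases P_le h ht htp with h1 | h1
  · exact h1.trans (nine_le hq3)
  · exact h1

theorem P_n (h : Art.Real .TD4 p f M) {t : ℕ} (ht : t.Prime) (htp : t ≠ p) {n : ℕ} (hn : (p ^ f) ^ 2 + 1 ≤ n) :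
    P t (num .TD4 (p ^ f)) ≤ 4 * n ^ 2 := by
  have hq := h.q_ge
  have e4 : (2 * n) ^ 2 = 4 * n ^ 2 := by ring
  rw [← e4]
  rcases P_le h ht htp with h1 | h1
  · refine h1.trans ?_
    have h2 : 3 * (p ^ f + 1) ≤ 2 * n := by nlinarith
    calc 9 * (p ^ f + 1) ^ 2 = (3 * (p ^ f + 1)) ^ 2 := by ring
      _ ≤ _ := Nat.pow_le_pow_left h2 2
  · refine h1.trans (Nat.pow_le_pow_left ?_ 2)
    nlinarith

theorem big {q : ℕ} (hq : 7 ≤ q) : ((q ^ 2 + q + 1) ^ 2) ^ 3 * (36 * (q + 1)) < num .TD4 q := by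
  rw [num_TD4_eq (by omega), E3_eq (by omega)]
  obtain ⟨x, rfl⟩ := Nat.exists_eq_add_of_le' hq
  have e1 : (x + 7) ^ 2 - 1 = x ^ 2 + 14 * x + 48 := by
    have : (x + 7) ^ 2 = x ^ 2 + 14 * x + 48 + 1 := by ring
    omega
  have e2 : (x + 7) ^ 2 - (x + 7) + 1 = x ^ 2 + 13 * x + 43 := by
    have : (x + 7) ^ 2 = x ^ 2 + 13 * x + 42 + (x + 7) := by ring
    omega
  have e3 : (x + 7) ^ 4 - (x + 7) ^ 2 + 1 = x ^ 4 + 28 * x ^ 3 + 293 * x ^ 2 + 1358 * x + 2353 := by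
    have : (x + 7) ^ 4 = x ^ 4 + 28 * x ^ 3 + 293 * x ^ 2 + 1358 * x + 2352 + (x + 7) ^ 2 := by ring
    omega
  have e4 : (x + 7) ^ 2 + (x + 7) + 1 = x ^ 2 + 15 * x + 57 := by ring
  rw [e1, e2, e3, e4]
  set B := x ^ 2 + 15 * x + 57 with hB
  have hB0 : 0 < B ^ 2 := by positivity
  have key : (x ^ 2 + 14 * x + 48) ^ 2 * (x ^ 2 + 13 * x + 43) ^ 2 *
      (x ^ 4 + 28 * x ^ 3 + 293 * x ^ 2 + 1358 * x + 2353) = B ^ 4 * (36 * (x + 7 + 1)) + (1 * x ^ 12 + 82 * x ^ 11 +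
      3080 * x ^ 10 + 70038 * x ^ 9 + 1073105 * x ^ 8 + 11659226 * x ^ 7 + 91977852 * x ^ 6 + 529762280 * x ^ 5 +
      2204543897 * x ^ 4 + 6436433156 * x ^ 3 + 12432814996 * x ^ 2 + 14113422876 * x + 6983877600) := by
    rw [hB]; ring
  have key2 : B ^ 4 * (36 * (x + 7 + 1)) < (x ^ 2 + 14 * x + 48) ^ 2 * (x ^ 2 + 13 * x + 43) ^ 2 *
      (x ^ 4 + 28 * x ^ 3 + 293 * x ^ 2 + 1358 * x + 2353) := by
    rw [key]
    exact Nat.lt_add_of_pos_right (by positivity)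
  calc (B ^ 2) ^ 3 * (36 * (x + 7 + 1)) = B ^ 2 * (B ^ 4 * (36 * (x + 7 + 1))) := by ring
    _ < B ^ 2 * ((x ^ 2 + 14 * x + 48) ^ 2 * (x ^ 2 + 13 * x + 43) ^ 2 *
      (x ^ 4 + 28 * x ^ 3 + 293 * x ^ 2 + 1358 * x + 2353)) := (Nat.mul_lt_mul_left hB0).2 key2
    _ = _ := by ring

theorem m12_dvd (h : Art.Real .TD4 p f M) : mm .F4 (p ^ f) ∣ M := by
  have hq : 1 ≤ p ^ f := Nat.one_le_pow _ _ h.hp.pos
  have h1 := h.eq
  have h3 : dd .TD4 (p ^ f) * M = M := one_mul _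
  rw [← h3, h1, num_TD4_eq hq]
  exact (dvd_mul_left _ _).mul_left _

theorem m12_not_dvd {q : ℕ} (hp : p.Prime) (hf : 1 ≤ f) (hq : q = p ^ f) : ¬ p ∣ mm .F4 q := by
  intro hd
  have h1 : p ∣ q := hq ▸ dvd_pow_self p (by omega)
  have h2 : 1 ≤ q := by rw [hq]; exact Nat.one_le_pow _ _ hp.pos
  have h4 := le_pow q (a := 2) (b := 4) h2 (by norm_num)
  have h3 : mm .F4 q + q ^ 2 = q ^ 4 + 1 := by
    show q ^ 4 - q ^ 2 + 1 + q ^ 2 = _
    omega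
  have h5 : p ∣ q ^ 4 + 1 := h3 ▸ dvd_add hd (dvd_pow h1 (by norm_num))
  have h6 : p ∣ 1 := (Nat.dvd_add_right (dvd_pow h1 (by norm_num))).1 h5
  exact hp.one_lt.ne' (Nat.dvd_one.1 h6)

theorem n_ge {q n : ℕ} (hq : 2 ≤ q) (h : mm .F4 q ≤ n * (n - 2)) : q ^ 2 + 1 ≤ n := by
  have h1 := F4_gt hq
  have h0 : 2 ^ 2 ≤ q ^ 2 := Nat.pow_le_pow_left hq 2
  by_contra hcon
  have h2 : n ≤ q ^ 2 := by omega
  have h3 : n * (n - 2) ≤ q ^ 2 * (q ^ 2 - 2) := Nat.mul_le_mul h2 (by omega)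
  have h4 : q ^ 2 * (q ^ 2 - 2) + 1 = (q ^ 2 - 1) ^ 2 := by
    obtain ⟨x, hx⟩ := Nat.exists_eq_add_of_le h0
    rw [hx]
    have e1 : 2 ^ 2 + x - 2 = x + 2 := by omega
    have e2 : 2 ^ 2 + x - 1 = x + 3 := by omega
    rw [e1, e2]; ring
  omega

theorem q_cases {q : ℕ} (h2 : 2 ≤ q) (h : ¬ (q = 2 ∨ q = 3 ∨ q = 5)) : 4 ≤ q ∧ (q = 4 ∨ 7 ≤ q ∨ q = 6) := by
  omega

/-- **The identification for `³D₄`.** -/
theorem ident (h : Art.Real .TD4 p f M) {Γ : Type u} [Group Γ] [Finite Γ] (N : Subgroup Γ) [hN : N.Normal]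
    [hNs : IsSimpleGroup N] (hna : ¬ ∀ a b : N, a * b = b * a) (hC : centralizer (N : Set Γ) = ⊥) {a : ℕ}
    (e : Nat.card Γ * p ^ a = M) (ha : a = 0 ∨ a = f * 12)
    (hno : ∀ r s : ℕ, r.Prime → s.Prime → r ∣ mm .F4 (p ^ f) → ¬ s ∣ mm .F4 (p ^ f) → NoEdge Γ r s) :
    Nat.card N = M := by
  have hq := h.q_ge
  have hp := h.hp
  have hf := h.hf
  have hd1 : dd .TD4 (p ^ f) = 1 := rfl
  by_cases hsm : p ^ f = 2 ∨ p ^ f = 3 ∨ p ^ f = 5
  · exact small_TD4 table S0000.result hna h hsm ha (pow_index N hna hC) (by rw [card_mul_index, e])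
  have hq4 : 4 ≤ p ^ f := (q_cases hq hsm).1
  have hm6 := mm_coprime_six (Y := .F4) (Or.inl rfl) (q := p ^ f) (by omega)
  have hpm : ¬ p ∣ mm .F4 (p ^ f) := m12_not_dvd hp hf rfl
  have hnum := num_ge hq
  have h14 : 4 ^ 14 ≤ (p ^ f) ^ 14 := Nat.pow_le_pow_left hq4 14
  have hfull : a = f * 12 → p ≠ 2 := fun ha => odd_of_full h hna (c := N.index) (by rw [card_mul_index, e]) ha
  have hM0 := h.M_ne
  have heq : M = (p ^ f) ^ 12 * num .TD4 (p ^ f) := by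
    have h3 : dd .TD4 (p ^ f) * M = M := one_mul _
    rw [← h3]; exact h.eq
  have h4p : 4 = p ^ f → p = 2 := by
    intro h1
    have h3 : p ∣ 2 ^ 2 := by
      rw [show 2 ^ 2 = 4 from rfl, h1]; exact dvd_pow_self p (by omega)
    exact (Nat.prime_dvd_prime_iff_eq hp Nat.prime_two).1 (hp.dvd_of_dvd_pow h3)
  refine ident_gen N hna hC hp e hm6 hno ?_ ?_ ?_ ?_ ?_
  · intro n c hn hc e1 iso
    obtain ⟨h1, h2, h3, h4⟩ := alt_core h hm6 (m12_dvd h) hpm hc hn e1 iso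
    have hn1 := n_ge hq h1
    have h17 : 17 ≤ n := by nlinarith
    by_cases hp2 : p = 2
    · have h5 := h4 hp2
      have h6 := P_n h Nat.prime_three (by rw [hp2]; norm_num) hn1
      have h7 : 22 ≤ n := by
        by_cases hq3 : p ^ f = 4
        · have h8 : (241 : ℕ) ∣ mm .F4 (p ^ f) := by rw [hq3]; decide
          have := h2 241 (by norm_num) h8
          omega
        · nlinarith [show 5 ≤ p ^ f by omega]
      have h8 : P 3 (num .TD4 (p ^ f)) ^ 2 ≤ (4 * n ^ 2) ^ 2 := Nat.pow_le_pow_left h6 2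
      have h9 : 144 * n ^ 6 < 3 ^ n := growth (n0 := 22) (by norm_num) (by norm_num) (by norm_num) h7
      have h10 : 9 * n ^ 2 * P 3 (num .TD4 (p ^ f)) ^ 2 ≤ 9 * n ^ 2 * (4 * n ^ 2) ^ 2 := Nat.mul_le_mul_left _ h8
      have h11 : 9 * n ^ 2 * (4 * n ^ 2) ^ 2 = 144 * n ^ 6 := by ring
      omega
    · have h5 := h3 hp2
      have h6 := P_n h Nat.prime_two (Ne.symm hp2) hn1
      have h9 : 16 * n ^ 3 < 2 ^ n := growth (n0 := 17) (by norm_num) (by norm_num) (by norm_num) h17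
      have h10 : 4 * n * P 2 (num .TD4 (p ^ f)) ≤ 4 * n * (4 * n ^ 2) := Nat.mul_le_mul_left _ h6
      have h11 : 4 * n * (4 * n ^ 2) = 16 * n ^ 3 := by ring
      omega
  · intro c hc e1
    have h1 := num_le' (N := 360) h e1
    rw [hd1] at h1
    have : (4 : ℕ) ^ 14 ≤ 1 * (360 * c) := h14.trans (hnum.trans h1)
    norm_num at this
    omega
  · intro x hx c hc e1
    have hc0 : c ≠ 0 := by
      rintro rfl
      rw [mul_zero, zero_mul] at e1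
      exact hM0 e1.symm
    rcases ha with rfl | rfl
    · rw [pow_zero, mul_one, heq] at e1
      exact sporB_spec (mono_mul mono_TD4 12) spor_TD4' hx hc hc0 (p ^ f) e1
    · have h1 := (full_eq h e1 rfl).1
      rw [hd1, one_mul] at h1
      exact sporB_spec mono_TD4 spor_TD4 hx hc hc0 (p ^ f) h1
  · intro X t g N' c hX htp hc e1
    rcases ha with rfl | rfl
    · rw [pow_zero, mul_one] at e1
      obtain ⟨h2, h3⟩ := cross_core0 h hX htp hc e1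
        ((P_le' h (by omega) hX.hp htp).trans (sq_le5 (by omega)))
      rw [← pow_mul] at h2
      have h4 := c_lin h2
      rw [hd1, one_mul] at h3
      have h5 : (p ^ f) ^ 12 * (p ^ f) ^ 14 ≤ (p ^ f) ^ 16 * 45 := by
        calc (p ^ f) ^ 12 * (p ^ f) ^ 14 ≤ _ := Nat.mul_le_mul_left _ hnum
          _ ≤ _ := h3
          _ ≤ ((p ^ f) ^ 5) ^ 3 * (5 * 9 * p ^ f) := Nat.mul_le_mul_left _ h4
          _ = _ := by ring
      have h6 : (p ^ f) ^ 12 * (p ^ f) ^ 14 = (p ^ f) ^ 16 * (p ^ f) ^ 10 := by rw [← pow_add, ← pow_add]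
      rw [h6] at h5
      have h7 := Nat.le_of_mul_le_mul_left h5 (pow_pos (by omega) _)
      have h8 : 2 ^ 10 ≤ (p ^ f) ^ 10 := Nat.pow_le_pow_left hq 10
      omega
    · have hp2 := hfull rfl
      have hq7 : 7 ≤ p ^ f := by
        rcases (q_cases hq hsm).2 with h1 | h1 | h1
        · exact absurd (h4p h1.symm) hp2
        · exact h1
        · exfalso
          have h2 : 2 ∣ p ^ f := by rw [h1]; norm_num
          exact hp2 ((Nat.prime_dvd_prime_iff_eq Nat.prime_two hp).1 (Nat.prime_two.dvd_of_dvd_pow h2)).symm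
      obtain ⟨h1, h2, h3⟩ := cross_core h hX htp hc e1 (P_le' h (by omega) hX.hp htp)
      rw [hd1, one_mul] at h3
      have h4 : c ≤ 36 * (p ^ f + 1) := by
        refine c_lin (h2.trans ?_)
        have h5 : (p ^ f) ^ 2 + p ^ f + 1 ≤ (p ^ f + 1) ^ 2 := by nlinarith
        calc (((p ^ f) ^ 2 + p ^ f + 1) ^ 2) ^ 9 ≤ (((p ^ f + 1) ^ 2) ^ 2) ^ 9 :=
              Nat.pow_le_pow_left (Nat.pow_le_pow_left h5 2) 9
          _ = _ := by rw [← pow_mul, ← pow_mul]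
      exact absurd (h3.trans (Nat.mul_le_mul_left _ h4)) (not_le.2 (big hq7))
  · intro g X k hr hg hc hcd e1
    rcases ha with rfl | rfl
    · rw [pow_zero, mul_one] at e1
      exact same_zero N hna h .TD4 hr hg hc hcd e1
    · exact (same_full h hc e1 rfl).elim

theorem a_cases (h : Art.Real .TD4 p f M) {x a : ℕ} (e : x * p ^ a = M) (h12 : 12 * f ∣ a) :
    a = 0 ∨ a = f * 12 := by
  have h1 := a_le h e
  have h2 : NN .TD4 = 12 := rfl
  rw [h2] at h1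
  obtain ⟨j, rfl⟩ := h12
  have hf := h.hf
  have h5 : j ≤ 1 := by
    by_contra hcon
    have : 12 * f * 2 ≤ 12 * f * j := Nat.mul_le_mul_left _ (by omega)
    omega
  interval_cases j
  · left; rfl
  · right; ring

/-- `q = 2` -/
theorem har2 {t a : ℕ} (ht : t.Prime) (ht2 : t ≠ 2) (hd : t ^ a ∣ 2 ^ 12 * num .TD4 2) (hlt : 32 < t ^ a)
    (hm : 13 ∣ t ^ a - 1) : False := by
  have e1 : 2 ^ 12 * num .TD4 2 = 2 ^ 12 * (3 ^ 4 * (7 ^ 2 * 13)) := by decide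
  rw [e1] at hd
  have hc : ∀ r : ℕ, r.Prime → t ≠ r → (t ^ a).Coprime r := fun r hr h => Nat.Coprime.pow_left _
    ((Nat.coprime_primes ht hr).2 h)
  have h1 : t ^ a ∣ 3 ^ 4 * (7 ^ 2 * 13) :=
    (Nat.Coprime.pow_right 12 (hc 2 Nat.prime_two ht2)).dvd_of_dvd_mul_left hd
  have h13 : t = 3 ∨ t = 7 ∨ t = 13 ∨ t ^ a = 1 := by
    by_contra hcon
    push Not at hcon
    obtain ⟨c3, c7, c13, c1⟩ := hcon
    have h2 := (Nat.Coprime.pow_right 4 (hc 3 Nat.prime_three c3)).dvd_of_dvd_mul_left h1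
    have h3 := (Nat.Coprime.pow_right 2 (hc 7 (by norm_num) c7)).dvd_of_dvd_mul_left h2
    have h4 : (t ^ a).Coprime 13 := hc 13 (by norm_num) c13
    have h5 := Nat.dvd_gcd (dvd_refl (t ^ a)) h3
    rw [h4] at h5
    exact c1 (Nat.dvd_one.1 h5)
  rcases h13 with rfl | rfl | rfl | h13
  · have h2 : 3 ^ a ∣ 3 ^ 4 :=
      (Nat.Coprime.pow_left a (by norm_num : Nat.Coprime 3 (7 ^ 2 * 13))).dvd_of_dvd_mul_right h1
    have h3 : a ≤ 4 := (Nat.pow_dvd_pow_iff_le_right (by norm_num)).1 h2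
    interval_cases a <;> revert hlt hm <;> decide
  · have h2 : 7 ^ a ∣ 7 ^ 2 * 13 :=
      (Nat.Coprime.pow_left a (by norm_num : Nat.Coprime 7 (3 ^ 4))).dvd_of_dvd_mul_left h1
    have h3 : 7 ^ a ∣ 7 ^ 2 := (Nat.Coprime.pow_left a (by norm_num : Nat.Coprime 7 13)).dvd_of_dvd_mul_right h2
    have h4 : a ≤ 2 := (Nat.pow_dvd_pow_iff_le_right (by norm_num)).1 h3
    interval_cases a <;> revert hlt hm <;> decide
  · have hpos : 0 < a := by
      rw [Nat.pos_iff_ne_zero]; rintro rfl; norm_num at hlt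
    have h2 : 13 ∣ 13 ^ a := dvd_pow_self _ (by omega)
    have h3 : 13 ^ a - 1 + 1 = 13 ^ a := Nat.sub_add_cancel (by omega)
    have h4 : 13 ∣ 1 := (Nat.dvd_add_right hm).1 (h3 ▸ h2)
    exact absurd h4 (by norm_num)
  · omega

theorem aux {F : Type} [Field F] [Fintype F] (hp : p.Prime) (hf : 1 ≤ f) (hF : Fintype.card F = (p ^ f) ^ 3)
    {M : ℕ} (hMc : Nat.card (twistedD4 F (p ^ f)) = M) (h : Art.Real .TD4 p f M)
    {L : Type u} [Group L] (eL : L ≃* twistedD4 F (p ^ f))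
    {G : Type v} [Group G] [Finite G] (hZ : center G = ⊥)
    (hcs : Set.range (fun g : G => (centralizer ({g} : Set G)).index) =
      Set.range (fun g : L => (centralizer ({g} : Set L)).index)) : Nonempty (G ≃* L) := by
  have : Finite (GL chevD4.Idx F) := inferInstance
  have hqp : IsPrimePow (p ^ f) := hp.isPrimePow.pow (by omega)
  obtain ⟨hs, hnc⟩ := (S1071.result hqp hF)
  have hq := h.q_ge
  have hpm : ¬ p ∣ mm .F4 (p ^ f) := m12_not_dvd hp hf rfl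
  have hcyc : CycExact (twistedD4 F (p ^ f)) (mm .F4 (p ^ f)) := by
    refine exact_tD4_12 hqp hF ?_
    show ((((p ^ f) ^ 4 - (p ^ f) ^ 2 + 1 : ℕ)) : ℤ) = _
    rw [Nat.cast_add, Nat.cast_sub (le_pow _ (Nat.one_le_pow _ _ hp.pos) (by norm_num))]
    push_cast; ring
  have hb : ∀ H : Subgroup (twistedD4 F (p ^ f)), H ≠ ⊤ → (p ^ f) ^ 5 ≤ H.index := by
    intro H hH
    have h1 := H934.HeisTwD4.bound_3D4 hqp hF hs H hH
    exact le_of_sq (k := 5) h1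
  have hm1 : 1 < mm .F4 (p ^ f) := one_lt_mm (Or.inl rfl) hq
  have hm6 := mm_coprime_six (Y := .F4) (Or.inl rfl) (q := p ^ f) (by omega)
  have hm2 : ¬ 2 ∣ mm .F4 (p ^ f) := by
    intro h2
    have h3 : 2 ∣ Nat.gcd (mm .F4 (p ^ f)) 6 := Nat.dvd_gcd h2 (by norm_num)
    rw [hm6] at h3
    exact absurd h3 (by norm_num)
  have hnum := num_ge hq
  have heq : M = (p ^ f) ^ 12 * num .TD4 (p ^ f) := by
    have h3 : dd .TD4 (p ^ f) * M = M := one_mul _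
    rw [← h3]; exact h.eq
  obtain ⟨e'⟩ := final_gen (L := twistedD4 F (p ^ f)) (fun n hn => by cases hn) h (m := mm .F4 (p ^ f))
    (b := (p ^ f) ^ 5) (by
      have h1 : 2 ^ 12 * 2 ^ 14 ≤ (p ^ f) ^ 12 * (p ^ f) ^ 14 :=
        Nat.mul_le_mul (Nat.pow_le_pow_left hq 12) (Nat.pow_le_pow_left hq 14)
      have h2 : (p ^ f) ^ 12 * (p ^ f) ^ 14 ≤ M := heq ▸ Nat.mul_le_mul_left _ hnum
      norm_num at h1
      omega) hnc hMc hm1 hm2 hpm hcyc hb (by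
      have h1 : P p M = (p ^ f) ^ 12 := h.P_self
      rw [h1, heq]
      refine Nat.mul_le_mul_left _ (le_trans ?_ hnum)
      have h2 : mm .F4 (p ^ f) ≤ (p ^ f) ^ 4 := by
        show (p ^ f) ^ 4 - (p ^ f) ^ 2 + 1 ≤ _
        have h3 : 1 ≤ (p ^ f) ^ 2 := Nat.one_le_pow _ _ (by omega)
        have h4 : (p ^ f) ^ 2 ≤ (p ^ f) ^ 4 := le_pow _ (by omega) (by norm_num)
        omega
      calc mm .F4 (p ^ f) ^ 2 ≤ ((p ^ f) ^ 4) ^ 2 := Nat.pow_le_pow_left h2 2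
        _ = (p ^ f) ^ 8 := by rw [← pow_mul]
        _ ≤ _ := le_pow _ (by omega) (by norm_num)) (by
      intro t a ht htp hd hlt hmd
      by_cases hq2 : p ^ f = 2
      · have hp2 : p = 2 := by
          have h3 : p ∣ 2 := hq2 ▸ dvd_pow_self p (by omega)
          exact (Nat.prime_dvd_prime_iff_eq hp Nat.prime_two).1 h3
        rw [hq2] at hmd hlt
        rw [heq, hq2] at hd
        exact har2 ht (by rw [← hp2]; exact htp) hd hlt hmd
      · have h1 := ((Nat.pow_le_pow_right ht.pos ((ht.pow_dvd_iff_le_factorization h.M_ne).1 hd) : t ^ a ≤ P t M)).trans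
          ((h.P_other_le ht htp).trans ((P_le' h (by omega) ht htp).trans (sq_le5 (by omega))))
        omega) hZ (hcs.trans (cs_congr eL)) (by
      intro Γ _ _ N hN hNs a hna hC e h12 _ _ hno
      exact ident h N hna hC e (a_cases h e (ex12 hp hf h12)) hno)
  exact ⟨e'.trans eL.symm⟩

end TD4

/-- **Thompson's conjecture for `³D₄(q)`.** -/
theorem triD4 {L : Type u} [Group L] (hL : Iso3D4 L) {G : Type v} [Group G] [Finite G] (hZ : center G = ⊥)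
    (hcs : Set.range (fun g : G => (centralizer ({g} : Set G)).index) =
      Set.range (fun g : L => (centralizer ({g} : Set L)).index)) : Nonempty (G ≃* L) := by
  obtain ⟨F, _, _, q, hq, hF, ⟨e⟩⟩ := hL
  obtain ⟨p, f, hp, hf, rfl⟩ := (isPrimePow_nat_iff _).1 hq
  refine TD4.aux hp hf hF rfl ⟨hp, hf, trivial, ?_⟩ e hZ hcs
  rw [table.{0}.td4 F _ hq hF]
  change 1 * _ = (p ^ f) ^ 12 * (_ * _ * _)
  ring

end Cfsg.Agent.H992.TC
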